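import Cfsg.Agent.TwoTimesPSL.ElemBase
import Cfsg.Agent.Classical.PSLTwoFour
import Cfsg.Agent.Classical.PSLTwoTorus
import Cfsg.Agent.Classical.Transvections
import Cfsg.Agent.RedundantPSL.Main

/-!
Sylow 2-subgroups of `PSL₂(q)`: elementary with a transitive torus, or dihedral.
-/

set_option autoImplicit false
set_option linter.unusedSectionVars false
set_option linter.style.haveILetI false

namespace CfsgLib.TwoTimesPSL

open Subgroup
open CfsgLib.SL2C (SL bor dg mt)
open CfsgLib.Linear.SmallSub (P2 proj)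

/-- An elementary Sylow subgroup with a transitive torus generating the automizer. -/
structure ElemL {L : Type*} [Group L] (P : Sylow 2 L) (r : L) (n : ℕ) : Prop where
  exp : ∀ x ∈ (P : Subgroup L), x * x = 1
  hn : 2 ≤ n
  card : Nat.card (P : Subgroup L) = 2 ^ n
  rodd : Odd (orderOf r)
  rN : r ∈ normalizer ((P : Subgroup L) : Set L)
  rtrans : ∀ a ∈ (P : Subgroup L), ∀ b ∈ (P : Subgroup L), a ≠ 1 → b ≠ 1 →
    ∃ i : ℕ, r ^ i * a * (r ^ i)⁻¹ = b
  rnorm : ∀ g ∈ normalizer ((P : Subgroup L) : Set L),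
    ∃ i : ℕ, ∀ p ∈ (P : Subgroup L), g * p * g⁻¹ = r ^ i * p * (r ^ i)⁻¹

/-- An element permuting the three involutions of a Sylow four-group. -/
theorem elemL_of_klein {L : Type*} [Group L] [Finite L] (P : Sylow 2 L)
    (hP : IsKleinFour (P : Subgroup L))
    (hone : ∀ a b : L, a * a = 1 → a ≠ 1 → b * b = 1 → b ≠ 1 → IsConj a b) :
    ∃ r, ElemL P r 2 := by
  classical
  haveI : Fact (Nat.Prime 2) := ⟨Nat.prime_two⟩
  have hsq : ∀ x ∈ (P : Subgroup L), x * x = 1 := fun x hx =>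
    CfsgLib.Linear.FourGroups.klein_sq hP hx
  have hcomm : ∀ a ∈ (P : Subgroup L), ∀ b ∈ (P : Subgroup L), a * b = b * a := fun a ha b hb =>
    CfsgLib.Linear.FourGroups.klein_comm hP ha hb
  have htrans : ∀ a ∈ (P : Subgroup L), ∀ b ∈ (P : Subgroup L), a ≠ 1 → b ≠ 1 →
      ∃ g ∈ normalizer ((P : Subgroup L) : Set L), g * a * g⁻¹ = b := by
    intro a ha b hb ha1 hb1
    obtain ⟨c, hc⟩ := isConj_iff.1 (hone a b (hsq a ha) ha1 (hsq b hb) hb1)
    have hPc : (P : Subgroup L) ≤ centralizer ({b} : Set L) := fun x hx =>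
      mem_centralizer_singleton_iff.2 (hcomm x hx b hb)
    have hPc' : (P : Subgroup L).map (MulAut.conj c).toMonoidHom ≤ centralizer ({b} : Set L) := by
      rintro _ ⟨x, hx, rfl⟩
      refine mem_centralizer_singleton_iff.2 ?_
      rw [← hc]
      show c * x * c⁻¹ * (c * a * c⁻¹) = c * a * c⁻¹ * (c * x * c⁻¹)
      calc c * x * c⁻¹ * (c * a * c⁻¹) = c * (x * a) * c⁻¹ := by group
        _ = _ := by rw [hcomm x hx a ha]; group
    set C := centralizer ({b} : Set L)
    obtain ⟨Q, hQ⟩ := ((P.isPGroup'.map (MulAut.conj c).toMonoidHom).comap_subtype (K := C)).exists_le_sylow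
    obtain ⟨d, hd⟩ := MulAction.exists_smul_eq C Q (P.subtype hPc)
    refine ⟨(d : L) * c, mem_normalizer_of_forward fun x hx => ?_, ?_⟩
    · have hm : (⟨c * x * c⁻¹, hPc' ⟨x, hx, rfl⟩⟩ : C) ∈ (Q : Subgroup C) := hQ ⟨x, hx, rfl⟩
      have hm' : MulAut.conj d ⟨c * x * c⁻¹, hPc' ⟨x, hx, rfl⟩⟩ ∈ ((P.subtype hPc : Sylow 2 C) : Subgroup C) := by
        rw [← hd]; exact mem_map_of_mem _ hm
      have e : (d : L) * c * x * ((d : L) * c)⁻¹ = (d : L) * (c * x * c⁻¹) * (d : L)⁻¹ := by group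
      rw [e]
      exact hm'
    · calc (d : L) * c * a * ((d : L) * c)⁻¹ = (d : L) * (c * a * c⁻¹) * (d : L)⁻¹ := by group
        _ = b := by rw [hc, mem_centralizer_singleton_iff.1 d.2, mul_inv_cancel_right]
  set f := (P : Subgroup L).normalizerMonoidHom
  have hfa : ∀ (g : normalizer ((P : Subgroup L) : Set L)) (a : (P : Subgroup L)),
      ((f g a : (P : Subgroup L)) : L) = g * a * (g : L)⁻¹ := fun g a => rfl
  have hodd : Odd (Nat.card f.range) := by
    rw [← index_ker]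
    have hle : (P : Subgroup L).subgroupOf _ ≤ f.ker := fun x hx =>
      MulEquiv.ext fun a => Subtype.ext (by
        rw [hfa, hcomm _ (mem_subgroupOf.1 hx) _ a.2, mul_inv_cancel_right]
        rfl)
    refine Odd.of_dvd_nat ?_ (index_dvd_of_le hle)
    rw [← Nat.not_even_iff_odd, even_iff_two_dvd]
    exact (P.subtype le_normalizer).not_dvd_index
  obtain ⟨v, w, hv, hw, hv1, hw1, hvw, hall⟩ : ∃ v w, v ∈ (P : Subgroup L) ∧ w ∈ (P : Subgroup L) ∧
      v ≠ 1 ∧ w ≠ 1 ∧ v ≠ w ∧ ∀ x ∈ (P : Subgroup L), x = 1 ∨ x = v ∨ x = w ∨ x = v * w := by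
    haveI := hP
    have h4 := IsKleinFour.card_four (G := (P : Subgroup L))
    have key : ∀ a : (P : Subgroup L), ∃ b : (P : Subgroup L), b ≠ 1 ∧ b ≠ a := fun a => by
      by_contra hcon
      push Not at hcon
      have : Nat.card (P : Subgroup L) ≤ 2 := by
        refine (Nat.card_le_card_of_injective (fun b => if b = 1 then (0 : Fin 2) else 1) fun b b' e => ?_).trans_eq
          (Nat.card_fin 2)
        by_cases hb : b = 1 <;> by_cases hb' : b' = 1 <;> simp [hb, hb'] at e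
        · exact hb.trans hb'.symm
        · exact (hcon b hb).trans (hcon b' hb').symm
      omega
    obtain ⟨v, hv1, -⟩ := key 1
    obtain ⟨w, hw1, hwv⟩ := key v
    refine ⟨v, w, v.2, w.2, fun e => hv1 (Subtype.ext e), fun e => hw1 (Subtype.ext e),
      fun e => hwv (Subtype.ext e.symm), fun x hx => ?_⟩
    obtain ⟨V, hV, hvV, hwV, hVall⟩ := CfsgLib.Linear.FourGroups.exists_klein (hsq _ v.2)
      (fun e => hv1 (Subtype.ext e)) (hsq _ w.2) (fun e => hw1 (Subtype.ext e))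
      (fun e => hwv (Subtype.ext e.symm)) (hcomm _ v.2 _ w.2)
    have hle : V ≤ (P : Subgroup L) := fun z hz => by
      rcases hVall z hz with rfl | rfl | rfl | rfl
      exacts [one_mem _, v.2, w.2, mul_mem v.2 w.2]
    have e := eq_of_le_of_card_ge hle (by rw [h4, hV.card_four])
    exact hVall x (e.symm ▸ hx)
  obtain ⟨g1, hg1, hg1v⟩ := htrans v hv w hw hv1 hw1
  set γ : normalizer ((P : Subgroup L) : Set L) := ⟨g1, hg1⟩
  have hγ1 : f γ ≠ 1 := fun e => hvw (by
    have := congrArg (fun σ : MulAut (P : Subgroup L) => ((σ ⟨v, hv⟩ : (P : Subgroup L)) : L)) e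
    simp only [hfa, MulAut.one_apply] at this
    exact this.symm.trans hg1v)
  have h6 : Nat.card f.range ≤ 6 := by
    set I := {x : (P : Subgroup L) // x ≠ 1}
    have hI : Nat.card I = 3 := by
      haveI := Fintype.ofFinite (P : Subgroup L)
      rw [Nat.card_eq_fintype_card, Fintype.card_subtype_compl, Fintype.card_subtype_eq,
        ← Nat.card_eq_fintype_card, hP.card_four]
    let F0 : f.range → I × I := fun σ => (⟨σ.1 ⟨v, hv⟩, fun e => hv1 (by
        rw [MulEquiv.map_eq_one_iff] at e; exact congrArg Subtype.val e)⟩,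
      ⟨σ.1 ⟨w, hw⟩, fun e => hw1 (by rw [MulEquiv.map_eq_one_iff] at e; exact congrArg Subtype.val e)⟩)
    have hF0 : Function.Injective F0 := fun σ τ e => by
      have e1 : σ.1 ⟨v, hv⟩ = τ.1 ⟨v, hv⟩ := congrArg (fun p : I × I => p.1.1) e
      have e2 : σ.1 ⟨w, hw⟩ = τ.1 ⟨w, hw⟩ := congrArg (fun p : I × I => p.2.1) e
      refine Subtype.ext (MulEquiv.ext fun x => ?_)
      rcases hall x x.2 with h | h | h | h
      · rw [show x = 1 from Subtype.ext h, map_one, map_one]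
      · rw [show x = ⟨v, hv⟩ from Subtype.ext h, e1]
      · rw [show x = ⟨w, hw⟩ from Subtype.ext h, e2]
      · rw [show x = ⟨v, hv⟩ * ⟨w, hw⟩ from Subtype.ext h, map_mul, map_mul, e1, e2]
    have hne : ∀ σ, (F0 σ).1 ≠ (F0 σ).2 := fun σ e =>
      hvw (congrArg Subtype.val (σ.1.injective (congrArg Subtype.val e)))
    haveI := Fintype.ofFinite I
    refine le_trans (Nat.card_le_card_of_injective (fun σ => (⟨F0 σ, hne σ⟩ : {p : I × I // p.1 ≠ p.2}))
      fun σ τ e => hF0 (congrArg Subtype.val e)) ?_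
    let G1 : {p : I × I // p.1 ≠ p.2} → Σ a : I, {b : I // b ≠ a} := fun p => ⟨p.1.1, p.1.2, fun e => p.2 e.symm⟩
    refine le_trans (Nat.card_le_card_of_injective G1 fun p p' e => Subtype.ext ?_) ?_
    · exact congrArg (fun s : Σ a : I, {b : I // b ≠ a} => (s.1, (s.2 : I))) e
    · rw [Nat.card_sigma]
      simp only [Nat.card_eq_fintype_card, Fintype.card_subtype_compl, Fintype.card_subtype_eq,
        Finset.sum_const, Finset.card_univ, smul_eq_mul]
      rw [Nat.card_eq_fintype_card] at hI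
      rw [hI]
  have h3 : Nat.card f.range = 3 := by
    have hne : Nat.card f.range ≠ 1 := fun e => by
      haveI := (Nat.card_eq_one_iff_unique.1 e).1
      exact hγ1 (congrArg Subtype.val (Subsingleton.elim (⟨f γ, γ, rfl⟩ : f.range) 1))
    have h5 : Nat.card f.range ≠ 5 := fun e => by
      -- an element of order five fixes the three involutions
      have ho : orderOf (f γ) = 5 := by
        have hd : orderOf (f γ) ∣ 5 := by
          rw [← e]
          exact orderOf_dvd_natCard f.range (⟨γ, rfl⟩ : f γ ∈ f.range)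
        exact ((Nat.dvd_prime (by norm_num)).1 hd).resolve_left fun h => hγ1 (orderOf_eq_one_iff.1 h)
      let ψ : MulAut (P : Subgroup L) →* Equiv.Perm {x : (P : Subgroup L) // x ≠ 1} :=
        { toFun := fun σ => Equiv.Perm.subtypePerm σ.toEquiv fun x => by simp
          map_one' := Equiv.ext fun x => rfl
          map_mul' := fun σ τ => Equiv.ext fun x => rfl }
      have hψ : Function.Injective ψ := fun σ τ h => MulEquiv.ext fun x => by
        by_cases hx : x = 1
        · rw [hx, map_one, map_one]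
        · exact congrArg Subtype.val (Equiv.ext_iff.1 h ⟨x, hx⟩)
      have h1 := orderOf_dvd_natCard (ψ (f γ))
      rw [orderOf_injective ψ hψ, ho] at h1
      haveI := Fintype.ofFinite (P : Subgroup L)
      rw [Nat.card_perm, Nat.card_eq_fintype_card, Fintype.card_subtype_compl, Fintype.card_subtype_eq,
        ← Nat.card_eq_fintype_card, hP.card_four] at h1
      norm_num [Nat.factorial] at h1
    have h0 : 0 < Nat.card f.range := Nat.card_pos
    obtain ⟨j, hj⟩ := hodd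
    omega
  obtain ⟨a, m, hm, ham⟩ := Nat.exists_eq_two_pow_mul_odd (orderOf_pos γ).ne'
  set γ' := γ ^ 2 ^ a
  have hγ'o : Odd (orderOf (γ' : L)) := by
    rw [orderOf_coe]
    refine hm.of_dvd_nat (orderOf_dvd_of_pow_eq_one ?_)
    rw [← pow_mul, ← ham, pow_orderOf_eq_one]
  haveI : Fact (Nat.Prime 3) := ⟨Nat.prime_three⟩
  have hne' : (⟨f γ', γ', rfl⟩ : f.range) ≠ 1 := fun e => hγ1 (by
    have h1 : (f γ) ^ 2 ^ a = 1 := by rw [← map_pow]; exact congrArg Subtype.val e
    have h2 : (f γ) ^ 3 = 1 := by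
      rw [← h3]
      exact orderOf_dvd_iff_pow_eq_one.1 (orderOf_dvd_natCard f.range (⟨γ, rfl⟩ : f γ ∈ f.range))
    have h4 := Nat.dvd_gcd (orderOf_dvd_of_pow_eq_one h1) (orderOf_dvd_of_pow_eq_one h2)
    rw [((Nat.coprime_primes Nat.prime_two Nat.prime_three).2 (by norm_num)).pow_left a] at h4
    exact orderOf_eq_one_iff.1 (Nat.dvd_one.1 h4))
  have hgen : ∀ g : normalizer ((P : Subgroup L) : Set L), ∃ i : ℕ, f g = f γ' ^ i := fun g => by
    obtain ⟨i, hi⟩ := (mem_powers_of_prime_card (p := 3) h3 (g' := (⟨f g, g, rfl⟩ : f.range)) hne')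
    exact ⟨i, (congrArg Subtype.val hi).symm⟩
  have hnorm : ∀ g ∈ normalizer ((P : Subgroup L) : Set L),
      ∃ i : ℕ, ∀ p ∈ (P : Subgroup L), g * p * g⁻¹ = (γ' : L) ^ i * p * ((γ' : L) ^ i)⁻¹ := fun g hg => by
    obtain ⟨i, hi⟩ := hgen ⟨g, hg⟩
    refine ⟨i, fun p hp => ?_⟩
    have := congrArg (fun σ : MulAut (P : Subgroup L) => ((σ ⟨p, hp⟩ : (P : Subgroup L)) : L)) hi
    simp only [← map_pow, hfa, SubmonoidClass.coe_pow] at this
    exact this
  refine ⟨γ', hsq, le_rfl, by rw [hP.card_four]; rfl, hγ'o, γ'.2, fun x hx y hy hx1 hy1 => ?_, hnorm⟩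
  obtain ⟨g, hg, hgx⟩ := htrans x hx y hy hx1 hy1
  obtain ⟨i, hi⟩ := hnorm g hg
  exact ⟨i, (hi x hx).symm.trans hgx⟩

variable {F : Type*} [Field F] [Fintype F]

/-- Characteristic two. -/
theorem elemL_even (hF : 3 < Fintype.card F) (heven : Even (Fintype.card F)) :
    ∃ (P : Sylow 2 (P2 F)) (r : P2 F) (n : ℕ), ElemL P r n := by
  classical
  haveI : Fact (Nat.Prime 2) := ⟨Nat.prime_two⟩
  obtain ⟨p, hp⟩ := CharP.exists F
  obtain ⟨n, hpp, hn⟩ := FiniteField.card F p
  have hp2 : p = 2 := by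
    rw [hn, even_iff_two_dvd] at heven
    exact ((Nat.prime_dvd_prime_iff_eq Nat.prime_two hpp).1 (Nat.prime_two.dvd_of_dvd_pow heven)).symm
  subst hp2
  have hsgn : ∀ a : Fˣ, a * a = 1 → a = 1 := fun a ha => by
    have h1 : ((a : F) - 1) ^ 2 = 0 := by
      rw [CharTwo.sub_eq_add, CharTwo.add_sq, one_pow, pow_two, ← Units.val_mul, ha, Units.val_one,
        CharTwo.add_self_eq_zero]
    exact Units.ext (sub_eq_zero.1 (pow_eq_zero_iff two_ne_zero |>.1 h1))
  have hn2 : 2 ≤ (n : ℕ) := by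
    by_contra hcon
    have h1 : (n : ℕ) = 1 := by have := n.pos; omega
    rw [h1] at hn
    omega
  set u : Multiplicative F →* SL F := MonoidHom.mk' (fun b => bor 1 b.toAdd) fun b b' => by
    rw [CfsgLib.SL2C.bor_mul, one_mul]
    congr 1
    simp [add_comm]
  let U : Subgroup (P2 F) := ((proj (F := F)).comp u).range
  have hUcard : Nat.card U = 2 ^ (n : ℕ) := by
    rw [← hn, ← Nat.card_eq_fintype_card, ← Nat.card_congr (Multiplicative.toAdd (α := F))]
    refine (Nat.card_congr (MonoidHom.ofInjective ?_).toEquiv).symm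
    refine (injective_iff_map_eq_one _).2 fun b hb => ?_
    have h1 := CfsgLib.Linear.FourGroups.proj_eq_one.1 hb
    exact Multiplicative.toAdd.injective (CfsgLib.SL2C.bor_mem_center_iff.1 h1).2
  have hfac : (Nat.card (P2 F)).factorization 2 = (n : ℕ) := by
    have h := CfsgLib.Linear.PSLTwo.mul_card (F := F)
    rw [CfsgLib.Linear.PSLTwo.gcd_eq_one (by rwa [Nat.card_eq_fintype_card]), one_mul,
      Nat.card_eq_fintype_card (α := F), hn] at h
    have h2 : ((2 : ℕ) ^ (n : ℕ)) ^ 2 - 1 ≠ 0 := by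
      have := Nat.one_lt_pow two_ne_zero (Nat.one_lt_two_pow n.pos.ne')
      omega
    rw [show Nat.card (P2 F) = _ from h, Nat.factorization_mul (by positivity) h2, Finsupp.add_apply,
      Nat.prime_two.factorization_pow, Finsupp.single_eq_same,
      Nat.factorization_eq_zero_of_not_dvd, add_zero]
    rw [← pow_mul]
    have h4 : 2 ∣ (2 : ℕ) ^ ((n : ℕ) * 2) := dvd_pow_self 2 (by positivity)
    have h5 : 0 < (2 : ℕ) ^ ((n : ℕ) * 2) := Nat.two_pow_pos _
    omega
  let P : Sylow 2 (P2 F) := Sylow.ofCard U (by rw [hUcard, hfac])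
  have hmem : ∀ x, x ∈ (P : Subgroup (P2 F)) → ∃ b : F, proj (bor (1 : Fˣ) b) = x := by
    rintro x ⟨b, rfl⟩
    exact ⟨b.toAdd, rfl⟩
  have hin : ∀ b : F, proj (bor (1 : Fˣ) b) ∈ (P : Subgroup (P2 F)) := fun b =>
    ⟨Multiplicative.ofAdd b, rfl⟩
  have hconjb : ∀ (a : Fˣ) (y b : F), bor a y * bor 1 b * (bor a y)⁻¹ = bor 1 ((a : F) ^ 2 * b) := by
    intro a y b
    rw [mul_inv_eq_iff_eq_mul, CfsgLib.SL2C.bor_mul, CfsgLib.SL2C.bor_mul, mul_one, one_mul]
    congr 1
    have e : (a : F) * ((a⁻¹ : Fˣ) : F) = 1 := by rw [← Units.val_mul, mul_inv_cancel, Units.val_one]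
    simp only [Units.val_one, inv_one]
    linear_combination (-(a : F) * b) * e
  obtain ⟨ε, hε⟩ := IsCyclic.exists_generator (α := Fˣ)
  set r := proj (dg ε)
  have hrpow : ∀ (i : ℕ) (b : F),
      r ^ i * proj (bor (1 : Fˣ) b) * (r ^ i)⁻¹ = proj (bor (1 : Fˣ) ((((ε ^ i : Fˣ)) : F) ^ 2 * b)) := by
    intro i b
    rw [← map_pow, ← map_inv, ← map_mul, ← map_mul, ← map_pow]
    congr 1
    exact hconjb (ε ^ i) 0 b
  have hgen : ∀ a : Fˣ, ∃ i : ℕ, ε ^ i = a := fun a =>
    (Submonoid.mem_powers_iff _ _).1 (mem_powers_iff_mem_zpowers.2 (hε a))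
  refine ⟨P, r, n, fun x hx => ?_, hn2, hUcard, ?_, mem_normalizer_of_forward fun x hx => ?_,
    fun x hx y hy hx1 hy1 => ?_, fun g hg => ?_⟩
  · obtain ⟨b, rfl⟩ := hmem x hx
    rw [← map_mul, CfsgLib.SL2C.bor_mul, one_mul]
    rw [show ((1 : Fˣ) : F) * b + b * (((1 : Fˣ)⁻¹ : Fˣ) : F) = b + b by simp, CharTwo.add_self_eq_zero]
    exact map_one (proj (F := F)) ▸ congrArg proj (map_one (dg (F := F)))
  · refine Odd.of_dvd_nat ?_ ((orderOf_map_dvd _ _).trans ((orderOf_map_dvd _ _).trans (orderOf_dvd_natCard ε)))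
    rw [Nat.card_units, Nat.card_eq_fintype_card, hn]
    exact Nat.Even.sub_odd (Nat.one_le_two_pow) (even_two.pow_of_ne_zero n.pos.ne') odd_one
  · obtain ⟨b, rfl⟩ := hmem x hx
    have := hrpow 1 b
    rw [pow_one] at this
    rw [this]
    exact hin _
  · obtain ⟨b, rfl⟩ := hmem x hx
    obtain ⟨b', rfl⟩ := hmem y hy
    have hb : b ≠ 0 := fun e => hx1 (by
      rw [e]; exact map_one (proj (F := F)) ▸ congrArg proj (map_one (dg (F := F))))
    have hb' : b' ≠ 0 := fun e => hy1 (by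
      rw [e]; exact map_one (proj (F := F)) ▸ congrArg proj (map_one (dg (F := F))))
    obtain ⟨c, hc⟩ := FiniteField.isSquare_of_char_two (ringChar.eq F 2) (b' / b)
    have hc0 : c ≠ 0 := fun e => div_ne_zero hb' hb (by rw [hc, e, mul_zero])
    obtain ⟨i, hi⟩ := hgen (Units.mk0 c hc0)
    refine ⟨i, ?_⟩
    rw [hrpow, hi, Units.val_mk0, pow_two, ← hc, div_mul_cancel₀ _ hb]
  · obtain ⟨g0, rfl⟩ := CfsgLib.Linear.FourGroups.proj_surj g
    obtain ⟨b', hb'⟩ := hmem _ ((mem_normalizer_iff.1 hg _).1 (hin 1))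
    rw [← map_inv, ← map_mul, ← map_mul] at hb'
    have heq : g0 * bor 1 1 * g0⁻¹ = bor 1 b' := by
      have h1 := CfsgLib.Linear.FourGroups.proj_eq_one.1
        (show proj ((bor (1 : Fˣ) b')⁻¹ * (g0 * bor 1 1 * g0⁻¹)) = 1 by rw [map_mul, map_inv, hb', inv_mul_cancel])
      rcases CfsgLib.SL2C.center_cases h1 with h2 | h2
      · exact (inv_mul_eq_one.1 h2).symm
      · have h3 : (CfsgLib.SL2C.negOne F : SL F) = 1 := by
          rw [CfsgLib.SL2C.negOne, show (-1 : Fˣ) = 1 from hsgn _ (by simp), map_one]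
        exact (inv_mul_eq_one.1 (h2.trans h3)).symm
    have hb'0 : b' ≠ 0 := fun e => by
      rw [e, show bor (1 : Fˣ) (0 : F) = 1 from map_one (dg (F := F)), conj_eq_one_iff,
        show (1 : SL F) = bor 1 0 from (map_one (dg (F := F))).symm] at heq
      exact one_ne_zero (CfsgLib.SL2C.bor_inj heq).2
    obtain ⟨a, y, rfl⟩ := CfsgLib.SL2C.exists_bor_of_apply
      (CfsgLib.SL2C.eq_of_conj_bor (mul_one (1 : Fˣ)) one_ne_zero (mul_inv_eq_iff_eq_mul.1 heq).symm hb'0).1
    obtain ⟨i, hi⟩ := hgen a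
    refine ⟨i, fun x hx => ?_⟩
    obtain ⟨b, rfl⟩ := hmem x hx
    rw [hrpow, hi, ← map_inv, ← map_mul, ← map_mul, hconjb]

/-- Odd characteristic, dihedral case. -/
theorem dihedral_sylow (h8 : Fintype.card F % 8 = 1 ∨ Fintype.card F % 8 = 7) :
    ∃ (P : Sylow 2 (P2 F)) (m : ℕ), 4 ≤ m ∧ Nonempty ((P : Subgroup (P2 F)) ≃* DihedralGroup m) := by
  classical
  haveI : Fact (Nat.Prime 2) := ⟨Nat.prime_two⟩
  have hodd : Odd (Fintype.card F) := Nat.odd_iff.2 (by omega)
  obtain ⟨x, U, m, hx, hx1, hxU, hUC, hUcyc, hm, hcU, hcC, hinv2, hout⟩ :=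
    CfsgLib.Linear.FourGroups.centralizer_shape hodd
  obtain ⟨hfac, hm0⟩ := CfsgLib.RedundantPSL.factorization_card hodd hm
  have hm4 : 4 ∣ m := by
    rcases h8 with h | h
    · rw [if_pos (by omega)] at hm; omega
    · rw [if_neg (by omega)] at hm; omega
  obtain ⟨a, o, ho, hmao⟩ := Nat.exists_eq_two_pow_mul_odd hm0
  have hfm : m.factorization 2 = a := by
    rw [hmao, Nat.factorization_mul (by positivity) ho.pos.ne', Finsupp.add_apply,
      Nat.prime_two.factorization_pow, Finsupp.single_eq_same,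
      Nat.factorization_eq_zero_of_not_dvd (by rw [← even_iff_two_dvd]; exact Nat.not_even_iff_odd.2 ho),
      add_zero]
  have ha4 : 4 ≤ 2 ^ a := by
    have := (Nat.prime_two.pow_dvd_iff_le_factorization (k := 2) hm0).1 (by simpa using hm4)
    rw [hfm] at this
    exact Nat.pow_le_pow_right (show 0 < 2 by norm_num) this
  obtain ⟨u, hu⟩ := hUcyc.exists_generator
  have huo : orderOf (u : P2 F) = m := by
    rw [orderOf_coe, orderOf_eq_card_of_forall_mem_zpowers hu, hcU]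
  set g := (u : P2 F) ^ o
  have hgo : orderOf g = 2 ^ a := by
    rw [orderOf_pow' _ ho.pos.ne', huo, hmao, Nat.gcd_mul_left_left, Nat.mul_div_cancel _ ho.pos]
  obtain ⟨w, hw, hwU⟩ : ∃ w ∈ centralizer ({x} : Set (P2 F)), w ∉ U := by
    by_contra hcon
    push Not at hcon
    have := card_le_of_le (show centralizer ({x} : Set (P2 F)) ≤ U from hcon)
    rw [hcC, hcU] at this
    omega
  have hgU : g ∈ U := pow_mem u.2 o
  obtain ⟨hw2, -, hwinv⟩ := hout w hw hwU
  obtain ⟨D, -, -, hDc, hDe⟩ := CfsgLib.Linear.PSLTwo.exists_dihedral g w hw2 (hwinv g hgU)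
    fun h => hwU ((zpowers_le.2 hgU) h)
  rw [hgo] at hDc hDe
  refine ⟨Sylow.ofCard D ?_, 2 ^ a, ha4, hDe⟩
  rw [hDc, hfac, hfm, pow_succ']

end CfsgLib.TwoTimesPSL
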