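import Cfsg.Agent.TwoTimesPSL.DihConj
import Cfsg.Agent.FiLarge.Chz.Transfer
import Cfsg.Agent.S3225

/-!
The dihedral configuration does not occur in a simple group.
-/

set_option autoImplicit false
set_option linter.style.haveILetI false

namespace CfsgLib.TwoTimesPSL

open Subgroup

variable {G : Type*} [Group G]

/-- Normal subgroups of index two do not occur. -/
theorem dih_no_index_two [Finite G] [IsSimpleGroup G] (hG : ¬ IsMulCommutative G) (H : Subgroup G) : H.index ≠ 2 := by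
  intro h
  haveI := Subgroup.normal_of_index_eq_two h
  haveI : Fact (Nat.Prime 2) := ⟨Nat.prime_two⟩
  rcases IsSimpleGroup.eq_bot_or_eq_top_of_normal H inferInstance with rfl | rfl
  · rw [Subgroup.index_bot] at h
    haveI := isCyclic_of_prime_card h
    letI := IsCyclic.commGroup (α := G)
    exact hG ⟨⟨fun u v => mul_comm u v⟩⟩
  · rw [Subgroup.index_top] at h
    omega

namespace DihCtx

variable {t : G} {L R P : Subgroup G} {m : ℕ} {y a z : G} {q : ℕ} {S : Subgroup G}
  (F : DihCtx t L R P m y a z q S)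
include F

/-- No element outside `R` has a centraliser of index two in `S`. -/
theorem no_big_centralizer [Finite G] {u : G} (hu : u ∈ S) (huR : u ∉ R)
    (hi : (centralizer ({u} : Set G)).relIndex S = 2) : False := by
  have key : ∀ s₁ ∈ S, ∀ s₂ ∈ S, ¬ Commute s₁ u → ¬ Commute s₂ u → Commute (s₁ * s₂) u := by
    intro s₁ h₁ s₂ h₂ n₁ n₂
    refine mem_centralizer_singleton_iff.1 (mem_subgroupOf.1
      ((Subgroup.mul_mem_iff_of_index_two (H := (centralizer ({u} : Set G)).subgroupOf S) hi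
        (a := ⟨s₁, h₁⟩) (b := ⟨s₂, h₂⟩)).2 (iff_of_false ?_ ?_)))
    · exact fun h => n₁ (mem_centralizer_singleton_iff.1 (mem_subgroupOf.1 h))
    · exact fun h => n₂ (mem_centralizer_singleton_iff.1 (mem_subgroupOf.1 h))
  have ht : ¬ Commute t u := fun h => by
    have := F.tS u hu huR
    rw [← h.eq, mul_inv_cancel_right] at this
    exact F.z_ne (mul_eq_left.1 this.symm)
  obtain ⟨k, j, -, -, hj⟩ := F.act hu
  have hjodd := F.j_odd hu huR hj
  by_cases ha : Commute a u
  · rw [← ha.eq, mul_inv_cancel_right, eq_comm, mul_eq_left, F.zpow_eq_one, F.hmq] at hj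
    obtain ⟨c, rfl⟩ := hj
    rw [Int.odd_iff] at hjodd
    push_cast at hjodd
    rw [mul_assoc] at hjodd
    omega
  · have hc := key t (F.RS F.tR) a (F.RS (F.PR F.ha)) ht ha
    have h1 : u * (t * a) * u⁻¹ = t * a := by rw [← hc.eq, mul_inv_cancel_right]
    rw [show u * (t * a) * u⁻¹ = u * t * u⁻¹ * (u * a * u⁻¹) by group, F.tS u hu huR, hj, mul_assoc t, mul_right_inj,
      ← mul_assoc, (F.z_comm_P F.ha).eq, mul_assoc, mul_eq_left, F.hz, ← zpow_add, F.zpow_eq_one, F.hmq] at h1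
    obtain ⟨c, hc⟩ := h1
    obtain ⟨d, rfl⟩ := hjodd
    push_cast at hc
    rw [mul_assoc] at hc
    omega

/-- Squares of elements outside `R` lie outside `P`. -/
theorem sq_not_P [Finite G] [IsSimpleGroup G] (hG : ¬ IsMulCommutative G) {x : G} (hxS : x ∈ S) (hxR : x ∉ R) :
    x * x ∉ P := by
  haveI : Fact (Nat.Prime 2) := ⟨Nat.prime_two⟩
  intro hx2
  let Q : Subgroup G :=
    { carrier := {s | s ∈ S ∧ (s ∈ P ∨ s * x⁻¹ ∈ P)}
      one_mem' := ⟨one_mem S, Or.inl (one_mem P)⟩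
      mul_mem' := by
        rintro u v ⟨hu, hu'⟩ ⟨hv, hv'⟩
        refine ⟨mul_mem hu hv, ?_⟩
        rcases hu' with hu' | hu' <;> rcases hv' with hv' | hv'
        · exact Or.inl (mul_mem hu' hv')
        · exact Or.inr (mul_assoc u v x⁻¹ ▸ mul_mem hu' hv')
        · refine Or.inr ?_
          have := mul_mem hu' (F.normP x hxS v hv')
          rwa [show u * x⁻¹ * (x * v * x⁻¹) = u * v * x⁻¹ by group] at this
        · refine Or.inl ?_
          have := mul_mem (mul_mem hu' (F.normP x hxS _ hv')) hx2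
          rwa [show u * x⁻¹ * (x * (v * x⁻¹) * x⁻¹) * (x * x) = u * v by group] at this
      inv_mem' := by
        rintro u ⟨hu, hu'⟩
        refine ⟨inv_mem hu, hu'.imp inv_mem fun h => ?_⟩
        have := mul_mem (F.normP x⁻¹ (inv_mem hxS) _ (inv_mem h)) (inv_mem hx2)
        rwa [show x⁻¹ * (u * x⁻¹)⁻¹ * x⁻¹⁻¹ * (x * x)⁻¹ = u⁻¹ * x⁻¹ by group] at this }
  have hQS : Q ≤ S := fun s hs => hs.1
  have htQ : t ∉ Q := fun h => h.2.elim F.tP fun h' => hxR (by
    have := mul_mem (inv_mem (F.PR h')) F.tR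
    rwa [show (t * x⁻¹)⁻¹ * t = x by group] at this)
  have hQi : Q.relIndex S = 2 := by
    rw [Subgroup.relIndex, Subgroup.index_eq_two_iff]
    refine ⟨⟨t, F.RS F.tR⟩, fun b => ?_⟩
    simp only [mem_subgroupOf, Subgroup.coe_mul]
    have hone : (b : G) ∈ Q ∨ (b : G) * t ∈ Q := by
      by_cases hb : (b : G) ∈ R
      · rcases F.memR hb with h | h
        · exact Or.inl ⟨b.2, Or.inl h⟩
        · exact Or.inr ⟨mul_mem b.2 (F.RS F.tR), Or.inl ((F.tcomm (F.hR hb)).eq ▸ h)⟩
      · have hw : (b : G) * x⁻¹ ∈ R := (F.mul_mem_R b.2 (inv_mem hxS)).2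
          ⟨fun h => absurd h hb, fun h => absurd (by simpa using inv_mem h) hxR⟩
        rcases F.memR hw with h | h
        · exact Or.inl ⟨b.2, Or.inr h⟩
        · refine Or.inr ⟨mul_mem b.2 (F.RS F.tR), Or.inr ?_⟩
          have h2 : t * x⁻¹ = x⁻¹ * (t * z) := by
            have := F.tS x hxS hxR
            rw [← this]; group
          rw [mul_assoc, h2, ← mul_assoc, ← mul_assoc, ← (F.tcomm (F.hR hw)).eq]
          exact mul_mem h F.z_mem
    rcases hone with h | h
    · exact Or.inr ⟨h, fun h' => htQ (by simpa using mul_mem (inv_mem h) h')⟩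
    · exact Or.inl ⟨h, fun h' => htQ (by simpa using mul_mem (inv_mem h') h)⟩
  rcases CfsgLib.FiLarge.Chz.extremal_transfer S Q F.hSi hQS hQi F.tt with ⟨M, -, hM, -⟩ | ⟨g, hgQ, hgo⟩
  · exact dih_no_index_two hG M hM
  set u := g⁻¹ * t * g with hu
  have hu2 : u * u = 1 := by
    rw [hu]
    calc g⁻¹ * t * g * (g⁻¹ * t * g) = g⁻¹ * (t * t) * g := by group
      _ = 1 := by rw [F.tt]; group
  have hut : IsConj t u := isConj_iff.2 ⟨g⁻¹, by rw [inv_inv]⟩
  have hu1 : u ≠ 1 := fun e => F.t_ne (isConj_one_left.1 (e ▸ hut))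
  by_cases huR : u ∈ R
  · have huP : u ∈ P := hgQ.2.resolve_right fun h => hxR (by
      have := mul_mem (inv_mem (F.PR h)) huR
      rwa [show (u * x⁻¹)⁻¹ * u = x by group] at this)
    exact F.ntz (hut.trans (F.isConj_z (F.PL huP) hu2 hu1))
  refine F.no_big_centralizer (hQS hgQ) huR ?_
  have hmap : (S ⊓ centralizer ({u} : Set G)).map (MulAut.conj g).toMonoidHom
      = S.map (MulAut.conj g).toMonoidHom ⊓ centralizer ({t} : Set G) := by
    rw [Subgroup.map_inf _ _ _ (MulAut.conj g).injective]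
    congr 1
    ext w
    rw [Subgroup.mem_map_equiv, mem_centralizer_singleton_iff, mem_centralizer_singleton_iff, MulAut.conj_symm_apply, hu]
    constructor <;> intro h
    · calc w * t = g * (g⁻¹ * w * g * (g⁻¹ * t * g)) * g⁻¹ := by group
        _ = g * (g⁻¹ * t * g * (g⁻¹ * w * g)) * g⁻¹ := by rw [h]
        _ = t * w := by group
    · calc g⁻¹ * w * g * (g⁻¹ * t * g) = g⁻¹ * (w * t) * g := by group
        _ = g⁻¹ * (t * w) * g := by rw [h]
        _ = _ := by group
  have hcard : Nat.card (S ⊓ centralizer ({u} : Set G) : Subgroup G) = Nat.card R := by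
    rw [← Subgroup.card_map_of_injective (f := (MulAut.conj g).toMonoidHom) (MulAut.conj g).injective, hmap]
    exact dih_card_eq_of_odd inf_le_right F.hR ((F.hS2.map _).to_le inf_le_left) F.hR2 hgo F.hRodd
  have h1 := (R.subgroupOf S).card_mul_index
  have h2 := ((centralizer ({u} : Set G)).subgroupOf S).card_mul_index
  rw [Nat.card_congr (Subgroup.subgroupOfEquivOfLe F.RS).toEquiv, show (R.subgroupOf S).index = 2 from F.idx] at h1
  rw [← Subgroup.inf_subgroupOf_left, Nat.card_congr (Subgroup.subgroupOfEquivOfLe inf_le_left).toEquiv, hcard,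
    ← h1] at h2
  rw [← Subgroup.inf_relIndex_left]
  exact Nat.eq_of_mul_eq_mul_left Nat.card_pos h2

/-- The square of an element outside `R` is `t·y^i`, with a congruence on the exponents. -/
theorem sq_eq [Finite G] [IsSimpleGroup G] (hG : ¬ IsMulCommutative G) {x : G} (hxS : x ∈ S) (hxR : x ∉ R)
    {k j : ℤ} (hk : Odd k) (hxy : x * y * x⁻¹ = y ^ k) (hxa : x * a * x⁻¹ = a * y ^ j) :
    ∃ i : ℤ, x * x = t * y ^ i ∧ (m : ℤ) ∣ k * i - i - 2 * q := by
  have hxx := F.sq_mem_R hxS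
  have hp : t * (x * x) ∈ P := (F.memR hxx).resolve_left (F.sq_not_P hG hxS hxR)
  have hfix : x * (x * x) * x⁻¹ = x * x := by group
  obtain ⟨i, hi | hi⟩ := F.memP _ hp
  · have hxx' : x * x = t * y ^ i := by rw [← hi, ← mul_assoc, F.tt, one_mul]
    refine ⟨i, hxx', ?_⟩
    rw [hxx', show x * (t * y ^ i) * x⁻¹ = x * t * x⁻¹ * (x * y ^ i * x⁻¹) by group, F.tS x hxS hxR,
      ← conj_zpow, hxy, ← zpow_mul, mul_assoc, mul_right_inj, F.hz, ← zpow_add, F.zpow_eq] at hfix
    obtain ⟨c, hc⟩ := hfix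
    refine ⟨c - 1, ?_⟩
    rw [F.hmq] at hc ⊢
    push_cast at hc ⊢
    linear_combination hc
  · exfalso
    have hxx' : x * x = t * (a * y ^ i) := by rw [← hi, ← mul_assoc, F.tt, one_mul]
    rw [hxx', show x * (t * (a * y ^ i)) * x⁻¹ = x * t * x⁻¹ * ((x * a * x⁻¹) * (x * y ^ i * x⁻¹)) by group,
      F.tS x hxS hxR, ← conj_zpow, hxy, hxa, ← zpow_mul, mul_assoc, mul_right_inj, mul_assoc a, ← zpow_add,
      ← mul_assoc, (F.z_comm_P F.ha).eq, mul_assoc, mul_right_inj, F.hz, ← zpow_add, F.zpow_eq] at hfix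
    obtain ⟨c, hc⟩ := hfix
    obtain ⟨d, rfl⟩ := hk
    obtain ⟨e, rfl⟩ := F.j_odd hxS hxR hxa
    rw [F.hmq] at hc
    push_cast at hc
    have : (2 : ℤ) * (q + e + d * i - 2 * q * c) = -1 := by linarith
    omega

/-- The final contradiction. -/
theorem false' [Finite G] [IsSimpleGroup G] (hG : ¬ IsMulCommutative G) : False := by
  classical
  haveI : Fact (Nat.Prime 2) := ⟨Nat.prime_two⟩
  -- the least order outside `R`
  have hex : ∃ n : ℕ, ∃ w ∈ S, w ∉ R ∧ orderOf w = 2 ^ n := by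
    have hne : ¬ S ≤ R := fun h => by
      have := F.idx
      rw [Subgroup.relIndex_eq_one.2 h] at this
      omega
    obtain ⟨w, hw, hwR⟩ := SetLike.not_le_iff_exists.1 hne
    obtain ⟨n, hn⟩ := IsPGroup.iff_orderOf.1 F.hS2 ⟨w, hw⟩
    exact ⟨n, w, hw, hwR, by rw [← hn, Subgroup.orderOf_mk]⟩
  obtain ⟨x, hxS, hxR, hxn⟩ := Nat.find_spec hex
  set n := Nat.find hex with hn
  have hn1 : 1 ≤ n := by
    by_contra h0
    rw [show n = 0 by omega, pow_zero, orderOf_eq_one_iff] at hxn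
    exact hxR (hxn ▸ one_mem R)
  have hev : Even (Nat.card G) := even_iff_two_dvd.2 (F.ht ▸ orderOf_dvd_natCard t)
  set T : Sylow 2 G := F.hS2.toSylow (fun h2 => (Nat.not_even_iff_odd.2 F.hSi) (even_iff_two_dvd.2 h2)) with hT
  obtain ⟨g, hg⟩ := Cfsg.Agent.S3225.result hev (dih_no_index_two hG) T R F.RS F.idx n hn1
    (fun w hw hwR => by
      obtain ⟨e, he⟩ := IsPGroup.iff_orderOf.1 F.hS2 ⟨w, hw⟩
      rw [← Subgroup.orderOf_coe] at he
      have := Nat.find_min' hex ⟨w, hw, hwR, he⟩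
      rw [he]
      exact Nat.pow_lt_pow_right one_lt_two (by omega))
    x hxS hxn
  have hxm : x ^ m = 1 := by
    have := F.powR hg
    rwa [conj_pow, mul_inv_eq_one, mul_eq_left] at this
  obtain ⟨k, j, hk, hxy, hxa⟩ := F.act hxS
  obtain ⟨i, hxx, hrel⟩ := F.sq_eq hG hxS hxR hk hxy hxa
  have htc : Commute t (y ^ i) := F.tcomm (F.PC (F.mem_zpow i))
  have hpow : ∀ (w : G) (r : ℤ), w * w = t * y ^ r → w ^ m = y ^ (2 * (q : ℤ) * r) := by
    intro w r hw
    rw [show m = 2 * (2 * q) by rw [F.hmq]; ring, pow_mul, sq, hw, (F.tcomm (F.PC (F.mem_zpow r))).mul_pow,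
      pow_mul t 2 q, sq, F.tt, one_pow, one_mul, ← zpow_natCast, ← zpow_mul]
    congr 1
    push_cast; ring
  have hi : Even i := by
    have h := hpow x i hxx
    rw [hxm, eq_comm, F.zpow_eq_one, F.hmq] at h
    obtain ⟨c, hc⟩ := h
    push_cast at hc
    refine ⟨c, ?_⟩
    have hq : (0 : ℤ) < q := by exact_mod_cast F.q_pos
    nlinarith
  -- the other generator `x * a`
  have haS : a ∈ S := F.RS (F.PR F.ha)
  have hwR : x * a ∉ R := fun h => hxR (by simpa using mul_mem h (inv_mem (F.PR F.ha)))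
  have hwy : x * a * y * (x * a)⁻¹ = y ^ (-k) := by
    calc x * a * y * (x * a)⁻¹ = x * (a * y * a⁻¹) * x⁻¹ := by group
      _ = (x * y * x⁻¹)⁻¹ := by rw [F.aya]; group
      _ = _ := by rw [hxy, zpow_neg]
  have hwa : x * a * a * (x * a)⁻¹ = a * y ^ j := by
    rw [← hxa, mul_assoc x a a, F.aa, mul_one, mul_inv_rev, F.ainv, ← mul_assoc]
  obtain ⟨i', hww, hrel'⟩ := F.sq_eq hG (mul_mem hxS haS) hwR hk.neg hwy hwa
  have hi' : (m : ℤ) ∣ i' + j + i := by
    have e1 : x * a * (x * a) = t * y ^ (-(j + i)) := by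
      calc x * a * (x * a) = x * a * x⁻¹ * (x * x) * a := by group
        _ = t * (a * (y ^ j * y ^ i) * a) := by
          rw [hxa, hxx, show a * y ^ j * (t * y ^ i) = t * (a * (y ^ j * y ^ i)) by
            rw [← mul_assoc, ← (F.tcomm (F.PC (F.mem_a_zpow j))).eq]; group]
          group
        _ = _ := by rw [← zpow_add, mul_assoc a, F.y_mul_a, ← mul_assoc a, F.aa, one_mul]
    rw [hww, mul_right_inj, F.zpow_eq] at e1
    convert e1 using 1
    ring
  have hi'odd : Odd i' := by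
    obtain ⟨c, hc⟩ := hi'
    obtain ⟨d, rfl⟩ := F.j_odd hxS hxR hxa
    obtain ⟨e, rfl⟩ := hi
    rw [F.hmq] at hc
    push_cast at hc
    exact ⟨2 * q * c - d - e - 1, by linarith⟩
  have hwm : (x * a) ^ m ≠ 1 := by
    rw [hpow _ _ hww, Ne, F.zpow_eq_one, F.hmq]
    rintro ⟨c, hc⟩
    obtain ⟨d, rfl⟩ := hi'odd
    push_cast at hc
    have hq : (0 : ℤ) < q := by exact_mod_cast F.q_pos
    have : (2 : ℤ) * (c - d) = 1 := by nlinarith
    omega
  -- `1 + k ≡ m/2`
  have hk1 : (m : ℤ) ∣ (1 + k) - 2 * q := by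
    obtain ⟨d, hd⟩ := hi'odd
    obtain ⟨p, hp⟩ := F.hpow
    have hcop : IsCoprime (m : ℤ) i' := by
      rw [hp]; push_cast
      exact IsCoprime.pow_left ⟨-d, 1, by rw [hd]; ring⟩
    refine hcop.dvd_of_dvd_mul_right ?_
    have h4 : (m : ℤ) ∣ 4 * q := ⟨1, by rw [F.hmq]; push_cast; ring⟩
    have e2 : (m : ℤ) ∣ -(k * i' + i' + 2 * q) := by convert hrel' using 1; ring
    have e3 := (dvd_add (dvd_neg.2 e2) (dvd_neg.2 (dvd_mul_of_dvd_left h4 (d + 1))))
    convert e3 using 1
    rw [hd]; ring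
  -- the centraliser of `x²` in `S`
  set e := x * x with he
  have hei : y ^ i * y ^ i ≠ 1 := fun h => by
    rw [← zpow_add, F.zpow_eq_one] at h
    obtain ⟨d, hd⟩ := hk
    have h2 : (m : ℤ) ∣ k * i - i := by
      rw [hd, show (2 * d + 1) * i - i = d * (i + i) by ring]
      exact h.mul_left d
    have := dvd_sub h2 hrel
    rw [show k * i - i - (k * i - i - 2 * (q : ℤ)) = 2 * q by ring, ← F.zpow_eq_one, ← F.hz] at this
    exact F.z_ne this
  set W := S ⊓ centralizer ({e} : Set G) with hW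
  have heR : e ∈ R := F.sq_mem_R hxS
  have hnea : ¬ Commute a e := fun h => hei (by
    have := F.centre_sq (F.PR (F.mem_zpow i)) ((Commute.refl y).zpow_left i) ?_
    · exact this
    have h2 : Commute t a := F.tcomm (F.PC F.ha)
    have h3 := h2.mul_left h.symm
    rwa [hxx, ← mul_assoc, F.tt, one_mul] at h3)
  have hxW : x ∈ W := ⟨hxS, mem_centralizer_singleton_iff.2 (by rw [he, mul_assoc])⟩
  have hyW : ∀ l : ℤ, y ^ l ∈ W ∧ t * y ^ l ∈ W := by
    intro l
    have c1 : Commute (y ^ l) e := by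
      rw [hxx]
      exact (F.tcomm (F.PC (F.mem_zpow l))).symm.mul_right ((Commute.refl y).zpow_zpow l i)
    have c2 : Commute t e := F.tcomm (F.hR heR)
    exact ⟨⟨F.RS (F.PR (F.mem_zpow l)), mem_centralizer_singleton_iff.2 c1.eq⟩,
      ⟨F.RS (mul_mem F.tR (F.PR (F.mem_zpow l))), mem_centralizer_singleton_iff.2 (c2.mul_left c1).eq⟩⟩
  have hWpow : ∀ s ∈ W, s ^ m = 1 := by
    intro s hs
    by_cases hsR : s ∈ R
    · exact F.powR hsR
    set r := x⁻¹ * s with hr
    have hrR : r ∈ R := (F.mul_mem_R (inv_mem hxS) hs.1).2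
      ⟨fun h => absurd (by simpa using inv_mem h) hxR, fun h => absurd h hsR⟩
    have hrW : r ∈ W := mul_mem (inv_mem hxW) hs
    have hnot : ∀ l : ℤ, a * y ^ l ∉ W := fun l h => hnea
      (mem_centralizer_singleton_iff.1 (by simpa using (mul_mem h (inv_mem (hyW l).1) : a * y ^ l * (y ^ l)⁻¹ ∈ W).2))
    have hsq : ∃ l : ℤ, Even l ∧ s * s = t * y ^ l := by
      obtain ⟨d, hd⟩ := hk
      obtain ⟨l, h | h | h | h⟩ := F.casesR hrR
      · refine ⟨(1 + k) * l + i, ((show Even (1 + k) from ⟨d + 1, by rw [hd]; ring⟩).mul_right l).add hi, ?_⟩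
        have hs' : s = x * y ^ l := by rw [← h, hr, mul_inv_cancel_left]
        calc s * s = x * y ^ l * x⁻¹ * (x * x) * y ^ l := by rw [hs']; group
          _ = y ^ (k * l) * (t * y ^ i) * y ^ l := by
            rw [← conj_zpow, hxy, ← zpow_mul, show x * x = t * y ^ i from hxx]
          _ = t * (y ^ (k * l) * y ^ i * y ^ l) := by
            rw [← mul_assoc (y ^ (k * l)), ← (F.tcomm (F.PC (F.mem_zpow _))).eq]; group
          _ = _ := by rw [← zpow_add, ← zpow_add]; congr 2; ring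
      · exact absurd (h ▸ hrW) (hnot l)
      · refine ⟨2 * q + ((1 + k) * l + i),
          (even_two_mul (q : ℤ)).add (((show Even (1 + k) from ⟨d + 1, by rw [hd]; ring⟩).mul_right l).add hi), ?_⟩
        have hs' : s = x * (t * y ^ l) := by rw [← h, hr, mul_inv_cancel_left]
        calc s * s = (x * t * x⁻¹) * (x * y ^ l * x⁻¹) * (x * x) * (t * y ^ l) := by rw [hs']; group
          _ = t * z * y ^ (k * l) * (t * y ^ i) * (t * y ^ l) := by
            rw [F.tS x hxS hxR, ← conj_zpow, hxy, ← zpow_mul, show x * x = t * y ^ i from hxx]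
          _ = t * (z * y ^ (k * l) * (t * t) * (y ^ i * y ^ l)) := by
            rw [mul_assoc t z, ← mul_assoc (z * y ^ (k * l)) t t]
            simp only [mul_assoc]
            congr 3
            rw [← mul_assoc (y ^ i) t, ← htc.eq, mul_assoc t (y ^ i)]
          _ = _ := by rw [F.tt, mul_one, F.hz, ← zpow_add, ← zpow_add, ← zpow_add]; congr 2; ring
      · refine absurd ?_ (hnot l)
        have h5 := mul_mem (hyW 0).2 hrW
        rwa [h, zpow_zero, mul_one, ← mul_assoc t t, F.tt, one_mul] at h5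
    obtain ⟨l, ⟨d, rfl⟩, hss⟩ := hsq
    rw [hpow s _ hss, F.zpow_eq_one]
    exact ⟨d, by rw [F.hmq]; push_cast; ring⟩
  have hWi : W.relIndex S = 2 := by
    rw [Subgroup.relIndex, Subgroup.index_eq_two_iff]
    refine ⟨⟨a, haS⟩, fun b => ?_⟩
    simp only [mem_subgroupOf, Subgroup.coe_mul]
    have hRW : ∀ r ∈ R, r ∈ W ∨ r * a ∈ W := by
      intro r hr
      obtain ⟨l, h | h | h | h⟩ := F.casesR hr <;> subst h
      · exact Or.inl (hyW l).1
      · refine Or.inr ?_
        rw [mul_assoc, F.y_mul_a, ← mul_assoc, F.aa, one_mul]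
        exact (hyW _).1
      · exact Or.inl (hyW l).2
      · refine Or.inr ?_
        rw [mul_assoc, mul_assoc, F.y_mul_a, ← mul_assoc a, F.aa, one_mul]
        exact (hyW _).2
    have hone : (b : G) ∈ W ∨ (b : G) * a ∈ W := by
      by_cases hb : (b : G) ∈ R
      · exact hRW _ hb
      · have hw : x⁻¹ * (b : G) ∈ R := (F.mul_mem_R (inv_mem hxS) b.2).2
          ⟨fun h => absurd (by simpa using inv_mem h) hxR, fun h => absurd h hb⟩
        rcases hRW _ hw with h | h
        · exact Or.inl (by simpa using mul_mem hxW h)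
        · exact Or.inr (by simpa [← mul_assoc] using mul_mem hxW h)
    have hnot : a ∉ W := fun h => hnea (mem_centralizer_singleton_iff.1 h.2)
    rcases hone with h | h
    · exact Or.inr ⟨h, fun h' => hnot (by simpa using mul_mem (inv_mem h) h')⟩
    · exact Or.inl ⟨h, fun h' => hnot (by simpa using mul_mem (inv_mem h') h)⟩
  set Ce := centralizer ({e} : Set G) with hCe
  have hW2 : IsPGroup 2 W := F.hS2.to_le inf_le_left
  have hWodd : Odd (W.relIndex Ce) := by
    obtain ⟨V, hV⟩ := (hW2.comap_of_injective Ce.subtype Ce.subtype_injective :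
      IsPGroup 2 (W.subgroupOf Ce)).exists_le_sylow
    set V₀ := (V : Subgroup Ce).map Ce.subtype with hV₀
    have hVCe : V₀ ≤ Ce := by rintro - ⟨v, -, rfl⟩; exact v.2
    have hWV : W ≤ V₀ := fun w hw => ⟨⟨w, hw.2⟩, hV (mem_subgroupOf.2 hw), rfl⟩
    have hV2 : IsPGroup 2 V₀ := V.isPGroup'.map _
    by_cases hVW : V₀ ≤ W
    · rw [show W = V₀ from le_antisymm hWV hVW, Subgroup.relIndex, hV₀, Subgroup.subgroupOf,
        Subgroup.comap_map_eq_self_of_injective Ce.subtype_injective]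
      exact Nat.not_even_iff_odd.1 fun h => V.not_dvd_index (even_iff_two_dvd.1 h)
    exfalso
    -- otherwise `V₀` is a conjugate of `S` centralising `e`
    obtain ⟨c, -, hc⟩ := dih_conj_into (le_top : S ≤ ⊤) F.hS2
      (by rw [Subgroup.relIndex_top_right]; exact F.hSi) (le_top : V₀ ≤ ⊤) hV2
    have hge : Nat.card S ≤ Nat.card V₀ := by
      obtain ⟨r, hr⟩ := hV2.index (W.subgroupOf V₀)
      have h1 := (W.subgroupOf V₀).card_mul_index
      have h2 := (W.subgroupOf S).card_mul_index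
      rw [Nat.card_congr (Subgroup.subgroupOfEquivOfLe hWV).toEquiv, hr] at h1
      rw [Nat.card_congr (Subgroup.subgroupOfEquivOfLe inf_le_left).toEquiv,
        show (W.subgroupOf S).index = 2 from hWi] at h2
      rcases r with - | r
      · exact absurd (Subgroup.relIndex_eq_one.1 (show W.relIndex V₀ = 1 from hr)) hVW
      · rw [← h1, ← h2, pow_succ]
        refine Nat.mul_le_mul_left _ ?_
        have : 0 < 2 ^ r := pow_pos two_pos r
        omega
    let ψ : V₀ → S := fun v => ⟨c * v * c⁻¹, hc v v.2⟩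
    have hψ : Function.Surjective ψ :=
      ((Nat.bijective_iff_injective_and_card ψ).2
        ⟨fun v w e => Subtype.ext (mul_left_cancel (mul_right_cancel (congrArg Subtype.val e))),
          le_antisymm (Nat.card_le_card_of_injective ψ fun v w e =>
            Subtype.ext (mul_left_cancel (mul_right_cancel (congrArg Subtype.val e)))) hge⟩).2
    have hce : ∀ s ∈ S, Commute (c * e * c⁻¹) s := fun s hs => by
      obtain ⟨v, hv⟩ := hψ ⟨s, hs⟩
      have hvs : c * v * c⁻¹ = s := congrArg Subtype.val hv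
      have hve := mem_centralizer_singleton_iff.1 (hVCe v.2)
      rw [← hvs]
      show c * e * c⁻¹ * (c * v * c⁻¹) = c * v * c⁻¹ * (c * e * c⁻¹)
      calc c * e * c⁻¹ * (c * v * c⁻¹) = c * (e * v) * c⁻¹ := by group
        _ = c * (v * e) * c⁻¹ := by rw [hve]
        _ = _ := by group
    have heS : c * e * c⁻¹ ∈ S := hc e (hWV ⟨F.RS heR, mem_centralizer_singleton_iff.2 rfl⟩)
    have hcR : c * e * c⁻¹ ∈ R :=
      F.inter _ heS (mem_centralizer_singleton_iff.2 (hce t (F.RS F.tR)).eq)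
    have h1 := F.centre_sq hcR (hce y (F.RS (F.PR F.hy))) (hce a haS)
    rw [show c * e * c⁻¹ * (c * e * c⁻¹) = c * (e * e) * c⁻¹ by group, mul_inv_eq_one, mul_eq_left, hxx,
      F.t_mul_sq (F.PC (F.mem_zpow i))] at h1
    exact hei h1
  -- the conjugate of `x²` in `⟨y⟩` commutes with `x * a`
  obtain ⟨l, hl⟩ := F.sqR hg
  have hf : g * e * g⁻¹ = y ^ (2 * l) := by rw [← hl, he]; group
  have hcom : Commute (x * a) (g * e * g⁻¹) := by
    show x * a * (g * e * g⁻¹) = g * e * g⁻¹ * (x * a)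
    refine mul_inv_eq_iff_eq_mul.1 ?_
    rw [hf, ← conj_zpow, hwy, ← zpow_mul, F.zpow_eq]
    obtain ⟨d, hd⟩ := hk1
    refine ⟨-l * (1 + 2 * d) + l * 0, ?_⟩
    rw [F.hmq] at hd ⊢
    push_cast at hd ⊢
    linear_combination (-(2 * l)) * hd
  have hgw : g⁻¹ * (x * a) * g ∈ Ce := by
    rw [hCe, mem_centralizer_singleton_iff]
    calc g⁻¹ * (x * a) * g * e = g⁻¹ * (x * a * (g * e * g⁻¹)) * g := by group
      _ = g⁻¹ * (g * e * g⁻¹ * (x * a)) * g := by rw [hcom.eq]
      _ = _ := by group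
  obtain ⟨r, hr⟩ := IsPGroup.iff_orderOf.1 F.hS2 ⟨x * a, mul_mem hxS haS⟩
  rw [Subgroup.orderOf_mk] at hr
  have hgw2 : IsPGroup 2 (zpowers (g⁻¹ * (x * a) * g)) := by
    refine IsPGroup.of_card (n := r) ?_
    rw [Nat.card_zpowers, ← hr]
    simpa [MulAut.conj_apply] using
      orderOf_injective (MulAut.conj g⁻¹).toMonoidHom (MulAut.conj g⁻¹).injective (x * a)
  obtain ⟨c, -, hc⟩ := dih_conj_into (inf_le_right : W ≤ Ce) hW2 hWodd (zpowers_le.2 hgw) hgw2
  have h1 := hWpow _ (hc _ (mem_zpowers _))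
  rw [show c * (g⁻¹ * (x * a) * g) * c⁻¹ = (c * g⁻¹) * (x * a) * (c * g⁻¹)⁻¹ by group, conj_pow,
    mul_inv_eq_one, mul_eq_left] at h1
  exact hwm h1

end DihCtx

/-- The dihedral configuration is impossible. -/
theorem DihData.false [Finite G] [IsSimpleGroup G] (hG : ¬ IsMulCommutative G) {t : G} {L R P : Subgroup G}
    {m : ℕ} (h : DihData t L R P m) : False := by
  obtain ⟨y, a, z, q, F⟩ := h.exists_frame
  obtain ⟨S, hS⟩ := F.exists_ctx hG
  exact hS.false' hG

end CfsgLib.TwoTimesPSL
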