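import Cfsg.Agent.TwoTimesPSL.Finish

/-!
Degree eight without translations: the conjugates of `t` in a Sylow subgroup of the normaliser lie in `tA`.
-/

set_option autoImplicit false
set_option linter.unusedSectionVars false
set_option linter.style.haveILetI false

namespace CfsgLib.TwoTimesPSL

open Subgroup
open Equiv (Perm)

/-- Two involutions with product of order dividing four generate at most eight elements. -/
theorem card_closure_pair_le {H : Type*} [Group H] [Finite H] {a b : H} (ha : a * a = 1) (hb : b * b = 1)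
    (hab : (a * b) ^ 4 = 1) : Nat.card (closure ({a, b} : Set H)) ≤ 8 := by
  have hai : a⁻¹ = a := inv_eq_of_mul_eq_one_right ha
  have hbi : b⁻¹ = b := inv_eq_of_mul_eq_one_right hb
  set Z := zpowers (a * b)
  set Za := zpowers a
  have hle : closure ({a, b} : Set H) ≤ Za ⊔ Z := by
    rw [closure_le]
    rintro x (rfl | rfl)
    · exact mem_sup_left (mem_zpowers x)
    · have h := (Za ⊔ Z).mul_mem (mem_sup_left (mem_zpowers a)) (mem_sup_right (mem_zpowers (a * x)))
      rwa [← mul_assoc, ha, one_mul] at h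
  have hn : Za ≤ normalizer (Z : Set H) := zpowers_le.2 (mem_normalizer_of_forward fun x hx => by
    obtain ⟨i, rfl⟩ := mem_zpowers_iff.1 hx
    rw [← conj_zpow, show a * (a * b) * a⁻¹ = (a * b)⁻¹ by rw [mul_inv_rev, hbi, hai, ← mul_assoc, ha, one_mul]]
    exact Z.zpow_mem (Z.inv_mem (mem_zpowers _)) i)
  have hsurj : Function.Surjective (fun p : Za × Z => (⟨(p.1 : H) * p.2,
      mul_mem (mem_sup_left p.1.2) (mem_sup_right p.2.2)⟩ : ↥(Za ⊔ Z))) := fun y => by
    obtain ⟨z, hz, w, hw, e⟩ := (CfsgLib.Solvable.mem_sup_of_le_normalizer hn).1 y.2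
    exact ⟨(⟨z, hz⟩, ⟨w, hw⟩), Subtype.ext e⟩
  have h1 : Nat.card Za ≤ 2 := by
    rw [Nat.card_zpowers]
    exact Nat.le_of_dvd two_pos (orderOf_dvd_of_pow_eq_one (by rw [pow_two, ha]))
  have h2 : Nat.card Z ≤ 4 := by
    rw [Nat.card_zpowers]
    exact Nat.le_of_dvd (by norm_num) (orderOf_dvd_of_pow_eq_one hab)
  refine (card_le_of_le hle).trans ((Nat.card_le_card_of_surjective _ hsurj).trans ?_)
  rw [Nat.card_prod]
  exact (Nat.mul_le_mul h1 h2)

variable {G : Type*} [Group G]

namespace Level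

variable {t : G} {R D : Subgroup G} {ρ : G} {n k : ℕ} {A : Subgroup G} (L : Level t R D ρ n k A)
include L

/-- Above the first level a conjugate of `t` in the normaliser acts trivially. -/
theorem act_eq_one_of_two_le [Finite G] (hk : 2 ≤ k) (hn3 : n = 3)
    {u : normalizer ((A ⊔ zpowers t : Subgroup G) : Set G)} (hu : ∃ g : G, g * t * g⁻¹ = u)
    (hfix : Nat.card {d : D // (u : G) * d * (u : G)⁻¹ = d} = 4) : False := by
  classical
  obtain ⟨g, hg⟩ := hu
  have hu2 : (u : G) * u = 1 := by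
    rw [← hg, show g * t * g⁻¹ * (g * t * g⁻¹) = g * (t * t) * g⁻¹ by group, L.base.t_sq]; group
  have huA : (u : G) ∈ normalizer (A : Set G) := L.normA u.2
  have hcA : ∀ a ∈ A, (u : G) * a * (u : G)⁻¹ ∈ A := fun a ha => (mem_normalizer_iff.1 huA a).1 ha
  let p : A →* A := MonoidHom.mk' (fun a => a ^ 2 ^ (k - 2))
    fun a b => Subtype.ext (L.pow_hom a.2 b.2 _)
  have h64 : 64 ≤ Nat.card p.range := by
    have h1 : Nat.card p.ker ≤ (2 ^ n) ^ (k - 2) := by
      refine le_trans ?_ (L.card_torsion (k - 2))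
      exact Nat.card_le_card_of_injective (fun a => ⟨a.1, congrArg Subtype.val a.2⟩)
        fun a b e => Subtype.ext (congrArg (fun z => z.1) e)
    have h2 : Nat.card p.ker * Nat.card p.range = (2 ^ n) ^ k := by rw [← index_ker, card_mul_index, L.card]
    refine Nat.le_of_mul_le_mul_left ?_ (show 0 < (2 ^ n) ^ (k - 2) from pow_pos (Nat.two_pow_pos n) _)
    calc (2 ^ n) ^ (k - 2) * 64 = (2 ^ n) ^ k := by
          rw [show (64 : ℕ) = (2 ^ n) ^ 2 by rw [hn3]; norm_num, ← pow_add, Nat.sub_add_cancel hk]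
      _ = _ := h2.symm
      _ ≤ _ := Nat.mul_le_mul_right _ h1
  have hq : ∀ b : p.range, ((b : A) : G) ^ 4 = 1 := by
    rintro ⟨_, a, rfl⟩
    show ((a : G) ^ 2 ^ (k - 2)) ^ 4 = 1
    rw [← pow_mul, show 2 ^ (k - 2) * 4 = 2 ^ k by
      rw [show (4 : ℕ) = 2 ^ 2 by norm_num, ← pow_add, Nat.sub_add_cancel hk]]
    exact L.hexp a a.2
  let φ : p.range →* A := MonoidHom.mk'
    (fun b => ⟨((b : A) : G) * ((u : G) * ((b : A) : G) * (u : G)⁻¹)⁻¹,
      A.mul_mem (b : A).2 (A.inv_mem (hcA _ (b : A).2))⟩) fun b c => Subtype.ext (by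
      show ((b : A) : G) * (c : A) * ((u : G) * (((b : A) : G) * (c : A)) * (u : G)⁻¹)⁻¹ =
        ((b : A) : G) * ((u : G) * ((b : A) : G) * (u : G)⁻¹)⁻¹ *
          (((c : A) : G) * ((u : G) * ((c : A) : G) * (u : G)⁻¹)⁻¹)
      set x := ((b : A) : G)
      set y := ((c : A) : G)
      set x' := ((u : G) * x * (u : G)⁻¹)⁻¹
      set y' := ((u : G) * y * (u : G)⁻¹)⁻¹
      have e : ((u : G) * (x * y) * (u : G)⁻¹)⁻¹ = y' * x' := by simp only [x', y']; group
      rw [e]
      calc x * y * (y' * x') = x * ((y * y') * x') := by group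
        _ = x * (x' * (y * y')) := by
            rw [L.comm _ (A.mul_mem (c : A).2 (A.inv_mem (hcA _ (c : A).2))) _ (A.inv_mem (hcA _ (b : A).2))]
        _ = x * x' * (y * y') := by group)
  have hker : Nat.card φ.ker ≤ 4 := by
    rw [← hfix]
    have hmem : ∀ b : φ.ker, (u : G) * (((b : p.range) : A) : G) * (u : G)⁻¹ = (((b : p.range) : A) : G) := by
      intro b
      have h1 : (((b : p.range) : A) : G) * ((u : G) * ((b : p.range) : A) * (u : G)⁻¹)⁻¹ = 1 :=
        congrArg Subtype.val b.2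
      exact (mul_inv_eq_one.1 h1).symm
    refine Nat.card_le_card_of_injective (fun b => ⟨⟨(((b : p.range) : A) : G), L.omega _ ((b : p.range) : A).2
      ((L.base.small_centralizer hg (Q := zpowers ((((b : p.range) : A) : G))) ?_ ?_).1 _ (mem_zpowers _))⟩,
      hmem b⟩) fun a b e => ?_
    · exact L.M_two.to_le (zpowers_le.2 (mem_sup_left ((b : p.range) : A).2))
    · exact zpowers_le.2 (mem_centralizer_singleton_iff.2 (mul_inv_eq_iff_eq_mul.1 (hmem b)).symm)
    · exact Subtype.ext (Subtype.ext (Subtype.ext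
        (congrArg (fun z : {d : D // (u : G) * d * (u : G)⁻¹ = d} => (z.1 : G)) e)))
  have h16 : 16 ≤ Nat.card φ.range := by
    have h2 : Nat.card φ.ker * Nat.card φ.range = Nat.card p.range := by rw [← index_ker, card_mul_index]
    have := (Nat.mul_le_mul_right (Nat.card φ.range) hker)
    omega
  let ψ : D →* D := MonoidHom.mk' (fun d => ⟨(d : G) * ((u : G) * d * (u : G)⁻¹), D.mul_mem d.2 (L.D_conj huA d.2)⟩)
    fun d e => Subtype.ext (by
      show (d : G) * e * ((u : G) * ((d : G) * e) * (u : G)⁻¹) =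
        (d : G) * ((u : G) * d * (u : G)⁻¹) * ((e : G) * ((u : G) * e * (u : G)⁻¹))
      rw [show (u : G) * ((d : G) * e) * (u : G)⁻¹ = ((u : G) * d * (u : G)⁻¹) * ((u : G) * e * (u : G)⁻¹) by group]
      have hc := L.base.comm (L.base.hDR e.2) (L.base.hDR (L.D_conj huA d.2))
      calc (d : G) * e * (((u : G) * d * (u : G)⁻¹) * ((u : G) * e * (u : G)⁻¹))
          = (d : G) * ((e : G) * ((u : G) * d * (u : G)⁻¹)) * ((u : G) * e * (u : G)⁻¹) := by group
        _ = _ := by rw [hc]; group)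
  have hψ : Nat.card ψ.range ≤ 2 := by
    have h2 : Nat.card ψ.ker * Nat.card ψ.range = 8 := by
      rw [← index_ker, card_mul_index, L.base.hcard, hn3]; norm_num
    have h3 : 4 ≤ Nat.card ψ.ker := by
      rw [← hfix]
      exact Nat.card_le_card_of_injective (fun d => ⟨d.1, Subtype.ext (by
        show (d.1 : G) * ((u : G) * (d.1 : G) * (u : G)⁻¹) = 1
        rw [d.2]; exact L.D_sq d.1.2)⟩) fun a b e => Subtype.ext (congrArg (fun z : ψ.ker => (z : D)) e)
    have := Nat.mul_le_mul_right (Nat.card ψ.range) h3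
    omega
  let σ : φ.range →* A := MonoidHom.mk' (fun x => (x : A) * (x : A)) fun x y => Subtype.ext (by
    show ((x : A) : G) * (y : A) * (((x : A) : G) * (y : A)) = ((x : A) : G) * (x : A) * (((y : A) : G) * (y : A))
    rw [mul_assoc ((x : A) : G), ← mul_assoc ((y : A) : G), L.comm _ (y : A).2 _ (x : A).2]; group)
  have hσk : Nat.card σ.ker ≤ 4 := by
    rw [← hfix]
    have hsq : ∀ x : σ.ker, (((x : φ.range) : A) : G) * ((x : φ.range) : A) = 1 := fun x => congrArg Subtype.val x.2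
    refine Nat.card_le_card_of_injective (fun x => ⟨⟨(((x : φ.range) : A) : G),
      L.omega _ ((x : φ.range) : A).2 (hsq x)⟩, ?_⟩) fun a b e => ?_
    · show (u : G) * (((x : φ.range) : A) : G) * (u : G)⁻¹ = (((x : φ.range) : A) : G)
      obtain ⟨b, hb⟩ := (x : φ.range).2
      have hb' : (((x : φ.range) : A) : G) = ((b : A) : G) * ((u : G) * ((b : A) : G) * (u : G)⁻¹)⁻¹ := by
        rw [← hb]; rfl
      refine Eq.trans ?_ (inv_eq_of_mul_eq_one_right (hsq x))
      rw [hb']
      calc (u : G) * (((b : A) : G) * ((u : G) * ((b : A) : G) * (u : G)⁻¹)⁻¹) * (u : G)⁻¹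
          = (u : G) * ((b : A) : G) * (u : G)⁻¹ *
              (((u : G) * u) * ((b : A) : G) * ((u : G) * u)⁻¹)⁻¹ := by group
        _ = _ := by rw [hu2]; group
    · exact Subtype.ext (Subtype.ext (Subtype.ext
        (congrArg (fun z : {d : D // (u : G) * d * (u : G)⁻¹ = d} => (z.1 : G)) e)))
  have hσr : Nat.card σ.range ≤ 2 := by
    refine le_trans ?_ hψ
    have key : ∀ y : σ.range, ∃ d : ψ.range, (((y : A) : G)) = ((d : D) : G) := by
      rintro ⟨_, ⟨_, b, rfl⟩, rfl⟩
      have hb2 : ((b : A) : G) * (b : A) ∈ D := L.omega _ (A.mul_mem (b : A).2 (b : A).2) (by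
        have := hq b
        rwa [show (4 : ℕ) = 2 * 2 by norm_num, pow_mul, pow_two, pow_two] at this)
      refine ⟨⟨ψ ⟨_, hb2⟩, _, rfl⟩, ?_⟩
      show ((b : A) : G) * ((u : G) * ((b : A) : G) * (u : G)⁻¹)⁻¹ *
          (((b : A) : G) * ((u : G) * ((b : A) : G) * (u : G)⁻¹)⁻¹) =
        ((b : A) : G) * (b : A) * ((u : G) * (((b : A) : G) * (b : A)) * (u : G)⁻¹)
      have hinv := inv_eq_of_mul_eq_one_right (L.D_sq (L.D_conj huA hb2))
      rw [← hinv]
      calc ((b : A) : G) * ((u : G) * ((b : A) : G) * (u : G)⁻¹)⁻¹ *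
            (((b : A) : G) * ((u : G) * ((b : A) : G) * (u : G)⁻¹)⁻¹)
          = ((b : A) : G) * (((u : G) * ((b : A) : G) * (u : G)⁻¹)⁻¹ * ((b : A) : G)) *
              ((u : G) * ((b : A) : G) * (u : G)⁻¹)⁻¹ := by group
        _ = _ := by rw [L.comm _ (A.inv_mem (hcA _ (b : A).2)) _ (b : A).2]; group
    choose d hd using key
    exact Nat.card_le_card_of_injective d fun a b e => Subtype.ext (Subtype.ext (by rw [hd, hd, e]))
  have h2 : Nat.card σ.ker * Nat.card σ.range = Nat.card φ.range := by rw [← index_ker, card_mul_index]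
  have := Nat.mul_le_mul hσk hσr
  omega

/-- Degree eight without translations. -/
theorem false_of_exceptional [Finite G] [IsSimpleGroup G] (hG : ¬ IsMulCommutative G)
    (hfus : ∀ u ∈ R, (∃ g : G, g * t * g⁻¹ = u) ↔ t * u ∈ D)
    (hne : ∃ g ∈ normalizer ((A ⊔ zpowers t : Subgroup G) : Set G), del t k g ≠ 1)
    (hnt : letI := L.commD; ∀ v : D, v ≠ 1 → tr v ∉ L.act.range) : False := by
  classical
  letI := L.commD
  haveI : Fact (Nat.Prime 2) := ⟨Nat.prime_two⟩
  obtain ⟨c, hc, -⟩ := L.exists_affHyp hne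
  obtain ⟨h8, hconj, hsyl⟩ := hc.exceptional hnt
  have hn3 : n = 3 := Nat.pow_right_injective (le_refl 2) (by
    show 2 ^ n = 2 ^ 3
    rw [← L.base.hcard, h8])
  set M := A ⊔ zpowers t with hM
  set N := normalizer (M : Set G)
  set f := L.act.rangeRestrict
  have hfs : Function.Surjective f := L.act.rangeRestrict_surjective
  obtain ⟨P1, hP1⟩ := (L.M_two.comap_subtype (K := N)).exists_le_sylow
  set M1 := (P1 : Subgroup N).map N.subtype with hM1
  have hMM1 : M ≤ M1 := fun m hm => ⟨⟨m, L.mem_N_of_M hm⟩,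
    hP1 (show (⟨m, L.mem_N_of_M hm⟩ : N) ∈ M.comap N.subtype from hm), rfl⟩
  have hM1N : M1 ≤ N := map_subtype_le _
  have hM12 : IsPGroup 2 M1 := P1.isPGroup'.map _
  set P := P1.mapSurjective hfs
  obtain ⟨hP8, a, b, ha, hb, hab, hgen⟩ := hsyl P
  let g : M1 →* ↥L.act.range := f.comp (inclusion hM1N)
  have hker : ∀ x : M1, g x = 1 → (x : G) ∈ M := fun x hx =>
    L.mem_M_of_stab hM12 hMM1 x.2 (hM1N x.2)
      ((L.act_eq_one_iff (inclusion hM1N x)).1 (congrArg Subtype.val hx)).1
  have hgM : ∀ x : M1, (x : G) ∈ M → g x = 1 := fun x hx => Subtype.ext (L.act_of_M hx)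
  have hgr : g.range = (P : Subgroup ↥L.act.range) := by
    refine le_antisymm ?_ ?_
    · rintro _ ⟨x, rfl⟩
      obtain ⟨p, hp, hpx⟩ := x.2
      have e : inclusion hM1N x = p := Subtype.ext hpx.symm
      show f (inclusion hM1N x) ∈ _
      rw [e]
      exact mem_map_of_mem _ hp
    · rintro _ ⟨p, hp, rfl⟩
      exact ⟨⟨p, mem_map_of_mem _ hp⟩, rfl⟩
  have hon : ∀ d ∈ D, ∃ m ∈ M1, del t k m = d := by
    intro d hd
    have hinj := hc.sylow_apply_injective P 1
    haveI := Fintype.ofFinite (P : Subgroup ↥L.act.range)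
    haveI := Fintype.ofFinite D
    have hbij := (Fintype.bijective_iff_injective_and_card _).2 ⟨hinj, by
      rw [← Nat.card_eq_fintype_card, ← Nat.card_eq_fintype_card, hP8, h8]⟩
    obtain ⟨⟨x, hx⟩, hxd⟩ := hbij.2 ⟨d, hd⟩
    rw [← hgr] at hx
    obtain ⟨m, rfl⟩ := hx
    refine ⟨m, m.2, ?_⟩
    have := congrArg Subtype.val hxd
    exact (L.act_one (inclusion hM1N m)).symm.trans this
  have hnA : ∀ x ∈ M1, ∀ a ∈ A, x * a * x⁻¹ ∈ A := fun x hx a ha =>
    (mem_normalizer_iff.1 (L.normA (hM1N hx)) a).1 ha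
  have hsq : ∀ x : M1, g x * g x = 1 → (x : G) * x ∈ A := by
    intro x hx
    have hxx : g (x * x) = 1 := by rw [map_mul, hx]
    rcases L.mem_M.1 (hker _ hxx) with h1 | h1
    · exact h1
    have h1' : t * ((x : G) * x) ∈ A := h1
    by_cases hx1 : g x = 1
    · rcases L.mem_M.1 (hker x hx1) with h2 | h2
      · exact A.mul_mem h2 h2
      · rw [show (x : G) = t * (t * (x : G)) by rw [← mul_assoc, L.base.t_sq, one_mul], L.ta_sq h2]
        exact A.one_mem
    exfalso
    set a := t * ((x : G) * x) with ha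
    have e : (x : G) * (t * a) * (x : G)⁻¹ = t * a := by rw [ha, ← mul_assoc t, L.base.t_sq, one_mul]; group
    have e2 : (x : G) * (t * a) * (x : G)⁻¹ = t * (al t (x : G) * ((x : G) * a * (x : G)⁻¹)) := by
      rw [← mul_assoc t (al t (x : G)), ← L.conj_t]; group
    rw [e] at e2
    have e3 : a ^ 2 ^ (k - 1) = (al t (x : G) * ((x : G) * a * (x : G)⁻¹)) ^ 2 ^ (k - 1) :=
      congrArg (· ^ 2 ^ (k - 1)) (mul_left_cancel e2)
    rw [L.pow_hom (L.al_mem (hM1N x.2)) (hnA x x.2 a h1'), conj_pow] at e3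
    refine hc.inv_fpf (g x).2 (congrArg Subtype.val hx) (fun h => hx1 (Subtype.ext h))
      ⟨a ^ 2 ^ (k - 1), L.pow_mem_D h1'⟩ (Subtype.ext ?_)
    exact (L.act_apply (inclusion hM1N x) _).trans e3.symm
  -- a complement to `t`
  set A' := A.subgroupOf M1
  haveI hA'n : A'.Normal := ⟨fun a ha x => hnA x x.2 a ha⟩
  set mk := QuotientGroup.mk' A'
  obtain ⟨ã, hã⟩ : a ∈ g.range := by rw [hgr, ← hgen]; exact subset_closure (Or.inl rfl)
  obtain ⟨b', hb'⟩ : b ∈ g.range := by rw [hgr, ← hgen]; exact subset_closure (Or.inr rfl)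
  have hmka : mk ã * mk ã = 1 := by
    rw [← map_mul]
    exact (QuotientGroup.eq_one_iff _).2 (hsq ã (by rw [hã, ha]))
  have hmkb : mk b' * mk b' = 1 := by
    rw [← map_mul]
    exact (QuotientGroup.eq_one_iff _).2 (hsq b' (by rw [hb', hb]))
  have hmkab : (mk ã * mk b') ^ 4 = 1 := by
    rw [← map_mul, show 4 = 2 + 2 from rfl, pow_add, ← map_pow, ← map_mul]
    refine (QuotientGroup.eq_one_iff _).2 (hsq ((ã * b') ^ 2) ?_)
    rw [map_pow, map_mul, hã, hb', ← pow_add, hab]
  set S := (closure ({mk ã, mk b'} : Set (M1 ⧸ A'))).comap mk with hS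
  have hAS : A' ≤ S := fun x hx => by
    rw [hS, mem_comap, show mk x = 1 from (QuotientGroup.eq_one_iff _).2 hx]
    exact one_mem _
  set gS := g.comp S.subtype
  have hgSr : gS.range = (P : Subgroup ↥L.act.range) := by
    refine le_antisymm (by rw [← hgr]; rintro _ ⟨x, rfl⟩; exact ⟨x.1, rfl⟩) ?_
    rw [← hgen, closure_le]
    rintro x (rfl | rfl)
    · exact ⟨⟨ã, subset_closure (Or.inl rfl)⟩, hã⟩
    · exact ⟨⟨b', subset_closure (Or.inr rfl)⟩, hb'⟩
  have hcA' : Nat.card A' = Nat.card A :=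
    Nat.card_congr (subgroupOfEquivOfLe ((le_sup_left : A ≤ M).trans hMM1)).toEquiv
  have hSle : Nat.card S ≤ Nat.card A * 8 := by
    let φ := mk.comp S.subtype
    rw [← card_mul_index φ.ker, index_ker]
    refine Nat.mul_le_mul ?_ ((card_le_of_le ?_).trans (card_closure_pair_le hmka hmkb hmkab))
    · rw [← hcA']
      exact Nat.card_le_card_of_injective (fun x => ⟨x.1.1, (QuotientGroup.eq_one_iff _).1 x.2⟩)
        fun x y e => Subtype.ext (Subtype.ext (congrArg (fun z : A' => (z : M1)) e))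
    · rintro _ ⟨x, rfl⟩; exact x.2
  have hkerS : Nat.card A ≤ Nat.card gS.ker := by
    rw [← hcA']
    exact Nat.card_le_card_of_injective (fun x => ⟨⟨x.1, hAS x.2⟩,
        hgM x.1 (mem_sup_left (mem_subgroupOf.1 x.2))⟩)
      fun x y e => Subtype.ext (congrArg (fun z : gS.ker => ((z : S) : M1)) e)
  have hScard : Nat.card gS.ker * 8 = Nat.card S := by
    rw [← hP8, ← hgSr, ← index_ker, card_mul_index]
  have hkS : Nat.card gS.ker = Nat.card A := by omega
  have htS : (⟨t, hMM1 L.t_mem⟩ : M1) ∉ S := by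
    intro ht
    let ι : A' → gS.ker := fun x => ⟨⟨x.1, hAS x.2⟩, hgM x.1 (mem_sup_left (mem_subgroupOf.1 x.2))⟩
    have hι : Function.Injective ι := fun x y e =>
      Subtype.ext (congrArg (fun z : gS.ker => ((z : S) : M1)) e)
    haveI := Fintype.ofFinite A'
    haveI := Fintype.ofFinite gS.ker
    have hb := (Fintype.bijective_iff_injective_and_card ι).2 ⟨hι, by
      rw [← Nat.card_eq_fintype_card, ← Nat.card_eq_fintype_card, hkS, hcA']⟩
    obtain ⟨x, hx⟩ := hb.2 ⟨⟨_, ht⟩, hgM _ L.t_mem⟩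
    have e : (x.1 : G) = t := congrArg (fun z : gS.ker => (((z : S) : M1) : G)) hx
    exact L.htA (e ▸ mem_subgroupOf.1 x.2)
  have hcM : Nat.card M1 = 2 * Nat.card A * 8 := by
    have e : g.ker = M.subgroupOf M1 := by
      ext x; exact ⟨fun hx => hker x hx, fun hx => hgM x (mem_subgroupOf.1 hx)⟩
    rw [← card_mul_index g.ker, index_ker, hgr, hP8, e, Nat.card_congr (subgroupOfEquivOfLe hMM1).toEquiv,
      hM, L.card_M]
  set T := S.map M1.subtype
  have hT : T.relIndex M1 = 2 := by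
    have e : T.subgroupOf M1 = S := comap_map_eq_self_of_injective M1.subtype_injective S
    show (T.subgroupOf M1).index = 2
    rw [e]
    have h1 := card_mul_index S
    rw [← hScard, hkS, hcM] at h1
    refine Nat.eq_of_mul_eq_mul_left (show 0 < Nat.card A * 8 from Nat.mul_pos Nat.card_pos (by norm_num)) ?_
    rw [h1]; ring
  -- conjugates of `t`
  have htA : ∀ g0 : G, g0 * t * g0⁻¹ ∈ M1 → t * (g0 * t * g0⁻¹) ∈ A := by
    intro g0 hg0
    have hu2 : (g0 * t * g0⁻¹) * (g0 * t * g0⁻¹) = 1 := by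
      rw [show g0 * t * g0⁻¹ * (g0 * t * g0⁻¹) = g0 * (t * t) * g0⁻¹ by group, L.base.t_sq]; group
    set u : M1 := ⟨_, hg0⟩
    by_cases hu1 : g u = 1
    · rcases L.mem_M.1 (hker u hu1) with h1 | h1
      · have hd := L.omega _ h1 hu2
        exact absurd ((hfus _ (L.base.hDR hd)).1 ⟨g0, rfl⟩) (L.base.td_notMem hd)
      · exact h1
    exfalso
    have hgu2 : g u * g u = 1 := by
      rw [← map_mul, show u * u = 1 from Subtype.ext hu2, map_one]
    have hfix : ∀ v : N, L.act v * L.act v = 1 → L.act v ≠ 1 →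
        Nat.card {d : D // (v : G) * d * (v : G)⁻¹ = d} = 4 := fun v h2 h1 => by
      rw [← hc.card_lin_fixed hnt ⟨v, rfl⟩ h2 h1]
      exact Nat.card_congr (Equiv.subtypeEquivRight fun d => by rw [Subtype.ext_iff, L.lin_act])
    by_cases hk : 2 ≤ k
    · exact L.act_eq_one_of_two_le hk hn3 (u := inclusion hM1N u) ⟨g0, rfl⟩
        (hfix _ (congrArg Subtype.val hgu2) fun h => hu1 (Subtype.ext h))
    have hk1 : k = 1 := by have := L.hk; omega
    -- a central involution of the image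
    obtain ⟨z, hz, hz2⟩ : ∃ z : (P : Subgroup ↥L.act.range), z ∈ center _ ∧ orderOf z = 2 := by
      haveI : Nontrivial (P : Subgroup ↥L.act.range) := by
        rw [← Finite.one_lt_card_iff_nontrivial, hP8]; norm_num
      haveI := P.isPGroup'.center_nontrivial
      obtain ⟨m, hm⟩ := IsPGroup.iff_card.1 (P.isPGroup'.to_subgroup (center _))
      have hm1 : 2 ∣ Nat.card (center (P : Subgroup ↥L.act.range)) := by
        rw [hm]
        refine dvd_pow_self 2 fun h0 => ?_
        have := Finite.one_lt_card (α := center (P : Subgroup ↥L.act.range))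
        rw [hm, h0] at this
        omega
      obtain ⟨z, hz⟩ := exists_prime_orderOf_dvd_card' 2 hm1
      exact ⟨z, z.2, by rw [orderOf_coe]; exact hz⟩
    have hzz : (z : ↥L.act.range) * z = 1 := by
      have := pow_orderOf_eq_one z
      rw [hz2, pow_two] at this
      exact congrArg Subtype.val this
    have hz1 : (z : ↥L.act.range) ≠ 1 := fun e => by
      rw [show z = 1 from Subtype.ext e, orderOf_one] at hz2
      omega
    -- move to it
    obtain ⟨c0, hc0⟩ := isConj_iff.1 (hconj (g u) z hgu2 hzz hu1 hz1)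
    obtain ⟨n0, rfl⟩ := hfs c0
    set v : N := n0 * inclusion hM1N u * n0⁻¹ with hv
    have hfv : f v = z := by rw [hv, map_mul, map_mul, map_inv]; exact hc0
    set H := (P : Subgroup ↥L.act.range).comap f
    have hP1H : (P1 : Subgroup N) ≤ H := fun p hp => mem_map_of_mem _ hp
    have hvH : v ∈ H := mem_comap.2 (hfv.symm ▸ z.2)
    have hv2 : v ^ 2 = 1 := Subtype.ext (by
      show ((n0 : G) * (g0 * t * g0⁻¹) * (n0 : G)⁻¹) ^ 2 = 1
      rw [conj_pow, pow_two, hu2]; group)
    have hvp : IsPGroup 2 (zpowers (⟨v, hvH⟩ : H)) := by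
      obtain ⟨j, -, hj⟩ := (Nat.dvd_prime_pow Nat.prime_two).1 (show orderOf (⟨v, hvH⟩ : H) ∣ 2 ^ 1 from
        orderOf_dvd_of_pow_eq_one (Subtype.ext (by rw [pow_one]; exact hv2)))
      exact IsPGroup.of_card (n := j) (by rw [Nat.card_zpowers, hj])
    obtain ⟨Q, hQ⟩ := hvp.exists_le_sylow
    obtain ⟨h0, hh0⟩ := MulAction.exists_smul_eq H Q (P1.subtype hP1H)
    have hw : MulAut.conj h0 ⟨v, hvH⟩ ∈ ((P1.subtype hP1H : Sylow 2 H) : Subgroup H) := by
      rw [← hh0]
      exact mem_map_of_mem _ (hQ (mem_zpowers _))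
    set w : N := (h0 : N) * v * (h0 : N)⁻¹
    have hwP : w ∈ (P1 : Subgroup N) := hw
    have hfw : f w = z := by
      have hh : (⟨f h0, h0.2⟩ : (P : Subgroup ↥L.act.range)) * z = z * ⟨f h0, h0.2⟩ := mem_center_iff.1 hz _
      have hh' : f h0 * (z : ↥L.act.range) = (z : ↥L.act.range) * f h0 := congrArg Subtype.val hh
      rw [map_mul, map_mul, map_inv, hfv, hh', mul_inv_cancel_right]
    set x : M1 := ⟨w, mem_map_of_mem _ hwP⟩
    have hgx : g x = z := hfw
    have hwt : ∃ g1 : G, g1 * t * g1⁻¹ = (x : G) := ⟨((h0 : N) : G) * n0 * g0, by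
      show _ = ((h0 : N) : G) * ((n0 : G) * (g0 * t * g0⁻¹) * (n0 : G)⁻¹) * ((h0 : N) : G)⁻¹
      group⟩
    -- the centraliser is too big
    have hAD : A ≤ D := fun a ha => L.omega a ha (by
      have := L.hexp a ha
      rwa [hk1, pow_one, pow_two] at this)
    have hMR : M ≤ R := sup_le (hAD.trans L.base.hDR) (zpowers_le.2 L.base.htR)
    obtain ⟨g1, hg1⟩ := hwt
    have hx2 : (x : G) * x = 1 := by
      rw [← hg1, show g1 * t * g1⁻¹ * (g1 * t * g1⁻¹) = g1 * (t * t) * g1⁻¹ by group, L.base.t_sq]; group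
    set Inv := {y : M1 // y * y = 1 ∧ g y = z}
    have hInv : Nat.card Inv ≤ 4 := by
      rw [← hfix (inclusion hM1N x) (congrArg Subtype.val (show g x * g x = 1 by rw [hgx, hzz]))
        fun h => hz1 (hgx ▸ Subtype.ext h)]
      have key : ∀ y : Inv, ((x : G))⁻¹ * y.1 ∈ D ∧
          (x : G) * ((x : G)⁻¹ * y.1) * (x : G)⁻¹ = (x : G)⁻¹ * y.1 := by
        intro y
        have hm : ((x⁻¹ * y.1 : M1) : G) ∈ M := hker _ (by rw [map_mul, map_inv, hgx, y.2.2, inv_mul_cancel])
        set m := (x : G)⁻¹ * y.1 with hmdef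
        have hmR : m ∈ R := hMR hm
        have hy2 : ((y.1 : M1) : G) * y.1 = 1 := congrArg Subtype.val y.2.1
        have hxm : (x : G) * m * (x : G)⁻¹ = m := by
          refine Eq.trans ?_ (L.base.inv_R hmR)
          rw [hmdef, mul_inv_cancel_left, mul_inv_rev, inv_inv, inv_eq_of_mul_eq_one_right hx2,
            inv_eq_of_mul_eq_one_right hy2]
        refine ⟨?_, hxm⟩
        rcases L.base.split m hmR with hd | hd
        · exact hd
        exfalso
        refine hc.inv_fpf (g x).2 (by rw [← Subgroup.coe_mul, hgx, hzz]; rfl)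
          (fun h => hz1 (hgx ▸ Subtype.ext h)) ⟨t * m, hd⟩ (Subtype.ext ?_)
        refine (L.act_apply (inclusion hM1N x) _).trans ?_
        show al t (x : G) ^ 2 ^ (k - 1) * ((x : G) * (t * m) * (x : G)⁻¹) = t * m
        rw [hk1, Nat.sub_self, pow_zero, pow_one]
        show t * ((x : G) * t * (x : G)⁻¹) * ((x : G) * (t * m) * (x : G)⁻¹) = t * m
        calc t * ((x : G) * t * (x : G)⁻¹) * ((x : G) * (t * m) * (x : G)⁻¹)
            = t * ((x : G) * ((t * t) * m) * (x : G)⁻¹) := by group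
          _ = t * m := by rw [L.base.t_sq, one_mul, hxm]
      exact Nat.card_le_card_of_injective (fun y => ⟨⟨_, (key y).1⟩, (key y).2⟩) fun y y' e => by
        have e' := congrArg (fun d : {d : D // (x : G) * d * (x : G)⁻¹ = d} => (d.1 : G)) e
        exact Subtype.ext (Subtype.ext (mul_left_cancel e'))
    let F : M1 → Inv := fun h => ⟨h * x * h⁻¹, by
      have hxx : x * x = 1 := Subtype.ext hx2
      rw [show h * x * h⁻¹ * (h * x * h⁻¹) = h * (x * x) * h⁻¹ by group, hxx]; group, by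
      have hmem : g h ∈ (P : Subgroup ↥L.act.range) := by rw [← hgr]; exact ⟨h, rfl⟩
      have hh : g h * (z : ↥L.act.range) = (z : ↥L.act.range) * g h :=
        congrArg Subtype.val (mem_center_iff.1 hz ⟨g h, hmem⟩)
      rw [map_mul, map_mul, map_inv, hgx, hh, mul_inv_cancel_right]⟩
    set C := centralizer ({x} : Set M1)
    have hcount : Nat.card M1 ≤ Nat.card Inv * Nat.card C := by
      haveI : Nonempty M1 := ⟨1⟩
      rw [← Nat.card_prod]
      refine Nat.card_le_card_of_injective (fun h => (F h, (⟨(Function.invFun F (F h))⁻¹ * h, ?_⟩ : C))) ?_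
      · set h' := Function.invFun F (F h)
        have e : h' * x * h'⁻¹ = h * x * h⁻¹ := congrArg Subtype.val (Function.invFun_eq (f := F) ⟨h, rfl⟩)
        rw [mem_centralizer_singleton_iff]
        calc h'⁻¹ * h * x = h'⁻¹ * (h * x * h⁻¹) * h := by group
          _ = _ := by rw [← e]; group
      · intro h h' e
        have e1 : F h = F h' := congrArg Prod.fst e
        have e2 : (Function.invFun F (F h))⁻¹ * h = (Function.invFun F (F h'))⁻¹ * h' :=
          congrArg (fun p : Inv × C => (p.2 : M1)) e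
        rw [e1] at e2
        exact mul_left_cancel e2
    have hCle : Nat.card C ≤ 2 * 2 ^ n := by
      rw [Nat.card_congr (C.equivMapOfInjective _ M1.subtype_injective).toEquiv]
      refine (L.base.small_centralizer hg1 ((hM12.to_subgroup C).map _) ?_).2
      rintro _ ⟨y, hy, rfl⟩
      exact mem_centralizer_singleton_iff.2 (congrArg Subtype.val (mem_centralizer_singleton_iff.1 hy))
    have := Nat.mul_le_mul hInv hCle
    rw [hn3] at this
    rw [hcM, L.card, hn3, hk1] at hcount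
    norm_num at this hcount
    omega
  refine L.false_of_tA hG hM12 hMM1 hM1N hT (fun g0 hg0 => ?_) htA hon
  obtain ⟨s, hs, hse⟩ := hg0
  have hse' : (s : G) = g0 * t * g0⁻¹ := hse
  have h1 := htA g0 (hse' ▸ s.2)
  rw [← hse'] at h1
  have h2 : (⟨t, hMM1 L.t_mem⟩ : M1) * s ∈ S := hAS h1
  exact htS ((S.mul_mem_cancel_right hs).1 h2)

end Level

end CfsgLib.TwoTimesPSL
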