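import Cfsg.Agent.TwoTimesPSL.LevelAct

/-!
When the conjugates of `t` in an overgroup all lie in `tA`, the overgroup is a Sylow subgroup and transfer applies.
-/

set_option autoImplicit false
set_option linter.unusedSectionVars false
set_option linter.style.haveILetI false

namespace CfsgLib.TwoTimesPSL

open Subgroup

variable {G : Type*} [Group G]

namespace Level

variable {t : G} {R D : Subgroup G} {ρ : G} {n k : ℕ} {A : Subgroup G} (L : Level t R D ρ n k A)
include L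

theorem del_inv_mul [Finite G] {m x : G} (hm : m ∈ normalizer ((A ⊔ zpowers t : Subgroup G) : Set G))
    (hx : x ∈ normalizer ((A ⊔ zpowers t : Subgroup G) : Set G)) (e : del t k m = del t k x) :
    del t k (m⁻¹ * x) = 1 := by
  rw [L.del_mul (inv_mem hm) hx, ← e, ← L.del_mul (inv_mem hm) hm, inv_mul_cancel, L.del_one]

/-- An element normalising an overgroup whose conjugates of `t` lie in `tA` normalises `A⟨t⟩`. -/
theorem mem_N_of_tA [Finite G] {M1 : Subgroup G} (hMM1 : A ⊔ zpowers t ≤ M1)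
    (hM1N : M1 ≤ normalizer ((A ⊔ zpowers t : Subgroup G) : Set G))
    (htA : ∀ g : G, g * t * g⁻¹ ∈ M1 → t * (g * t * g⁻¹) ∈ A)
    (hon : ∀ d ∈ D, ∃ m ∈ M1, del t k m = d) {x : G} (hx : x ∈ normalizer (M1 : Set G)) :
    x ∈ normalizer ((A ⊔ zpowers t : Subgroup G) : Set G) := by
  have hcl : ∀ x ∈ normalizer (M1 : Set G), ∀ a ∈ A, x * (t * a) * x⁻¹ ∈ A ⊔ zpowers t := by
    intro x hx a ha
    obtain ⟨w, hw, hwa⟩ := L.ta_conj (le_sup_left.trans hMM1) hM1N hon ha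
    have e : x * (t * a) * x⁻¹ = (x * w) * t * (x * w)⁻¹ := by rw [← hwa]; group
    refine L.mem_M.2 (Or.inr ?_)
    rw [e]
    refine htA _ ?_
    rw [← e]
    exact (mem_normalizer_iff.1 hx _).1 (hMM1 (L.mem_M.2 (Or.inr (by rwa [← mul_assoc, L.base.t_sq, one_mul]))))
  have hfw : ∀ x ∈ normalizer (M1 : Set G), ∀ y ∈ A ⊔ zpowers t, x * y * x⁻¹ ∈ A ⊔ zpowers t := by
    intro x hx y hy
    rcases L.mem_M.1 hy with h1 | h1
    · have e : x * y * x⁻¹ = (x * (t * 1) * x⁻¹) * (x * (t * y) * x⁻¹) := by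
        calc x * y * x⁻¹ = x * ((t * t) * y) * x⁻¹ := by rw [L.base.t_sq, one_mul]
          _ = _ := by group
      rw [e]
      exact mul_mem (hcl x hx 1 A.one_mem) (hcl x hx y h1)
    · have := hcl x hx _ h1
      rwa [← mul_assoc, ← mul_assoc, mul_assoc x t t, L.base.t_sq, mul_one] at this
  refine mem_normalizer_iff.2 fun y => ⟨hfw x hx y, fun hy => ?_⟩
  simpa [mul_assoc] using hfw x⁻¹ (inv_mem hx) _ hy

/-- The transfer finish. -/
theorem false_of_tA [Finite G] [IsSimpleGroup G] (hG : ¬ IsMulCommutative G) {M1 T : Subgroup G}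
    (hM1 : IsPGroup 2 M1) (hMM1 : A ⊔ zpowers t ≤ M1)
    (hM1N : M1 ≤ normalizer ((A ⊔ zpowers t : Subgroup G) : Set G)) (hT : T.relIndex M1 = 2)
    (hno : ∀ g : G, g * t * g⁻¹ ∉ T) (htA : ∀ g : G, g * t * g⁻¹ ∈ M1 → t * (g * t * g⁻¹) ∈ A)
    (hon : ∀ d ∈ D, ∃ m ∈ M1, del t k m = d) : False := by
  refine false_of_transfer hG hM1 hT (fun x hx hW => ?_) L.base.ht hno
  have hxN := L.mem_N_of_tA hMM1 hM1N htA hon hx
  obtain ⟨m, hm, hmd⟩ := hon _ (L.del_mem hxN)
  have h2 := L.mem_M_of_stab hW (hMM1.trans le_sup_left)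
    (mul_mem (inv_mem (mem_sup_left hm)) (mem_sup_right (mem_zpowers x))) (mul_mem (inv_mem (hM1N hm)) hxN)
    (L.del_inv_mul (hM1N hm) hxN hmd)
  simpa using M1.mul_mem hm (hMM1 h2)

end Level

end CfsgLib.TwoTimesPSL
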