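import Cfsg.Agent.TwoTimesPSL.TransLayer
import Cfsg.Agent.TwoTimesPSL.Finish

/-!
With all translations present a level either extends or yields a Sylow subgroup with a transfer.
-/

set_option autoImplicit false
set_option linter.unusedSectionVars false
set_option linter.style.haveILetI false

namespace CfsgLib.TwoTimesPSL

open Subgroup

variable {G : Type*} [Group G]

/-- The iterates of an automorphism are its powers. -/
theorem mulAut_iterate {Q : Type*} [Group Q] (β : MulAut Q) (i : ℕ) (x : Q) : (⇑β)^[i] x = (β ^ i) x := by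
  induction i with
  | zero => rfl
  | succ i ih => rw [Function.iterate_succ_apply', ih, pow_succ', MulAut.mul_apply]

namespace Level

variable {t : G} {R D : Subgroup G} {ρ : G} {n k : ℕ} {A : Subgroup G} (L : Level t R D ρ n k A)
include L

/-- The torus has period `q - 1` on `D`. -/
theorem rho_period [Finite G] {d : G} (hd : d ∈ D) :
    ρ ^ (2 ^ n - 1) * d * (ρ ^ (2 ^ n - 1))⁻¹ = d := by
  classical
  rcases eq_or_ne d 1 with rfl | hd1
  · group
  let f : G → G := fun x => ρ * x * ρ⁻¹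
  have hf : ∀ (i : ℕ) (x : G), f^[i] x = ρ ^ i * x * (ρ ^ i)⁻¹ := fun i x => by
    induction i with
    | zero => simp
    | succ i ih => rw [Function.iterate_succ_apply', ih, pow_succ']; simp only [f]; group
  have hper : d ∈ Function.periodicPts f := ⟨orderOf ρ, orderOf_pos ρ, by
    show f^[orderOf ρ] d = d
    rw [hf, pow_orderOf_eq_one, one_mul, inv_one, mul_one]⟩
  have hp0 := Function.minimalPeriod_pos_of_mem_periodicPts hper
  set p := Function.minimalPeriod f d with hp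
  let F : Fin p → {e : D // e ≠ 1} := fun i => ⟨⟨f^[(i : ℕ)] d, by
      rw [hf]
      exact L.base.hDn _ ((centralizer ({t} : Set G)).pow_mem L.base.hρC _) (pow_mem L.base.hρR _) d hd⟩,
    fun e => hd1 (by
      have e' : f^[(i : ℕ)] d = 1 := congrArg Subtype.val e
      rw [hf, conj_eq_one_iff] at e'
      exact e')⟩
  have hF : Function.Bijective F := by
    refine ⟨fun a b e => ?_, fun e => ?_⟩
    · have e' : f^[(a : ℕ)] d = f^[(b : ℕ)] d := congrArg (fun z : {e : D // e ≠ 1} => (z.1 : G)) e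
      exact Fin.ext ((Function.iterate_eq_iterate_iff_of_lt_minimalPeriod a.2 b.2).1 e')
    · obtain ⟨i, hi⟩ := L.base.hρtrans d hd e.1 e.1.2 hd1 fun h => e.2 (Subtype.ext h)
      refine ⟨⟨i % p, Nat.mod_lt _ hp0⟩, Subtype.ext (Subtype.ext ?_)⟩
      show f^[i % p] d = _
      rw [hp, Function.iterate_mod_minimalPeriod_eq, hf, hi]
  have hc : p = 2 ^ n - 1 := by
    have h0 := Nat.card_congr (Equiv.ofBijective F hF)
    haveI := Fintype.ofFinite D
    rw [Nat.card_fin, Nat.card_eq_fintype_card, Fintype.card_subtype_compl, Fintype.card_subtype_eq,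
      ← Nat.card_eq_fintype_card, L.base.hcard] at h0
    exact h0
  rw [← hc, ← hf]
  exact Function.iterate_minimalPeriod

section Layer

variable {M1 Q1 : Subgroup G} {r : G} (W : NextLayer t R D ρ n k A M1 Q1 r)
include W

theorem del_mul_M1 {g h : G} (hg : g ∈ M1) (hh : h ∈ M1) : del t k (g * h) = del t k g * del t k h := by
  rw [L.del_mul (W.M1N hg) (W.M1N hh), W.M1D g hg _ (L.del_mem (W.M1N hh))]

theorem del_eq_imp {x y : G} (hx : x ∈ Q1) (hy : y ∈ Q1) (e : del t k x = del t k y) : x⁻¹ * y ∈ A := by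
  refine W.ker _ (Q1.mul_mem (Q1.inv_mem hx) hy) ?_
  rw [L.del_mul_M1 W (M1.inv_mem (W.Q1M1 hx)) (W.Q1M1 hy), ← e,
    ← L.del_mul_M1 W (M1.inv_mem (W.Q1M1 hx)) (W.Q1M1 hx), inv_mul_cancel, L.del_one]

theorem conjt_comm {x : G} (hx : x ∈ M1) : x⁻¹ * (t * x * t⁻¹) ∈ A := by
  have := W.comm x⁻¹ (M1.inv_mem hx) t (W.MM1 L.t_mem)
  rwa [inv_inv, show x⁻¹ * t * x * t⁻¹ = x⁻¹ * (t * x * t⁻¹) by group] at this

theorem fixed_mem_D {x : G} (hx : x ∈ Q1) (h : t * x * t⁻¹ = x) : x ∈ D := by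
  have h' : t * x = x * t := mul_inv_eq_iff_eq_mul.1 h
  have hxA := W.ker x hx (L.del_of_centralizes (mem_centralizer_singleton_iff.2 h'.symm))
  refine L.omega x hxA (mul_eq_one_iff_eq_inv.2 ?_)
  rw [← L.inv x hxA]
  nth_rewrite 2 [← L.t_inv]
  exact h.symm

theorem rpow_del [Finite G] (i : ℕ) {x : G} (hx : x ∈ Q1) :
    r ^ i * x * (r ^ i)⁻¹ ∈ Q1 ∧ del t k (r ^ i * x * (r ^ i)⁻¹) = ρ ^ i * del t k x * (ρ ^ i)⁻¹ := by
  have hC : r ^ i ∈ centralizer ({t} : Set G) := pow_mem W.rC i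
  have hN := L.mem_N_of_centralizes (pow_mem W.rA i) hC
  refine ⟨(mem_normalizer_iff.1 (pow_mem W.rQ i) x).1 hx, ?_⟩
  rw [L.del_mul (mul_mem hN (W.M1N (W.Q1M1 hx))) (inv_mem hN), L.del_of_centralizes (inv_mem hC), mul_one,
    mul_inv_cancel, mul_one, L.del_mul hN (W.M1N (W.Q1M1 hx)), L.del_of_centralizes hC, one_mul,
    L.pow_conj W.rρ i _ (L.del_mem (W.M1N (W.Q1M1 hx)))]

theorem reach [Finite G] {x y : G} (hx : x ∈ Q1) (hy : y ∈ Q1) (hxA : x ∉ A) (hyA : y ∉ A) :
    ∃ i : ℕ, (r ^ i * x * (r ^ i)⁻¹)⁻¹ * y ∈ A := by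
  obtain ⟨i, hi⟩ := L.base.hρtrans _ (L.del_mem (W.M1N (W.Q1M1 hx))) _ (L.del_mem (W.M1N (W.Q1M1 hy)))
    (fun e => hxA (W.ker x hx e)) fun e => hyA (W.ker y hy e)
  obtain ⟨h1, h2⟩ := L.rpow_del W i hx
  exact ⟨i, L.del_eq_imp W h1 hy (h2.trans hi)⟩

theorem mem_Q1_or [Finite G] {u : G} (hu : u ∈ M1) : u ∈ Q1 ∨ t * u ∈ Q1 := by
  by_contra hcon
  push Not at hcon
  have hi : (Q1.subgroupOf M1).index = 2 := W.index
  refine hcon.2 ?_
  have := (mul_mem_iff_of_index_two hi (a := ⟨t, W.MM1 L.t_mem⟩) (b := ⟨u, hu⟩)).2 ?_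
  · exact this
  · simp only [mem_subgroupOf]
    exact iff_of_false W.htQ hcon.1

/-- The finish, when the inverted elements of the layer lie in `A`. -/
theorem false_of_layer [Finite G] [IsSimpleGroup G] (hG : ¬ IsMulCommutative G)
    (hfus : ∀ u ∈ R, (∃ g : G, g * t * g⁻¹ = u) ↔ t * u ∈ D)
    (hinv : ∀ x ∈ Q1, t * x * t = x⁻¹ → x ∈ A)
    (hbig : ∀ u ∈ Q1, u ∉ A → u * u = 1 → ∀ g : G, g * t * g⁻¹ ≠ u) : False := by
  have hsq : ∀ g : G, (g * t * g⁻¹) * (g * t * g⁻¹) = 1 := fun g => by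
    rw [show g * t * g⁻¹ * (g * t * g⁻¹) = g * (t * t) * g⁻¹ by group, L.base.t_sq]; group
  have hno : ∀ g : G, g * t * g⁻¹ ∉ Q1 := by
    intro g hg
    by_cases hA : g * t * g⁻¹ ∈ A
    · have hd := L.omega _ hA (hsq g)
      exact L.base.td_notMem hd ((hfus _ (L.base.hDR hd)).1 ⟨g, rfl⟩)
    · exact hbig _ hg hA (hsq g) g rfl
  refine L.false_of_tA hG W.M1_two W.MM1 W.M1N W.index hno (fun g hg => ?_) fun d hd => ?_
  · rcases L.mem_Q1_or W hg with h1 | h1
    · exact absurd h1 (hno g)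
    refine hinv _ h1 (eq_inv_of_mul_eq_one_left ?_)
    have := hsq g
    calc t * (t * (g * t * g⁻¹)) * t * (t * (g * t * g⁻¹))
        = (t * t) * (g * t * g⁻¹) * (t * t) * (g * t * g⁻¹) := by group
      _ = 1 := by rw [L.base.t_sq, one_mul, mul_one, this]
  · obtain ⟨x, hx, hxd⟩ := W.onto d hd
    exact ⟨x, W.Q1M1 hx, hxd⟩

theorem al_eq {x : G} (h : t * x * t = x⁻¹) : al t x = x⁻¹ * x⁻¹ := by
  show t * (x * t * x⁻¹) = _
  rw [← mul_assoc, ← mul_assoc, h]

/-- The layer is not commutative. -/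
theorem false_noncomm [Finite G] [IsSimpleGroup G] (hG : ¬ IsMulCommutative G)
    (hfus : ∀ u ∈ R, (∃ g : G, g * t * g⁻¹ = u) ↔ t * u ∈ D)
    (hnc : ∃ x ∈ Q1, ∃ y ∈ Q1, x * y ≠ y * x) : False := by
  classical
  haveI : Fact (Nat.Prime 2) := ⟨Nat.prime_two⟩
  set f := Q1.normalizerMonoidHom
  have hfa : ∀ (g : normalizer (Q1 : Set G)) (a : Q1), ((f g a : Q1) : G) = g * a * (g : G)⁻¹ := fun g a => rfl
  set rN : normalizer (Q1 : Set G) := ⟨r, W.rQ⟩
  set tN : normalizer (Q1 : Set G) := ⟨t, W.tQ⟩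
  have hrt : r * t = t * r := mem_centralizer_singleton_iff.1 W.rC
  set m := 2 ^ n - 1
  have hβD : ∀ d ∈ D, r ^ m * d * (r ^ m)⁻¹ = d := fun d hd => by
    rw [L.pow_conj W.rρ m d hd, L.rho_period hd]
  set β := f (rN ^ m) with hβ
  have hβv : ∀ x : Q1, ((β x : Q1) : G) = r ^ m * x * (r ^ m)⁻¹ := fun x => by
    rw [hβ, hfa, SubmonoidClass.coe_pow]
  have hβodd : Odd (orderOf β) := by
    refine W.rodd.of_dvd_nat ((orderOf_map_dvd f _).trans ((orderOf_pow_dvd m).trans ?_))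
    rw [← orderOf_coe]
  have hfixA : ∀ (j : ℕ) (a : Q1), (a : G) ∈ A → (a : G) ^ 2 ^ j = 1 → β a = a := by
    intro j
    induction j with
    | zero =>
      intro a _ h1
      rw [pow_zero, pow_one] at h1
      rw [show a = 1 from Subtype.ext h1, map_one]
    | succ j ih =>
      intro a ha h1
      have h2 := ih (a * a) (A.mul_mem ha ha) (by
        show ((a : G) * a) ^ 2 ^ j = 1
        rw [← pow_two, ← pow_mul, mul_comm, ← pow_succ, h1])
      have hβA : ((β a : Q1) : G) ∈ A := by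
        rw [hβv]; exact (mem_normalizer_iff.1 (pow_mem W.rA m) _).1 ha
      have hd : (a : G)⁻¹ * (β a : Q1) ∈ D := by
        refine L.omega _ (A.mul_mem (A.inv_mem ha) hβA) ?_
        rw [← pow_two, L.pow_hom (A.inv_mem ha) hβA, inv_pow, pow_two, pow_two]
        have h3 : ((β a : Q1) : G) * (β a : Q1) = (a : G) * a := by
          have := congrArg Subtype.val h2
          rw [map_mul] at this
          exact this
        rw [h3, inv_mul_cancel]
      exact fixed_of_odd hβodd (x := a) (d := ⟨_, W.AQ1 (L.hDA hd)⟩) (Subtype.ext (L.D_sq hd))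
        (Subtype.ext ((hβv _).trans (hβD _ hd))) (Subtype.ext (by
          show ((β a : Q1) : G) = (a : G) * ((a : G)⁻¹ * (β a : Q1))
          rw [mul_inv_cancel_left]))
  have hfixQ : ∀ x : Q1, β x = x := by
    intro x
    have hd : (x : G)⁻¹ * (β x : Q1) ∈ A := by
      refine L.del_eq_imp W x.2 (β x).2 ?_
      rw [hβv, (L.rpow_del W m x.2).2]
      exact (L.rho_period (L.del_mem (W.M1N (W.Q1M1 x.2)))).symm
    set d := (x : G)⁻¹ * (β x : Q1) with hdd
    set e := (x : G)⁻¹ * (t * x * t⁻¹) with hee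
    have he : e ∈ A := L.conjt_comm W (W.Q1M1 x.2)
    have hβe : r ^ m * e * (r ^ m)⁻¹ = e := by
      have := congrArg Subtype.val (hfixA k ⟨e, W.AQ1 he⟩ he (L.hexp e he))
      rwa [hβv] at this
    have hx : r ^ m * x * (r ^ m)⁻¹ = x * d := by rw [hdd, mul_inv_cancel_left, hβv]
    have hrt' : r ^ m * t = t * r ^ m := (Commute.pow_left (hrt : Commute r t) m).eq
    have h1 : t * (x * d) * t⁻¹ = x * d * e := by
      calc t * (x * d) * t⁻¹ = (t * r ^ m) * x * (t * r ^ m)⁻¹ := by rw [← hx]; group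
        _ = r ^ m * (x * e) * (r ^ m)⁻¹ := by rw [← hrt', hee]; group
        _ = (r ^ m * x * (r ^ m)⁻¹) * (r ^ m * e * (r ^ m)⁻¹) := by group
        _ = x * d * e := by rw [hx, hβe]
    have h2 : t * (x * d) * t⁻¹ = x * e * d⁻¹ := by
      calc t * (x * d) * t⁻¹ = (t * x * t⁻¹) * (t * d * t⁻¹) := by group
        _ = x * e * d⁻¹ := by
          rw [show t * d * t⁻¹ = d⁻¹ by rw [L.t_inv, L.inv d hd], hee, mul_inv_cancel_left]
    have h3 : d = d⁻¹ := by
      have h4 := h1.symm.trans h2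
      have h5 : d * e = e * d⁻¹ :=
        mul_left_cancel (a := (x : G)) (((mul_assoc _ _ _).symm.trans h4).trans (mul_assoc _ _ _))
      exact mul_left_cancel (a := e) ((L.comm d hd e he).symm.trans h5)
    have hdD : d ∈ D := L.omega d hd (mul_eq_one_iff_eq_inv.2 h3)
    exact fixed_of_odd hβodd (x := x) (d := ⟨d, W.AQ1 hd⟩) (Subtype.ext (L.D_sq hdD))
      (Subtype.ext ((hβv _).trans (hβD _ hdD))) (Subtype.ext (by rw [hβv]; exact hx))
  have hQ2 : IsPGroup 2 Q1 := W.M1_two.to_le W.Q1M1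
  have hC : ∀ x : Q1, x ∈ D.subgroupOf Q1 ↔ f tN x = x := fun x => by
    rw [mem_subgroupOf, Subtype.ext_iff, hfa]
    exact ⟨fun h => L.t_comm_D h, L.fixed_mem_D W x.2⟩
  have hrit : ∀ (i : ℕ) (x : Q1), (((⇑(f rN))^[i] x : Q1) : G) = r ^ i * x * (r ^ i)⁻¹ := fun i x => by
    rw [mulAut_iterate, ← map_pow, hfa, SubmonoidClass.coe_pow]
  obtain ⟨hsq, hcen, hcard⟩ := noncomm_facts hQ2
    (by obtain ⟨x, hx, y, hy, h⟩ := hnc; exact ⟨⟨x, hx⟩, ⟨y, hy⟩, fun e => h (congrArg Subtype.val e)⟩)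
    n L.base.hn (f tN) (f rN)
    (fun x => by
      rw [← MulAut.mul_apply, ← map_mul, show tN * tN = 1 from Subtype.ext L.base.t_sq, map_one]; rfl)
    (fun x => by
      rw [← MulAut.mul_apply, ← MulAut.mul_apply, ← map_mul, ← map_mul,
        show tN * rN = rN * tN from Subtype.ext hrt.symm])
    (D.subgroupOf Q1) hC (fun x hx => Subtype.ext (L.D_sq hx))
    (by rw [Nat.card_congr (subgroupOfEquivOfLe (L.hDA.trans W.AQ1)).toEquiv, L.base.hcard])
    (fun x y hx hy hx1 hy1 => by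
      obtain ⟨i, hi⟩ := L.base.hρtrans _ hx _ hy (fun e => hx1 (Subtype.ext e)) fun e => hy1 (Subtype.ext e)
      exact ⟨i, Subtype.ext ((hrit i x).trans ((L.pow_conj W.rρ i _ hx).trans hi))⟩)
    (fun x => by rw [mulAut_iterate, ← map_pow]; exact hfixQ x)
  have hk : k = 2 := by
    rw [W.card, L.card, ← pow_succ] at hcard
    have := Nat.pow_right_injective (Nat.le_self_pow (by have := L.base.hn; omega) 2) hcard
    omega
  have hsqD : ∀ x ∈ Q1, x * x ∈ D := fun x hx => hsq ⟨x, hx⟩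
  have hcenD : ∀ d ∈ D, ∀ y ∈ Q1, y * d = d * y := fun d hd y hy =>
    congrArg Subtype.val (mem_center_iff.1 (hcen ⟨d, W.AQ1 (L.hDA hd)⟩ hd) ⟨y, hy⟩)
  have hcom : ∀ x ∈ Q1, ∀ y ∈ Q1, x * y * x⁻¹ * y⁻¹ ∈ D := fun x hx y hy => by
    have hc : y⁻¹ * (x⁻¹ * x⁻¹) * y⁻¹⁻¹ = x⁻¹ * x⁻¹ := by
      rw [hcenD _ (hsqD _ (Q1.inv_mem hx)) _ (Q1.inv_mem hy), mul_inv_cancel_right]
    have e : x * y * x⁻¹ * y⁻¹ = (x * y * (x * y)) * (y⁻¹ * (x⁻¹ * x⁻¹) * y⁻¹⁻¹) * (y⁻¹ * y⁻¹) := by group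
    rw [e, hc]
    exact D.mul_mem (D.mul_mem (hsqD _ (Q1.mul_mem hx hy)) (hsqD _ (Q1.inv_mem hx))) (hsqD _ (Q1.inv_mem hy))
  refine L.false_of_layer W hG hfus (fun x hx hinv => W.ker x hx ?_) fun u hu _ _ g hg => ?_
  · show al t x ^ 2 ^ (k - 1) = 1
    rw [L.al_eq W hinv, hk]
    have := L.D_sq (hsqD _ (Q1.inv_mem hx))
    rw [show (2 : ℕ) ^ (2 - 1) = 2 from rfl, pow_two]
    exact this
  · let φ : Q1 →* D := MonoidHom.mk' (fun y => ⟨u * y * u⁻¹ * (y : G)⁻¹, hcom u hu y y.2⟩) fun y z =>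
      Subtype.ext (by
        show u * ((y : G) * z) * u⁻¹ * ((y : G) * z)⁻¹ =
          u * y * u⁻¹ * (y : G)⁻¹ * (u * z * u⁻¹ * (z : G)⁻¹)
        calc u * ((y : G) * z) * u⁻¹ * ((y : G) * z)⁻¹
            = u * y * u⁻¹ * ((u * z * u⁻¹ * (z : G)⁻¹) * (y : G)⁻¹) := by group
          _ = _ := by rw [← hcenD _ (hcom u hu z z.2) _ (Q1.inv_mem y.2)]; group)
    have hsmall := (L.base.small_centralizer hg (Q := φ.ker.map Q1.subtype) ((hQ2.to_subgroup _).map _) ?_).2
    · rw [Nat.card_congr (φ.ker.equivMapOfInjective _ Q1.subtype_injective).toEquiv.symm] at hsmall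
      have h2 : Nat.card φ.range ≤ 2 ^ n := by rw [← L.base.hcard]; exact card_le_card_group _
      have h3 : (2 ^ n) ^ 3 = Nat.card φ.ker * Nat.card φ.range := by
        rw [← hcard, ← index_ker, card_mul_index]
      have h4 := Nat.mul_le_mul hsmall h2
      rw [← h3] at h4
      have h5 : 4 ≤ 2 ^ n := Nat.pow_le_pow_right (show 0 < 2 by norm_num) L.base.hn
      nlinarith
    · rintro _ ⟨y, hy, rfl⟩
      refine mem_centralizer_singleton_iff.2 ?_
      have e : u * (y : G) * u⁻¹ * (y : G)⁻¹ = 1 := congrArg Subtype.val hy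
      rw [mul_inv_eq_one, mul_inv_eq_iff_eq_mul] at e
      exact e.symm

/-- The layer is commutative. -/
theorem false_comm [Finite G] [IsSimpleGroup G] (hG : ¬ IsMulCommutative G)
    (hfus : ∀ u ∈ R, (∃ g : G, g * t * g⁻¹ = u) ↔ t * u ∈ D)
    (hc : ∀ x ∈ Q1, ∀ y ∈ Q1, x * y = y * x)
    (ih : ∀ A', Level t R D ρ n (k + 1) A' → False) : False := by
  have hstep : (2 ^ n) ^ k * 2 ^ n = Nat.card Q1 := by rw [W.card, L.card]
  set e : G → G := fun x => x * (t * x * t⁻¹) with he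
  have heA : ∀ x ∈ Q1, e x ∈ A := fun x hx => by
    rw [show e x = x * x * (x⁻¹ * (t * x * t⁻¹)) by simp only [e]; group]
    exact A.mul_mem (W.sq x (W.Q1M1 hx)) (L.conjt_comm W (W.Q1M1 hx))
  have heD : ∀ x ∈ Q1, e x ∈ D := fun x hx => L.fixed_mem_D W (W.AQ1 (heA x hx)) (by
    have hy : t * x * t⁻¹ ∈ Q1 := (mem_normalizer_iff.1 W.tQ x).1 hx
    calc t * e x * t⁻¹ = (t * x * t⁻¹) * ((t * t) * x * (t * t)⁻¹) := by simp only [e]; group
      _ = e x := by rw [L.base.t_sq, one_mul, inv_one, mul_one, hc _ hy x hx])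
  have hemul : ∀ x ∈ Q1, ∀ y ∈ Q1, e (x * y) = e x * e y := fun x hx y hy => by
    have hx' : t * x * t⁻¹ ∈ Q1 := (mem_normalizer_iff.1 W.tQ x).1 hx
    calc e (x * y) = x * (y * (t * x * t⁻¹)) * (t * y * t⁻¹) := by simp only [e]; group
      _ = e x * e y := by rw [hc y hy _ hx']; simp only [e]; group
  have he0 : ∀ a ∈ A, e a = 1 := fun a ha => by
    show a * (t * a * t⁻¹) = 1
    rw [L.t_inv, L.inv a ha, mul_inv_cancel]
  have hal : ∀ x, al t x = e x * (x * x)⁻¹ ∨ ¬ x ∈ Q1 := fun x => by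
    by_cases hx : x ∈ Q1
    · refine Or.inl ?_
      have hx' : t * x * t⁻¹ ∈ Q1 := (mem_normalizer_iff.1 W.tQ x).1 hx
      show t * (x * t * x⁻¹) = x * (t * x * t⁻¹) * (x * x)⁻¹
      rw [hc x hx _ hx', L.t_inv]
      group
    · exact Or.inr hx
  by_cases hom : ∃ x ∈ Q1, x * x = 1 ∧ x ∉ D
  · obtain ⟨x, hx, hx2, hxD⟩ := hom
    have hxA : x ∉ A := fun h => hxD (L.omega x h hx2)
    have hk1 : k = 1 := by
      by_contra hne
      have hk2 : 2 ≤ k := by have := L.hk; omega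
      refine hxA (W.ker x hx ?_)
      show al t x ^ 2 ^ (k - 1) = 1
      rw [(hal x).resolve_right (not_not_intro hx), hx2, inv_one, mul_one,
        show k - 1 = k - 2 + 1 by omega, pow_succ', pow_mul, pow_two, L.D_sq (heD x hx), one_pow]
    have hexp : ∀ y ∈ Q1, y * y = 1 := by
      intro y hy
      have hA : ∀ a ∈ A, a * a = 1 := fun a ha => by
        have := L.hexp a ha
        rwa [hk1, pow_one, pow_two] at this
      by_cases hyA : y ∈ A
      · exact hA y hyA
      obtain ⟨i, hi⟩ := L.reach W hx hy hxA hyA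
      set z := r ^ i * x * (r ^ i)⁻¹ with hz
      have hzQ : z ∈ Q1 := (L.rpow_del W i hx).1
      have hz2 : z * z = 1 := by
        rw [hz, show r ^ i * x * (r ^ i)⁻¹ * (r ^ i * x * (r ^ i)⁻¹) = r ^ i * (x * x) * (r ^ i)⁻¹ by group, hx2]
        group
      have ha := W.AQ1 hi
      calc y * y = (z * (z⁻¹ * y)) * (z * (z⁻¹ * y)) := by rw [mul_inv_cancel_left]
        _ = z * ((z⁻¹ * y) * z) * (z⁻¹ * y) := by group
        _ = (z * z) * ((z⁻¹ * y) * (z⁻¹ * y)) := by rw [hc _ ha z hzQ]; group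
        _ = 1 := by rw [hz2, hA _ hi, one_mul]
    refine L.false_of_layer W hG hfus (fun y hy hinv => ?_) fun u hu _ _ g hg => ?_
    · refine L.hDA (L.fixed_mem_D W hy ?_)
      rw [L.t_inv, hinv]
      exact inv_eq_of_mul_eq_one_right (hexp y hy)
    · have := (L.base.small_centralizer hg (W.M1_two.to_le W.Q1M1) fun y hy =>
        mem_centralizer_singleton_iff.2 (hc y hy u hu)).2
      rw [← hstep, hk1, pow_one] at this
      have := Nat.le_of_mul_le_mul_right this (Nat.two_pow_pos n)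
      have h5 : 4 ≤ 2 ^ n := Nat.pow_le_pow_right (show 0 < 2 by norm_num) L.base.hn
      omega
  · push Not at hom
    by_cases hz : ∀ x ∈ Q1, e x = 1
    · refine ih Q1
        { base := L.base
          hk := Nat.le_add_left 1 k
          comm := hc
          hDA := L.hDA.trans W.AQ1
          htA := W.htQ
          card := by rw [← hstep, pow_succ]
          hexp := fun x hx => by
            rw [pow_succ', pow_mul, pow_two]
            exact L.hexp _ (W.sq x (W.Q1M1 hx))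
          omega := hom
          inv := fun x hx => by
            have h1 : x * (t * x * t⁻¹) = 1 := hz x hx
            rw [L.t_inv] at h1
            exact eq_inv_of_mul_eq_one_right h1
          torus := ⟨r, W.rC, W.rodd, W.rQ, W.rρ⟩
          normA := ?_ }
      have hmem : ∀ {z : G}, z ∈ Q1 ⊔ zpowers t → z ∈ Q1 ∨ z * z = 1 := by
        intro z hz'
        rw [sup_comm] at hz'
        obtain ⟨w, hw, a, ha, rfl⟩ :=
          (CfsgLib.Solvable.mem_sup_of_le_normalizer (zpowers_le.2 W.tQ)).1 hz'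
        rcases mem_zpowers_invol L.base.t_sq hw with rfl | rfl
        · rw [one_mul]; exact Or.inl ha
        · refine Or.inr ?_
          have h1 : a * (w * a * w⁻¹) = 1 := hz a ha
          rw [L.t_inv] at h1
          rw [← mul_assoc]
          have := eq_inv_of_mul_eq_one_right h1
          rw [this, inv_mul_cancel]
      obtain ⟨y, hy, hy2⟩ : ∃ y ∈ Q1, y * y ≠ 1 := by
        by_contra hcon
        push Not at hcon
        have : Q1 ≤ D := fun y hy => hom y hy (hcon y hy)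
        have := Subgroup.card_le_of_le this
        rw [← hstep, L.base.hcard] at this
        have h5 : 4 ≤ 2 ^ n := Nat.pow_le_pow_right (show 0 < 2 by norm_num) L.base.hn
        have h6 : 2 ^ n ≤ (2 ^ n) ^ k := Nat.le_self_pow (by have := L.hk; omega) _
        nlinarith
      intro g hg
      have hsqc : ∀ z, (g * z * g⁻¹) * (g * z * g⁻¹) = 1 → z * z = 1 := fun z hz' => by
        rw [show g * z * g⁻¹ * (g * z * g⁻¹) = g * (z * z) * g⁻¹ by group, conj_eq_one_iff] at hz'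
        exact hz'
      refine CfsgLib.TwoTimesPSL.mem_normalizer_of_forward fun x hx => ?_
      have hfw : ∀ z ∈ Q1, g * z * g⁻¹ ∈ Q1 ⊔ zpowers t := fun z hz' =>
        (mem_normalizer_iff.1 hg z).1 (mem_sup_left hz')
      rcases hmem (hfw x hx) with h1 | h1
      · exact h1
      have hx2 := hsqc x h1
      have hxy : x * y * (x * y) ≠ 1 := by
        rw [show x * y * (x * y) = x * (y * x) * y by group, hc y hy x hx,
          show x * (x * y) * y = x * x * (y * y) by group, hx2, one_mul]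
        exact hy2
      have h2 := (hmem (hfw y hy)).resolve_right fun h => hy2 (hsqc y h)
      have h3 := (hmem (hfw (x * y) (Q1.mul_mem hx hy))).resolve_right fun h => hxy (hsqc _ h)
      rw [show g * (x * y) * g⁻¹ = (g * x * g⁻¹) * (g * y * g⁻¹) by group] at h3
      have h4 := Q1.mul_mem h3 (Q1.inv_mem h2)
      rwa [mul_inv_cancel_right] at h4
    · push Not at hz
      obtain ⟨x, hx, hx1⟩ := hz
      refine L.false_of_layer W hG hfus (fun y hy hinv => ?_) fun u hu hnA hu2 _ _ =>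
        hnA (L.hDA (hom u hu hu2))
      by_contra hyA
      have hey : e y = 1 := by
        show y * (t * y * t⁻¹) = 1
        rw [L.t_inv, hinv, mul_inv_cancel]
      refine hx1 ?_
      by_cases hxA : x ∈ A
      · exact he0 x hxA
      obtain ⟨i, hi⟩ := L.reach W hy hx hyA hxA
      set z := r ^ i * y * (r ^ i)⁻¹ with hzz
      have hzQ : z ∈ Q1 := (L.rpow_del W i hy).1
      have hrt : r ^ i * t = t * r ^ i :=
        (Commute.pow_left (mem_centralizer_singleton_iff.1 W.rC : Commute r t) i).eq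
      have hez : e z = 1 := by
        calc e z = r ^ i * y * (r ^ i)⁻¹ * ((t * r ^ i) * y * (t * r ^ i)⁻¹) := by
              simp only [e, hzz]; group
          _ = r ^ i * e y * (r ^ i)⁻¹ := by rw [← hrt]; simp only [e]; group
          _ = 1 := by rw [hey]; group
      rw [show x = z * (z⁻¹ * x) by rw [mul_inv_cancel_left], hemul z hzQ _ (W.AQ1 hi), hez, he0 _ hi, one_mul]

end Layer

/-- With all translations the level extends or the group is not simple. -/
theorem false_of_trans [Finite G] [IsSimpleGroup G] (hG : ¬ IsMulCommutative G)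
    (hfus : ∀ u ∈ R, (∃ g : G, g * t * g⁻¹ = u) ↔ t * u ∈ D)
    (htr : letI := L.commD; ∀ v : D, tr v ∈ L.act.range)
    (ih : ∀ A', Level t R D ρ n (k + 1) A' → False) : False := by
  obtain ⟨M1, Q1, r, W⟩ := L.exists_nextLayer htr
  by_cases hnc : ∃ x ∈ Q1, ∃ y ∈ Q1, x * y ≠ y * x
  · exact L.false_noncomm W hG hfus hnc
  · push Not at hnc
    exact L.false_comm W hG hfus hnc ih

end Level

end CfsgLib.TwoTimesPSL
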