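import Cfsg.Agent.TwoTimesPSL.Fusion
import Cfsg.Agent.TwoTimesPSL.TransStep
import Cfsg.Agent.TwoTimesPSL.ExcStep

/-!
The elementary configuration forces elementary Sylow subgroups of order eight: levels cannot stop.
-/

set_option autoImplicit false
set_option linter.unusedSectionVars false
set_option linter.style.haveILetI false

namespace CfsgLib.TwoTimesPSL

open Subgroup

variable {G : Type*} [Group G] [Finite G] [IsSimpleGroup G]

/-- No level exists when the conjugates of `t` in `R` form the coset `tD`. -/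
theorem Level.false_of_hfus (hG : ¬ IsMulCommutative G) {t : G} {R D : Subgroup G} {ρ : G} {n : ℕ}
    (hfus : ∀ u ∈ R, (∃ g : G, g * t * g⁻¹ = u) ↔ t * u ∈ D) :
    ∀ (m k : ℕ) (A : Subgroup G), Nat.card G ≤ k + m → Level t R D ρ n k A → False := by
  intro m
  induction m with
  | zero =>
    intro k A hle L
    have h1 : Nat.card A ≤ Nat.card G := card_le_card_group A
    rw [L.card] at h1
    have h2 : k < (2 ^ n) ^ k :=
      Nat.lt_pow_self (Nat.one_lt_two_pow (by have := L.base.hn; omega))
    omega
  | succ m ih =>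
    intro k A hle L
    by_cases hne : ∃ g ∈ normalizer ((A ⊔ zpowers t : Subgroup G) : Set G), Level.del t k g ≠ 1
    · letI := L.commD
      obtain ⟨c, hc, -⟩ := L.exists_affHyp hne
      rcases hc.dichotomy with htr | ⟨hnt, -⟩
      · exact L.false_of_trans hG hfus htr fun A' L' => ih (k + 1) A' (by omega) L'
      · exact L.false_of_exceptional hG hfus hne hnt
    · push Not at hne
      exact L.false_fixed hG hfus hne

namespace ElemData

variable {t : G} {R D : Subgroup G} {ρ : G} {n : ℕ} (h : ElemData t R D ρ n)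
include h

/-- The first level. -/
theorem level_one (hfus : ∀ u ∈ R, (∃ g : G, g * t * g⁻¹ = u) ↔ t * u ∈ D) :
    Level t R D ρ n 1 D := by
  have hρD : ρ ∈ normalizer (D : Set G) :=
    mem_normalizer_of_forward fun x hx => h.hDn ρ h.hρC h.hρR x hx
  refine
    { base := h
      hk := le_refl 1
      comm := fun a ha b hb => h.comm (h.hDR ha) (h.hDR hb)
      hDA := le_refl D
      htA := h.htD
      card := by rw [pow_one, h.hcard]
      hexp := fun a ha => by rw [pow_one, pow_two, h.exp a (h.hDR ha)]
      omega := fun a ha _ => ha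
      inv := fun a ha => by rw [← h.comm_t (h.hDR ha), mul_assoc, h.t_sq, mul_one, h.inv_R (h.hDR ha)]
      torus := ⟨ρ, h.hρC, h.hρodd, hρD, fun d _ => rfl⟩
      normA := fun g hg => mem_normalizer_of_forward fun x hx => ?_ }
  have hRM : ∀ y, y ∈ D ⊔ zpowers t → y ∈ R := fun y hy =>
    (sup_le h.hDR (zpowers_le.2 h.htR)) hy
  have hy := hRM _ ((mem_normalizer_iff.1 hg x).1 (mem_sup_left hx))
  rcases h.split _ hy with hd | hd
  · exact hd
  · obtain ⟨g', hg'⟩ := (hfus _ hy).2 hd
    exact absurd ((hfus x (h.hDR hx)).1 ⟨g⁻¹ * g', by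
      rw [show g⁻¹ * g' * t * (g⁻¹ * g')⁻¹ = g⁻¹ * (g' * t * g'⁻¹) * g by group, hg']; group⟩) (h.td_notMem hx)

/-- The conclusion in the elementary configuration. -/
theorem conclusion (hG : ¬ IsMulCommutative G) (S : Sylow 2 G) :
    Nat.card (S : Subgroup G) = 8 ∧ ∀ x ∈ (S : Subgroup G), x ^ 2 = 1 := by
  rcases h.dichotomy hG S with h8 | hfus
  · exact h8
  · exact (Level.false_of_hfus hG hfus (Nat.card G) 1 D (Nat.le_add_left _ _) (h.level_one hfus)).elim

end ElemData

end CfsgLib.TwoTimesPSL
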