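import Cfsg.Agent.TwoTimesPSL.Extract
import Cfsg.Agent.TwoTimesPSL.ElemMain
import Cfsg.Agent.TwoTimesPSL.Dihedral

/-!
Involution centralisers with `Z₂ × PSL₂(q)` modulo core: the Sylow subgroups are elementary of order eight.
-/

set_option autoImplicit false
set_option linter.style.haveILetI false

namespace CfsgLib.TwoTimesPSL

open Subgroup
open CfsgLib.Linear.SmallSub (P2)

theorem main {G : Type*} [Group G] [Finite G] [IsSimpleGroup G] (hG : ¬ IsMulCommutative G) (t : G)
    (ht : orderOf t = 2) {F : Type*} [Field F] [Fintype F] (hF : 3 < Fintype.card F)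
    (e : ↥(closure {x : (↥(centralizer ({t} : Set G)) ⧸ Cfsg.oddCore ↥(centralizer ({t} : Set G))) |
        ∃ k : ℕ, orderOf x = 2 ^ k}) ≃* Multiplicative (ZMod 2) × P2 F) (S : Sylow 2 G) :
    Nat.card (S : Subgroup G) = 8 ∧ ∀ x ∈ (S : Subgroup G), x ^ 2 = 1 := by
  classical
  haveI : Fact (Nat.Prime 2) := ⟨Nat.prime_two⟩
  haveI : IsSimpleGroup (P2 F) := by
    refine CfsgLib.Linear.isSimpleGroup_PSL (Or.inr ?_)
    by_contra hcon
    push Not at hcon
    have hle : Fintype.card F ≤ 3 := by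
      have hsub : (Finset.univ : Finset F) ⊆ {0, 1, -1} := fun x _ => by
        by_cases hx : x = 0
        · simp [hx]
        · rcases sq_eq_one_iff.1 (hcon x hx) with rfl | rfl <;> simp
      calc Fintype.card F = (Finset.univ : Finset F).card := rfl
        _ ≤ _ := Finset.card_le_card hsub
        _ ≤ 3 := Finset.card_le_three
    omega
  obtain ⟨Φ⟩ := exists_cover ht e
  obtain ⟨P0⟩ : Nonempty (Sylow 2 (P2 F)) := inferInstance
  have hnc : ∀ {P : Sylow 2 (P2 F)}, 4 ≤ Nat.card (P : Subgroup (P2 F)) → ¬ IsMulCommutative (P2 F) := by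
    intro P h4 h
    have hp : (Nat.card (P2 F)).Prime := by
      haveI := h
      letI : CommGroup (P2 F) := { (inferInstance : Group (P2 F)) with mul_comm := fun a b => h.1.1 a b }
      exact IsSimpleGroup.prime_card
    have hd := (P : Subgroup (P2 F)).card_subgroup_dvd_card
    rcases (Nat.dvd_prime hp).1 hd with h1 | h1
    · omega
    · obtain ⟨j, hj⟩ := IsPGroup.iff_card.1 P.isPGroup'
      rw [← h1, hj] at hp
      rcases j with _ | _ | j
      · norm_num at hp
      · rw [hj] at h4; norm_num at h4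
      · exact Nat.Prime.not_prime_pow (le_add_left (le_refl 2)) hp
  rcases Nat.even_or_odd (Fintype.card F) with heven | hodd
  · obtain ⟨P, r, n, E⟩ := elemL_even hF heven
    obtain ⟨R, D, ρ, hD⟩ := Φ.elemData (hnc (P := P) (by
      rw [E.card]; exact Nat.pow_le_pow_right (show 0 < 2 by norm_num) E.hn)) E
    exact hD.conclusion hG S
  have h8 : Fintype.card F % 8 = 3 ∨ Fintype.card F % 8 = 5 ∨ Fintype.card F % 8 = 1 ∨
      Fintype.card F % 8 = 7 := by
    obtain ⟨k, hk⟩ := hodd; omega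
  have hone : ∀ a b : P2 F, a * a = 1 → a ≠ 1 → b * b = 1 → b ≠ 1 → IsConj a b :=
    fun a b ha ha1 hb hb1 => CfsgLib.Linear.FourGroups.involutions_conj hodd ha ha1 hb hb1
  by_cases h : Fintype.card F % 8 = 3 ∨ Fintype.card F % 8 = 5
  · have hP := CfsgLib.Linear.SylowTwoSL.isKleinFour_sylow_psl rfl h P0
    obtain ⟨r, E⟩ := elemL_of_klein P0 hP hone
    obtain ⟨R, D, ρ, hD⟩ := Φ.elemData (hnc (P := P0) hP.card_four.ge) E
    exact hD.conclusion hG S
  · obtain ⟨P, m, hm, hP⟩ := dihedral_sylow (F := F) (by omega)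
    obtain ⟨L', R, P', hD⟩ := Φ.dihData (hnc (P := P) (by
      obtain ⟨eP⟩ := hP
      rw [Nat.card_congr eP.toEquiv, DihedralGroup.nat_card]
      omega)) hm hP hone
    exact (hD.false hG).elim

end CfsgLib.TwoTimesPSL
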