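import Cfsg.Agent.Invol.BaerSuzuki
import Cfsg.Agent.Comp.Fitting
import Mathlib.GroupTheory.PGroup
import Mathlib.GroupTheory.Index

/-!
Transitive affine permutation groups of an elementary abelian 2-group with point stabiliser of odd order
normalising a regular cyclic linear group: fixed points of elements of odd prime order, translations.
-/

set_option autoImplicit false
set_option linter.unusedSectionVars false
set_option linter.style.haveILetI false

namespace CfsgLib.TwoTimesPSL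

open Equiv (Perm)

variable {V : Type*} [CommGroup V]

/-- The linear part of an affine permutation. -/
def lin (x : Perm V) (v : V) : V := x v * x 1

/-- The translation. -/
def tr (v : V) : Perm V := Equiv.mulLeft v

@[simp] theorem tr_apply (v w : V) : tr v w = v * w := rfl

/-- The hypotheses. -/
structure AffHyp (X : Subgroup (Perm V)) (c : Perm V) : Prop where
  exp : ∀ v : V, v * v = 1
  aff : ∀ x ∈ X, ∀ a b, x (a * b) = x a * x b * x 1
  trans : ∀ v, ∃ x ∈ X, x 1 = v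
  stabOdd : ∀ x ∈ X, x 1 = 1 → Odd (orderOf x)
  cX : c ∈ X
  c1 : c 1 = 1
  creg : ∀ a b : V, a ≠ 1 → b ≠ 1 → ∃ i : ℕ, (c ^ i) a = b
  cnorm : ∀ x ∈ X, x 1 = 1 → ∃ i : ℕ, x * c * x⁻¹ = c ^ i
  four : 4 ≤ Nat.card V

/-- Conjugation of a point. -/
theorem conj_fix {α : Type*} (x φ : Perm α) {a b : α} (hab : x b = a) (h : φ a = a) :
    (x⁻¹ * φ * x) b = b := by
  rw [Equiv.Perm.mul_apply, Equiv.Perm.mul_apply, hab, h, ← hab]
  exact x.symm_apply_apply b

/-- Conjugates keep the order. -/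
theorem orderOf_conj' {H : Type*} [Group H] (x y : H) : orderOf (x⁻¹ * y * x) = orderOf y := by
  have := CfsgLib.Invol.orderOf_conj_eq x⁻¹ y
  rwa [inv_inv] at this

/-- An element of odd order cannot invert an element of order above two. -/
theorem sq_eq_one_of_odd_inverts {H : Type*} [Group H] {g y : H} (hg : Odd (orderOf g))
    (h : g * y * g⁻¹ = y⁻¹) : y * y = 1 := by
  obtain ⟨k, hk⟩ := hg
  have h2 : MulAut.conj (g * g) y = y := by
    rw [map_mul, MulAut.mul_apply]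
    simp only [MulAut.conj_apply]
    rw [h, ← conj_inv, h, inv_inv]
  have h3 : ∀ j : ℕ, MulAut.conj ((g * g) ^ j) y = y := fun j => by
    induction j with
    | zero => simp
    | succ j ih => rw [pow_succ, map_mul, MulAut.mul_apply, h2, ih]
  have h4 : MulAut.conj (g ^ orderOf g) y = y⁻¹ := by
    rw [hk, pow_succ', pow_mul, pow_two, map_mul, MulAut.mul_apply, h3 k]
    exact h
  rw [pow_orderOf_eq_one, map_one, MulAut.one_apply] at h4
  calc y * y = y * y⁻¹ := by rw [← h4]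
    _ = 1 := mul_inv_cancel y

/-- The fixed points of an element of prime order count modulo that prime. -/
theorem modEq_fixed {α : Type*} [Finite α] {l : ℕ} [Fact l.Prime] {φ : Perm α} (ho : orderOf φ = l) :
    Nat.card α ≡ Nat.card {a : α // φ a = a} [MOD l] := by
  have hp : IsPGroup l (Subgroup.zpowers φ) := IsPGroup.of_card (n := 1) (by rw [Nat.card_zpowers, ho, pow_one])
  refine (hp.card_modEq_card_fixedPoints (α := α)).trans ?_
  suffices e : Nat.card (MulAction.fixedPoints (Subgroup.zpowers φ) α) = Nat.card {a : α // φ a = a} by rw [e]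
  refine Nat.card_congr (Equiv.subtypeEquivRight fun a => ?_)
  show (∀ g : Subgroup.zpowers φ, g • a = a) ↔ _
  refine ⟨fun hg => hg ⟨φ, Subgroup.mem_zpowers φ⟩, fun ha g => ?_⟩
  have : Subgroup.zpowers φ ≤ MulAction.stabilizer (Perm α) a := Subgroup.zpowers_le.2 ha
  exact this g.2

namespace AffHyp

variable {X : Subgroup (Perm V)} {c : Perm V} (h : AffHyp X c)
include h

theorem inv_self (v : V) : v⁻¹ = v := inv_eq_of_mul_eq_one_right (h.exp v)

theorem cancel (v w : V) : v * (v * w) = w := by rw [← mul_assoc, h.exp, one_mul]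

theorem cancel_right (v w : V) : v * w * w = v := by rw [mul_assoc, h.exp, mul_one]

theorem apply_eq {x : Perm V} (v : V) : x v = lin x v * x 1 := (h.cancel_right _ _).symm

theorem lin_mul_map {x : Perm V} (hx : x ∈ X) (a b : V) : lin x (a * b) = lin x a * lin x b := by
  unfold lin
  rw [h.aff x hx, h.cancel_right, mul_mul_mul_comm, h.exp (x 1), mul_one]

theorem lin_one_map (x : Perm V) : lin x 1 = 1 := h.exp _

theorem lin_comp {x : Perm V} (hx : x ∈ X) (y : Perm V) (v : V) : lin (x * y) v = lin x (lin y v) := by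
  show x (y v) * x (y 1) = lin x (y v * y 1)
  rw [h.lin_mul_map hx]
  show x (y v) * x (y 1) = x (y v) * x 1 * (x (y 1) * x 1)
  rw [mul_mul_mul_comm, h.exp (x 1), mul_one]

theorem lin_of_fix {x : Perm V} (h1 : x 1 = 1) (v : V) : lin x v = x v := by
  unfold lin; rw [h1, mul_one]

theorem map_of_fix {x : Perm V} (hx : x ∈ X) (h1 : x 1 = 1) (a b : V) : x (a * b) = x a * x b := by
  rw [h.aff x hx, h1, mul_one]

theorem cpow_one (i : ℕ) : (c ^ i) 1 = 1 := by
  induction i with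
  | zero => rfl
  | succ i ih => rw [pow_succ, Equiv.Perm.mul_apply, h.c1, ih]

theorem cpow_mem (i : ℕ) : c ^ i ∈ X := pow_mem h.cX i

theorem cpow_ext {i j : ℕ} {v : V} (hv : v ≠ 1) (he : (c ^ i) v = (c ^ j) v) : c ^ i = c ^ j := by
  refine Equiv.ext fun w => ?_
  rcases eq_or_ne w 1 with rfl | hw
  · rw [h.cpow_one, h.cpow_one]
  obtain ⟨k, rfl⟩ := h.creg v w hv hw
  rw [← Equiv.Perm.mul_apply, ← Equiv.Perm.mul_apply, ← pow_add, ← pow_add, add_comm i, add_comm j,
    pow_add, pow_add, Equiv.Perm.mul_apply, Equiv.Perm.mul_apply, he]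

theorem finite : Finite V := Nat.finite_of_card_ne_zero (by have := h.four; omega)

theorem vGroup : IsPGroup 2 V := fun v => ⟨1, by rw [pow_one, pow_two, h.exp]⟩

theorem not_dvd_card {l : ℕ} (hl : l.Prime) (h2 : l ≠ 2) : ¬ l ∣ Nat.card V := by
  have : Finite V := h.finite
  have : Fact (Nat.Prime 2) := ⟨Nat.prime_two⟩
  obtain ⟨n, hn⟩ := IsPGroup.iff_card.1 h.vGroup
  rw [hn]
  exact fun hd => h2 ((Nat.prime_dvd_prime_iff_eq hl Nat.prime_two).1 (hl.dvd_of_dvd_pow hd))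

theorem exists_fixed {l : ℕ} [hlp : Fact l.Prime] (h2 : l ≠ 2) {φ : Perm V} (ho : orderOf φ = l) :
    ∃ a, φ a = a := by
  have : Finite V := h.finite
  by_contra hcon
  push Not at hcon
  have : IsEmpty {a : V // φ a = a} := ⟨fun a => hcon a a.2⟩
  have hmod := modEq_fixed ho
  rw [Nat.card_of_isEmpty (α := {a : V // φ a = a})] at hmod
  exact h.not_dvd_card hlp.out h2 (Nat.modEq_zero_iff_dvd.1 hmod)

theorem inv_fpf {s : Perm V} (hs : s ∈ X) (h2 : s * s = 1) (h1 : s ≠ 1) (a : V) : s a ≠ a := by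
  intro ha
  obtain ⟨x, hx, hxa⟩ := h.trans a
  have ho : orderOf (x⁻¹ * s * x) = 2 := by
    rw [orderOf_conj']
    exact orderOf_eq_prime (by rw [pow_two, h2]) h1
  have := h.stabOdd _ (X.mul_mem (X.mul_mem (X.inv_mem hx) hs) hx) (conj_fix x s hxa ha)
  rw [ho] at this
  exact (Nat.not_even_iff_odd.2 this) even_two

/-- The key lemma at the origin. -/
theorem fix_key {φ s : Perm V} (hφ : φ ∈ X) (hs : s ∈ X) (hs2 : s * s = 1) (hinv : s * φ * s = φ⁻¹)
    (hφ2 : φ * φ ≠ 1) (h1 : φ 1 = 1) {u : V} (hu : φ u = u) : u = 1 ∨ u = s 1 := by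
  by_contra hcon
  push Not at hcon
  obtain ⟨hu1, huv⟩ := hcon
  have hss : ∀ a, s (s a) = a := fun a => by rw [← Equiv.Perm.mul_apply, hs2]; rfl
  have hsfix : ∀ a, φ a = a → φ (s a) = s a := fun a ha => by
    have e : φ * s = s * φ⁻¹ := by rw [← hinv, mul_assoc, ← mul_assoc s s, hs2, one_mul]
    have := congrArg (fun σ : Perm V => σ a) e
    simp only [Equiv.Perm.mul_apply] at this
    rw [this]
    exact congrArg s ((Equiv.Perm.inv_eq_iff_eq).2 ha.symm)
  have hcomm : ∀ j : ℕ, ∀ v : V, v ≠ 1 → φ v = v → φ ((c ^ j) v) = (c ^ j) v → φ * c ^ j = c ^ j * φ := by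
    intro j v hv hφv hj
    obtain ⟨i, hi⟩ := h.cnorm φ hφ h1
    have e : φ * c ^ j * φ⁻¹ = c ^ (i * j) := by rw [pow_mul, ← hi, conj_pow]
    have e2 : (c ^ (i * j)) v = (c ^ j) v := by
      rw [← e, Equiv.Perm.mul_apply, Equiv.Perm.mul_apply, (Equiv.Perm.inv_eq_iff_eq).2 hφv.symm, hj]
    rw [h.cpow_ext hv e2] at e
    exact mul_inv_eq_iff_eq_mul.1 e
  have hsne : s ≠ 1 := fun e => by
    rw [e] at hinv
    rw [one_mul, mul_one] at hinv
    exact hφ2 (by nth_rw 2 [hinv]; rw [mul_inv_cancel])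
  have hv1 : s 1 ≠ 1 := h.inv_fpf hs hs2 hsne 1
  have hvfix := hsfix 1 h1
  obtain ⟨j, hj⟩ := h.creg (s 1) u hv1 hu1
  have hcj : φ * c ^ j = c ^ j * φ := hcomm j _ hv1 hvfix (by rw [hj]; exact hu)
  set m := s * c ^ j * s with hm
  have hmX : m ∈ X := X.mul_mem (X.mul_mem hs (h.cpow_mem j)) hs
  have hmφ : φ * m = m * φ := by
    have e1 : φ * s = s * φ⁻¹ := by rw [← hinv, mul_assoc, ← mul_assoc s s, hs2, one_mul]
    have e2 : φ⁻¹ * s = s * φ := by rw [← hinv, mul_assoc, hs2, mul_one]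
    have e3 : φ⁻¹ * c ^ j = c ^ j * φ⁻¹ := (Commute.inv_left (hcj : Commute φ (c ^ j))).eq
    calc φ * m = φ * s * (c ^ j * s) := by rw [hm]; group
      _ = s * (φ⁻¹ * c ^ j) * s := by rw [e1]; group
      _ = s * c ^ j * (φ⁻¹ * s) := by rw [e3]; group
      _ = m * φ := by rw [e2, hm]; group
  have hm1 : m 1 = s u := by rw [hm, Equiv.Perm.mul_apply, Equiv.Perm.mul_apply, hj]
  have hr : s u ≠ 1 := fun e => huv (by rw [← hss u, e])
  obtain ⟨k, hk⟩ := h.creg (s u) (s 1) hr hv1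
  have hck : φ * c ^ k = c ^ k * φ := hcomm k _ hr (hsfix u hu) (by rw [hk]; exact hvfix)
  have hkm : φ * (c ^ k * m) = c ^ k * m * φ := by rw [← mul_assoc, hck, mul_assoc, hmφ, ← mul_assoc]
  set n := (c ^ k * m)⁻¹ * s with hn
  have hn1 : n 1 = 1 := by
    rw [hn, Equiv.Perm.mul_apply, Equiv.Perm.inv_eq_iff_eq, Equiv.Perm.mul_apply, hm1, hk]
  have hnX : n ∈ X := X.mul_mem (X.inv_mem (X.mul_mem (h.cpow_mem k) hmX)) hs
  refine hφ2 (sq_eq_one_of_odd_inverts (h.stabOdd n hnX hn1) ?_)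
  have e : (c ^ k * m)⁻¹ * φ⁻¹ = φ⁻¹ * (c ^ k * m)⁻¹ := by rw [← mul_inv_rev, hkm, mul_inv_rev]
  calc n * φ * n⁻¹ = (c ^ k * m)⁻¹ * (s * φ * s⁻¹) * (c ^ k * m) := by rw [hn]; group
    _ = φ⁻¹ := by rw [inv_eq_of_mul_eq_one_right hs2, hinv, e, inv_mul_cancel_right]

/-- An element of order above two inverted by an involution fixes at most a transposed pair. -/
theorem fix_two {φ s : Perm V} (hφ : φ ∈ X) (hs : s ∈ X) (hs2 : s * s = 1) (hinv : s * φ * s = φ⁻¹)
    (hφ2 : φ * φ ≠ 1) {a u : V} (ha : φ a = a) (hu : φ u = u) : u = a ∨ u = s a := by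
  obtain ⟨x, hx, hxa⟩ := h.trans a
  have hu' : (x⁻¹ * φ * x) (x⁻¹ u) = x⁻¹ u := conj_fix x φ (x.apply_symm_apply u) hu
  have h' := h.fix_key (φ := x⁻¹ * φ * x) (s := x⁻¹ * s * x) (u := x⁻¹ u)
    (X.mul_mem (X.mul_mem (X.inv_mem hx) hφ) hx) (X.mul_mem (X.mul_mem (X.inv_mem hx) hs) hx)
    (by rw [show x⁻¹ * s * x * (x⁻¹ * s * x) = x⁻¹ * (s * s) * x by group, hs2]; group)
    (by
      rw [show x⁻¹ * s * x * (x⁻¹ * φ * x) * (x⁻¹ * s * x) = x⁻¹ * (s * φ * s) * x by group, hinv]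
      group)
    (by
      intro e
      refine hφ2 ?_
      calc φ * φ = x * (x⁻¹ * φ * x * (x⁻¹ * φ * x)) * x⁻¹ := by group
        _ = 1 := by rw [e]; group)
    (conj_fix x φ hxa ha) hu'
  rcases h' with e | e
  · left
    rw [← hxa, ← e]
    exact (x.apply_symm_apply u).symm
  · right
    rw [Equiv.Perm.mul_apply, Equiv.Perm.mul_apply, hxa] at e
    exact x⁻¹.injective e

theorem tr_all {v : V} (hv : v ≠ 1) (hvX : tr v ∈ X) (w : V) : tr w ∈ X := by
  rcases eq_or_ne w 1 with rfl | hw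
  · convert X.one_mem using 1
    exact Equiv.ext fun a => one_mul a
  obtain ⟨i, hi⟩ := h.creg v w hv hw
  have e : c ^ i * tr v * (c ^ i)⁻¹ = tr w := by
    refine Equiv.ext fun a => ?_
    show (c ^ i) (v * (c ^ i)⁻¹ a) = w * a
    rw [h.map_of_fix (h.cpow_mem i) (h.cpow_one i), hi]
    exact congrArg (w * ·) ((c ^ i).apply_symm_apply a)
  rw [← e]
  exact X.mul_mem (X.mul_mem (h.cpow_mem i) hvX) (X.inv_mem (h.cpow_mem i))

theorem eq_tr_of_lin {x : Perm V} (hl : ∀ v, lin x v = v) : x = tr (x 1) :=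
  Equiv.ext fun v => by rw [h.apply_eq (x := x) v, hl, tr_apply, mul_comm]

/-- Without translations the linear part is faithful. -/
theorem lin_faithful (hnt : ∀ v, v ≠ 1 → tr v ∉ X) {x : Perm V} (hx : x ∈ X) (hl : ∀ v, lin x v = v) :
    x = 1 := by
  have e := h.eq_tr_of_lin hl
  by_cases h1 : x 1 = 1
  · rw [e, h1]
    exact Equiv.ext fun a => one_mul a
  · exact absurd (e ▸ hx) (hnt _ h1)

/-- The linear representation. -/
def linHom : X →* Perm V where
  toFun x := tr ((x : Perm V) 1) * (x : Perm V)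
  map_one' := Equiv.ext fun a => one_mul a
  map_mul' x y := Equiv.ext fun v => by
    show ((x : Perm V) * y) 1 * ((x : Perm V) * y) v =
      (x : Perm V) 1 * (x : Perm V) ((y : Perm V) 1 * (y : Perm V) v)
    have e := h.lin_comp x.2 (y : Perm V) v
    unfold lin at e
    rw [mul_comm (((x : Perm V) * y) 1), e, mul_comm ((y : Perm V) 1)]
    exact mul_comm _ _

theorem linHom_apply (x : X) (v : V) : h.linHom x v = lin (x : Perm V) v := mul_comm _ _

/-- A nontrivial normal 2-subgroup brings in the translations. -/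
theorem tr_of_normal {N : Subgroup X} [N.Normal] (hN : IsPGroup 2 N) (hne : N ≠ ⊥) :
    ∃ v, v ≠ 1 ∧ tr v ∈ X := by
  by_contra hcon
  push Not at hcon
  have : Finite V := h.finite
  have : Fact (Nat.Prime 2) := ⟨Nat.prime_two⟩
  letI : MulAction N V := MulAction.compHom V ((h.linHom).comp N.subtype)
  have hsm : ∀ (g : N) (v : V), g • v = lin ((g : X) : Perm V) v := fun g v => h.linHom_apply _ v
  have hfix : ∃ v : V, v ≠ 1 ∧ ∀ g : N, g • v = v := by
    obtain ⟨v, hv, hv1⟩ := hN.exists_fixed_point_of_prime_dvd_card_of_fixed_point (α := V)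
      (by
        obtain ⟨n, hn⟩ := IsPGroup.iff_card.1 h.vGroup
        have := h.four
        rw [hn] at this ⊢
        exact dvd_pow_self 2 (by rintro rfl; norm_num at this))
      (a := 1) (fun g => by rw [hsm]; exact h.lin_one_map _)
    exact ⟨v, fun e => hv1 e.symm, hv⟩
  obtain ⟨v, hv1, hv⟩ := hfix
  have hall : ∀ g : N, ∀ w, lin ((g : X) : Perm V) w = w := by
    intro g w
    rcases eq_or_ne w 1 with rfl | hw
    · exact h.lin_one_map _
    obtain ⟨i, rfl⟩ := h.creg v w hv1 hw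
    let C : X := ⟨c ^ i, h.cpow_mem i⟩
    have hgC : C⁻¹ * (g : X) * C ∈ N := by
      simpa using (inferInstance : N.Normal).conj_mem g g.2 C⁻¹
    have e := hv ⟨_, hgC⟩
    rw [hsm] at e
    have hci : lin (c ^ i) v = (c ^ i) v := h.lin_of_fix (h.cpow_one i) v
    calc lin ((g : X) : Perm V) ((c ^ i) v) = lin (((g : X) : Perm V) * c ^ i) v := by
          rw [h.lin_comp (g : X).2, hci]
      _ = lin (c ^ i * ((C⁻¹ * (g : X) * C : X) : Perm V)) v := by
          congr 1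
          simp [C, mul_assoc]
      _ = (c ^ i) v := by rw [h.lin_comp (h.cpow_mem i), e, hci]
  obtain ⟨⟨g, hg⟩, hg1'⟩ := (N.ne_bot_iff_exists_ne_one).1 hne
  have hg1 : g ≠ 1 := fun e => hg1' (Subtype.ext e)
  exact hg1 (Subtype.ext (h.lin_faithful hcon g.2 (hall ⟨g, hg⟩)))

/-- Without translations every involution inverts an element of odd prime order. -/
theorem exists_pair (hnt : ∀ v, v ≠ 1 → tr v ∉ X) {s : Perm V} (hs : s ∈ X) (hs2 : s * s = 1)
    (hs1 : s ≠ 1) :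
    ∃ (l : ℕ) (φ : Perm V), l.Prime ∧ l ≠ 2 ∧ φ ∈ X ∧ orderOf φ = l ∧ s * φ * s = φ⁻¹ := by
  have : Finite V := h.finite
  have : Fact (Nat.Prime 2) := ⟨Nat.prime_two⟩
  have ho : orderOf (⟨s, hs⟩ : X) = 2 := by
    rw [← Subgroup.orderOf_coe]
    exact orderOf_eq_prime (by rw [pow_two]; exact hs2) hs1
  have hO : (⟨s, hs⟩ : X) ∉ Cfsg.pCore 2 X := fun hmem => by
    have hne : Cfsg.pCore 2 X ≠ ⊥ := fun e => by
      rw [e, Subgroup.mem_bot] at hmem
      exact hs1 (congrArg Subtype.val hmem)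
    haveI : (Cfsg.pCore 2 X).Normal := inferInstance
    obtain ⟨v, hv, hvX⟩ := h.tr_of_normal (CfsgLib.Comp.pCore_isPGroup' 2) hne
    exact hnt v hv hvX
  obtain ⟨g, hg1, hgo, hgi⟩ := CfsgLib.Invol.exists_inverted_odd _ ho hO
  have hne : orderOf g ≠ 1 := fun e => hg1 (orderOf_eq_one_iff.1 e)
  set l := (orderOf g).minFac with hldef
  have hl : l.Prime := Nat.minFac_prime hne
  have hl2 : l ≠ 2 := fun e => (Nat.not_even_iff_odd.2 hgo) (even_iff_two_dvd.2 (e ▸ Nat.minFac_dvd _))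
  refine ⟨l, ((g ^ (orderOf g / l) : X) : Perm V), hl, hl2, (g ^ (orderOf g / l)).2, ?_, ?_⟩
  · rw [Subgroup.orderOf_coe]
    exact orderOf_pow_orderOf_div (orderOf_pos g).ne' (Nat.minFac_dvd _)
  · have e := congrArg (fun y : X => ((y ^ (orderOf g / l) : X) : Perm V)) hgi
    simp only [conj_pow, inv_pow] at e
    simpa [inv_eq_of_mul_eq_one_right hs2] using e

/-- An element inverting one of odd prime order moves its fixed point to another. -/
theorem pair_fixed {l : ℕ} [hlp : Fact l.Prime] (h2 : l ≠ 2) {φ s : Perm V} (hφ : φ ∈ X) (hs : s ∈ X)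
    (hs2 : s * s = 1) (hs1 : s ≠ 1) (ho : orderOf φ = l) (hinv : s * φ * s = φ⁻¹) :
    ∃ a, φ a = a ∧ φ (s a) = s a ∧ s a ≠ a ∧ ∀ u, φ u = u → u = a ∨ u = s a := by
  obtain ⟨a, ha⟩ := h.exists_fixed h2 ho
  refine ⟨a, ha, ?_, h.inv_fpf hs hs2 hs1 a, fun u hu => h.fix_two hφ hs hs2 hinv ?_ ha hu⟩
  · have e : φ * s = s * φ⁻¹ := by rw [← hinv, mul_assoc, ← mul_assoc s s, hs2, one_mul]
    rw [← Equiv.Perm.mul_apply, e, Equiv.Perm.mul_apply]
    exact congrArg s ((Equiv.Perm.inv_eq_iff_eq).2 ha.symm)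
  · intro e
    have hd : l ∣ 2 := ho ▸ orderOf_dvd_of_pow_eq_one (by rw [pow_two, e])
    exact h2 ((Nat.prime_dvd_prime_iff_eq hlp.out Nat.prime_two).1 hd)

end AffHyp

end CfsgLib.TwoTimesPSL
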