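import Cfsg.Agent.TwoTimesPSL.AffFrame
import Cfsg.Agent.Char.Burnside
import Cfsg.Agent.Turull.TowerExist
import Cfsg.Agent.Solvable.Basics
import Cfsg.Agent.TC23.Pair

/-!
The translation-free affine groups have degree eight.
-/

set_option autoImplicit false
set_option linter.unusedSectionVars false
set_option linter.style.haveILetI false

namespace CfsgLib.TwoTimesPSL

open Equiv (Perm)
open Subgroup MulAction

/-- A permutation of prime order with a single fixed point. -/
theorem dvd_pred_of_unique_fixed {α : Type*} [Finite α] {r : ℕ} [hr : Fact r.Prime] (y : Perm α)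
    (hy : y ^ r = 1) (a : α) (ha : y a = a) (hu : ∀ b, y b = b → b = a) : r ∣ Nat.card α - 1 := by
  by_cases h1 : y = 1
  · haveI : Subsingleton α := ⟨fun b d => (hu b (by rw [h1]; rfl)).trans (hu d (by rw [h1]; rfl)).symm⟩
    haveI : Nonempty α := ⟨a⟩
    simp
  have ho : orderOf y = r := orderOf_eq_prime hy h1
  have e := modEq_fixed ho
  haveI : Unique {b : α // y b = b} := ⟨⟨⟨a, ha⟩⟩, fun b => Subtype.ext (hu b b.2)⟩
  rw [Nat.card_unique (α := {b : α // y b = b})] at e
  haveI : Nonempty α := ⟨a⟩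
  exact (Nat.modEq_iff_dvd' (Nat.one_le_iff_ne_zero.2 (Nat.card_pos (α := α)).ne')).1 e.symm

/-- The fixed group of an involutive endomorphism of an elementary abelian 2-group is at least a square root. -/
theorem card_le_fixed_sq {A : Type*} [Group A] [Finite A] (hA : ∀ a : A, a * a = 1) (σ : A →* A)
    (hσ : ∀ a, σ (σ a) = a) (K : Subgroup A) (hK : ∀ a, a ∈ K ↔ σ a = a) :
    Nat.card A ≤ Nat.card K * Nat.card K := by
  have hcomm : ∀ a b : A, a * b = b * a := fun a b => by
    have e : ∀ x : A, x⁻¹ = x := fun x => inv_eq_of_mul_eq_one_right (hA x)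
    rw [← e (a * b), mul_inv_rev, e, e]
  let f : A →* A := MonoidHom.mk' (fun a => a * σ a) fun a b => by
    rw [map_mul, mul_assoc a b, ← mul_assoc b, hcomm b (σ a), mul_assoc (σ a), ← mul_assoc a]
  have hk : f.ker = K := by
    ext a
    rw [MonoidHom.mem_ker, hK]
    show a * σ a = 1 ↔ _
    rw [mul_eq_one_iff_inv_eq, inv_eq_of_mul_eq_one_right (hA a), eq_comm]
  have hr : f.range ≤ K := by
    rintro _ ⟨a, rfl⟩
    rw [hK]
    show σ (a * σ a) = a * σ a
    rw [map_mul, hσ, hcomm]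
  rw [← card_mul_index f.ker, index_ker, hk]
  exact Nat.mul_le_mul_left _ (Subgroup.card_le_of_le hr)

/-- In a solvable group of order `2 ^ e * l` without normal 2-subgroup the Sylow `l`-group is normal. -/
theorem normal_of_solvable {H : Type*} [Group H] [Finite H] (hs : Group.IsSolvable H) {e l : ℕ} (hl : l.Prime)
    (hl2 : l ≠ 2) (hd : Nat.card H ∣ 2 ^ e * l) (h2 : Cfsg.pCore 2 H = ⊥) {y : H} (hy : orderOf y = l) :
    (zpowers y).Normal := by
  haveI : Nontrivial H := ⟨⟨y, 1, fun e1 => hl.ne_one (by rw [← hy, e1, orderOf_one])⟩⟩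
  obtain ⟨q, hq, hne⟩ := CfsgLib.Turull.exists_pCore_ne_bot hs
  haveI := Fact.mk hq
  haveI := Fact.mk hl
  have hN := (CfsgLib.Solvable.pCore_spec (G := H) q)
  obtain ⟨k, hk⟩ := IsPGroup.iff_card.1 hN.2
  have hk0 : k ≠ 0 := fun e0 => hne (card_eq_one.1 (by rw [hk, e0, pow_zero]))
  have hql : q = l := by
    have h1 : q ∣ 2 ^ e * l := (dvd_pow_self q hk0).trans (hk ▸ (card_subgroup_dvd_card _).trans hd)
    rcases hq.dvd_mul.1 h1 with h3 | h3
    · exact absurd ((Nat.prime_dvd_prime_iff_eq hq Nat.prime_two).1 (hq.dvd_of_dvd_pow h3) ▸ hne) (not_not.2 h2)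
    · exact (Nat.prime_dvd_prime_iff_eq hq hl).1 h3
  subst hql
  have hk1 : k = 1 := by
    have h1 : q ^ k ∣ q := (Nat.Coprime.dvd_of_dvd_mul_left
      (Nat.Coprime.pow _ _ ((Nat.coprime_primes hq Nat.prime_two).2 hl2))
      (hk ▸ (card_subgroup_dvd_card _).trans hd))
    have h3 := Nat.le_of_dvd hq.pos h1
    by_contra hne1
    have h4 := Nat.pow_lt_pow_right hq.one_lt (show 1 < k by omega)
    rw [pow_one] at h4
    omega
  subst hk1
  rw [pow_one] at hk
  have hmem : y ∈ Cfsg.pCore q H := by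
    by_contra hyn
    haveI := hN.1
    have ho : orderOf (QuotientGroup.mk' (Cfsg.pCore q H) y) = q := by
      refine orderOf_eq_prime (by rw [← map_pow, orderOf_dvd_iff_pow_eq_one.1 (dvd_of_eq hy), map_one]) fun e1 => hyn ?_
      exact (QuotientGroup.eq_one_iff y).1 e1
    have h5 : q * q ∣ 2 ^ e * q := by
      refine dvd_trans ?_ hd
      rw [← card_mul_index (Cfsg.pCore q H), hk, index_eq_card]
      have h7 := orderOf_dvd_natCard (QuotientGroup.mk' (Cfsg.pCore q H) y)
      rw [ho] at h7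
      exact mul_dvd_mul_left q h7
    have h6 : q ∣ 2 ^ e := (Nat.mul_dvd_mul_iff_right hq.pos).1 h5
    exact hl2 ((Nat.prime_dvd_prime_iff_eq hq Nat.prime_two).1 (hq.dvd_of_dvd_pow h6))
  have he : zpowers y = Cfsg.pCore q H := eq_of_le_of_card_ge (zpowers_le.2 hmem) (by rw [hk, Nat.card_zpowers, hy])
  rw [he]
  exact hN.1

namespace AffHyp

variable {V : Type*} [CommGroup V] {X : Subgroup (Perm V)} {c : Perm V} (h : AffHyp X c)
include h

theorem card_orbit {K : Subgroup (Perm V)} (a : V) :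
    Nat.card K = (MulAction.orbit K a).ncard * Nat.card (K ⊓ stabilizer (Perm V) a : Subgroup (Perm V)) := by
  have : Finite V := h.finite
  rw [← index_stabilizer, ← card_mul_index (MulAction.stabilizer K a), mul_comm]
  congr 1
  refine Nat.card_congr
    { toFun := fun g => ⟨g.1.1, g.1.2, g.2⟩
      invFun := fun g => ⟨⟨g.1, g.2.1⟩, g.2.2⟩
      left_inv := fun _ => rfl
      right_inv := fun _ => rfl }

theorem ncard_ne_one : ({v : V | v ≠ 1} : Set V).ncard = Nat.card V - 1 := by
  have : Finite V := h.finite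
  rw [show ({v : V | v ≠ 1} : Set V) = Set.univ \ {1} by ext; simp, Set.ncard_sdiff (Set.subset_univ _),
    Set.ncard_univ, Set.ncard_singleton]

theorem card_X {l : ℕ} {φ s : Perm V} {w : V} (F : Swapped X l φ s w) :
    Nat.card X = Nat.card V * ((Nat.card V - 1) * l) := by
  have : Finite V := h.finite
  have e0 : MulAction.orbit X (1 : V) = Set.univ := Set.eq_univ_of_forall fun v => by
    obtain ⟨x, hx, hxv⟩ := h.trans v
    exact ⟨⟨x, hx⟩, hxv⟩
  set K := X ⊓ stabilizer (Perm V) (1 : V) with hK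
  have e1 : MulAction.orbit K w = {v : V | v ≠ 1} := by
    ext v
    constructor
    · rintro ⟨g, rfl⟩ e
      exact F.w1 ((g : Perm V).injective (e.trans (g.2.2 : (g : Perm V) 1 = 1).symm))
    · intro hv
      obtain ⟨i, hi⟩ := h.creg w v F.w1 hv
      exact ⟨⟨c ^ i, h.cpow_mem i, h.cpow_one i⟩, hi⟩
  have e2 : K ⊓ stabilizer (Perm V) w = zpowers φ := by
    refine le_antisymm (fun g hg => ?_) (zpowers_le.2 ⟨⟨F.φX, F.φ1⟩, F.φw⟩)
    obtain ⟨m, rfl⟩ := (h.two_point F).2 g hg.1.1 hg.1.2 hg.2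
    exact npow_mem_zpowers φ m
  rw [h.card_orbit (K := X) (1 : V), e0, Set.ncard_univ, ← hK, h.card_orbit (K := K) w, e1,
    h.ncard_ne_one, e2, Nat.card_zpowers, F.ord]

theorem sylow_apply_injective (P : Sylow 2 X) (a : V) :
    Function.Injective fun p : (P : Subgroup X) => ((p : X) : Perm V) a := by
  have : Finite V := h.finite
  intro p q e
  obtain ⟨x, hx, hxa⟩ := h.trans a
  set g := p⁻¹ * q with hg
  have hga : ((g : X) : Perm V) a = a := by
    show ((p : X) : Perm V).symm (((q : X) : Perm V) a) = a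
    rw [Equiv.symm_apply_eq]
    exact e.symm
  have hodd := h.stabOdd _ (X.mul_mem (X.mul_mem (X.inv_mem hx) (g : X).2) hx) (conj_fix x _ hxa hga)
  rw [orderOf_conj', orderOf_coe, orderOf_coe] at hodd
  haveI : Fact (Nat.Prime 2) := ⟨Nat.prime_two⟩
  obtain ⟨k, hk⟩ := (IsPGroup.iff_orderOf.1 P.isPGroup') g
  rw [hk] at hodd
  rcases k with _ | k
  · rw [pow_zero, orderOf_eq_one_iff, hg, inv_mul_eq_one] at hk
    exact hk
  · exact absurd hodd (Nat.not_odd_iff_even.2 (by rw [pow_succ]; exact even_two.mul_left _))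

theorem card_sylow {l : ℕ} {φ s : Perm V} {w : V} (F : Swapped X l φ s w) (P : Sylow 2 X) :
    Nat.card (P : Subgroup X) = 2 ^ l := by
  have : Finite V := h.finite
  haveI : Fact (Nat.Prime 2) := ⟨Nat.prime_two⟩
  have hle := Nat.card_le_card_of_injective _ (h.sylow_apply_injective P 1)
  have hd : 2 ^ l ∣ Nat.card (P : Subgroup X) := by
    refine P.pow_dvd_card_of_pow_dvd_card (n := l) ?_
    rw [h.card_X F, (h.two_point F).1]
    exact dvd_mul_right _ _
  rw [(h.two_point F).1] at hle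
  exact le_antisymm hle (Nat.le_of_dvd Nat.card_pos hd)

theorem normalizer_sylow {l : ℕ} {φ s : Perm V} {w : V} (F : Swapped X l φ s w)
    (hnt : ∀ v, v ≠ 1 → tr v ∉ X) (P : Sylow 2 X) : normalizer ((P : Subgroup X) : Set X) ≤ (P : Subgroup X) := by
  have : Finite V := h.finite
  haveI : Fact (Nat.Prime 2) := ⟨Nat.prime_two⟩
  have hN : IsPGroup 2 (normalizer ((P : Subgroup X) : Set X)) := by
    refine IsPGroup.of_card (p := 2) (n := (Nat.card (normalizer ((P : Subgroup X) : Set X))).primeFactorsList.length) ?_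
    refine Nat.eq_prime_pow_of_unique_prime_dvd Nat.card_pos.ne' fun {r} hr hrd => by_contra fun hr2 => ?_
    haveI := Fact.mk hr
    obtain ⟨⟨y, hy⟩, hyo⟩ := exists_prime_orderOf_dvd_card' r hrd
    rw [← orderOf_coe] at hyo
    have hyo' : orderOf (y : Perm V) = r := by rw [orderOf_coe]; exact hyo
    obtain ⟨a, ha⟩ := h.exists_fixed hr2 hyo'
    have hbij : Function.Bijective fun p : (P : Subgroup X) => ((p : X) : Perm V) a := by
      refine (Nat.bijective_iff_injective_and_card _).2 ⟨h.sylow_apply_injective P a, ?_⟩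
      rw [h.card_sylow F P, (h.two_point F).1]
    have hu : ∀ b, (y : Perm V) b = b → b = a := by
      intro b hb
      obtain ⟨p, rfl⟩ := hbij.2 b
      by_contra hne
      have hp' : y * (p : X) * y⁻¹ ∈ (P : Subgroup X) := (mem_normalizer_iff.1 hy p).1 p.2
      have hyinv : (y : Perm V)⁻¹ a = a := (Equiv.Perm.inv_eq_iff_eq).2 ha.symm
      have e : (⟨_, hp'⟩ : (P : Subgroup X)) = p := hbij.1 (by
        show ((y : Perm V) * ((p : X) : Perm V) * (y : Perm V)⁻¹) a = _
        rw [Equiv.Perm.mul_apply, Equiv.Perm.mul_apply, hyinv]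
        exact hb)
      have hc : Commute y (p : X) := mul_inv_eq_iff_eq_mul.1 (congrArg Subtype.val e)
      obtain ⟨k, hk⟩ := (IsPGroup.iff_orderOf.1 P.isPGroup') p
      rcases k with _ | k
      · rw [pow_zero, orderOf_eq_one_iff] at hk
        exact hne (by rw [hk]; rfl)
      · set t := (p : X) ^ 2 ^ k with ht
        have hto : orderOf t = 2 := by
          rw [ht, orderOf_pow' _ (by positivity), orderOf_coe, hk, pow_succ,
            Nat.gcd_eq_right (dvd_mul_right _ _), Nat.mul_div_cancel_left _ (by positivity)]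
        refine h.no_odd_central F hr hr2 y.2 t.2 hyo' ?_ ?_ ?_
        · rw [← Subgroup.coe_mul, ← pow_two, ← hto, pow_orderOf_eq_one]; rfl
        · intro e1
          rw [show t = 1 from Subtype.ext e1, orderOf_one] at hto
          norm_num at hto
        · exact congrArg Subtype.val (hc.pow_right _).eq
    have hlin : ∀ v, lin (y : Perm V) v = v → v = 1 := by
      intro v hv
      have e : (y : Perm V) (v * a) = v * a := by
        rw [h.aff _ y.2, ha, mul_assoc, mul_comm a, ← mul_assoc]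
        exact congrArg (· * a) hv
      exact mul_eq_right.1 (hu _ e)
    let L := h.linHom y
    have hL : ∀ v, L v = lin (y : Perm V) v := h.linHom_apply y
    have hLr : L ^ r = 1 := by
      rw [← map_pow, ← hyo, pow_orderOf_eq_one, map_one]
    have hd1 : r ∣ Nat.card V - 1 :=
      dvd_pred_of_unique_fixed L hLr 1 (by rw [hL]; exact h.lin_one_map _) fun b hb => hlin b (by rwa [← hL])
    -- the fixed points of the linear Sylow group
    let W : Subgroup V :=
      { carrier := {v | ∀ p ∈ (P : Subgroup X), lin (p : Perm V) v = v}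
        mul_mem' := fun {u v} hu hv p hp => by rw [h.lin_mul_map p.2, hu p hp, hv p hp]
        one_mem' := fun p _ => h.lin_one_map _
        inv_mem' := fun {v} hv p hp => by rw [h.inv_self]; exact hv p hp }
    have hWy : ∀ v, v ∈ W → L v ∈ W := by
      intro v hv p hp
      have hp' : y⁻¹ * p * y ∈ (P : Subgroup X) := (mem_normalizer_iff''.1 hy p).1 hp
      rw [hL, ← h.lin_comp p.2, show (p : Perm V) * (y : Perm V) = (y : Perm V) * ((y⁻¹ * p * y : X) : Perm V) by
        simp [mul_assoc], h.lin_comp y.2, hv _ hp']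
    have hWy' : ∀ v, L v ∈ W ↔ v ∈ W := by
      refine fun v => ⟨fun hv => ?_, hWy v⟩
      have key : ∀ i : ℕ, (L ^ (i + 1)) v ∈ W := fun i => by
        induction i with
        | zero => rwa [pow_one]
        | succ i ih => rw [pow_succ', Equiv.Perm.mul_apply]; exact hWy _ ih
      have := key (r - 1)
      rwa [Nat.sub_add_cancel hr.one_lt.le, hLr] at this
    let Ls : Perm {v // v ∈ W} := L.subtypePerm hWy'
    have hd2 : r ∣ Nat.card W - 1 := by
      refine dvd_pred_of_unique_fixed Ls ?_ ⟨1, W.one_mem⟩ (Subtype.ext (by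
        show L 1 = 1
        rw [hL]; exact h.lin_one_map _)) fun b hb => Subtype.ext (hlin b ?_)
      · refine Equiv.ext fun v => Subtype.ext ?_
        have key : ∀ i : ℕ, ((Ls ^ i) v : V) = (L ^ i) v := fun i => by
          induction i with
          | zero => rfl
          | succ i ih => rw [pow_succ', pow_succ', Equiv.Perm.mul_apply, Equiv.Perm.mul_apply, ← ih]; rfl
        rw [key, hLr]; rfl
      · rw [← hL]; exact congrArg Subtype.val hb
    obtain ⟨k, hk⟩ := IsPGroup.iff_card.1 (h.vGroup.to_subgroup W)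
    have hVn := (h.two_point F).1
    have hWne : W ≠ ⊤ := by
      intro e
      have hlinP : ∀ p ∈ (P : Subgroup X), p = 1 := fun p hp =>
        Subtype.ext (h.lin_faithful hnt p.2 fun v => (show v ∈ W from e ▸ mem_top v) p hp)
      have := h.card_sylow F P
      rw [show (P : Subgroup X) = ⊥ from (eq_bot_iff_forall _).2 hlinP, card_bot] at this
      exact (Nat.one_lt_two_pow F.prime.ne_zero).ne this
    have hkl : k < l := by
      have h1 := CfsgLib.Solvable.card_lt_of_ne_top hWne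
      rw [hk, hVn] at h1
      exact (Nat.pow_lt_pow_iff_right (by norm_num)).1 h1
    have hk0 : k ≠ 0 := by
      rintro rfl
      rw [pow_zero, card_eq_one] at hk
      letI : MulAction (P : Subgroup X) V := MulAction.compHom V ((h.linHom).comp (P : Subgroup X).subtype)
      obtain ⟨v, hv, hv1⟩ := P.isPGroup'.exists_fixed_point_of_prime_dvd_card_of_fixed_point (α := V)
        (by rw [hVn]; exact dvd_pow_self 2 F.prime.ne_zero) (a := 1)
        (fun g => (h.linHom_apply _ 1).trans (h.lin_one_map _))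
      have hvW : v ∈ W := fun p hp => (h.linHom_apply p v).symm.trans (hv ⟨p, hp⟩)
      rw [hk, mem_bot] at hvW
      exact hv1 hvW.symm
    have hg : Nat.gcd (2 ^ l - 1) (2 ^ k - 1) = 1 := by
      rw [Nat.pow_sub_one_gcd_pow_sub_one, Nat.Coprime.gcd_eq_one (F.prime.coprime_iff_not_dvd.2 fun hd => by
        have := Nat.le_of_dvd (Nat.pos_of_ne_zero hk0) hd
        omega), pow_one]
    rw [hk] at hd2
    rw [hVn] at hd1
    have := Nat.dvd_gcd hd1 hd2
    rw [hg, Nat.dvd_one] at this
    exact hr.ne_one this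
  exact (P.is_maximal' hN le_normalizer).le

theorem central_unique {l : ℕ} {φ s : Perm V} {w : V} (F : Swapped X l φ s w)
    (hnt : ∀ v, v ≠ 1 → tr v ∉ X) (P : Sylow 2 X) {a b : X}
    (hac : ∀ p ∈ (P : Subgroup X), p * a = a * p)
    (hbc : ∀ p ∈ (P : Subgroup X), p * b = b * p) (ha2 : a * a = 1) (hb2 : b * b = 1) (ha1 : a ≠ 1)
    (hb1 : b ≠ 1) : a = b := by
  have : Finite V := h.finite
  haveI : Fact (Nat.Prime 2) := ⟨Nat.prime_two⟩
  obtain ⟨x, hx, hxa⟩ := h.conj_swap F a.2 (congrArg Subtype.val ha2) fun e => ha1 (Subtype.ext e)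
  obtain ⟨y, hy, hyb⟩ := h.conj_swap F b.2 (congrArg Subtype.val hb2) fun e => hb1 (Subtype.ext e)
  set g : X := ⟨x, hx⟩ * ⟨y, hy⟩⁻¹
  have hg : g⁻¹ * a * g = b := Subtype.ext (by
    show ((g⁻¹ * a * g : X) : Perm V) = b
    simp only [g, Subgroup.coe_mul, Subgroup.coe_inv]
    rw [← hxa, ← hyb]; group)
  obtain ⟨n, hn, e⟩ := P.conj_eq_normalizer_conj_of_mem_centralizer a g (mem_centralizer_iff.2 fun p hp => hac p hp)
    (hg ▸ mem_centralizer_iff.2 fun p hp => hbc p hp)
  rw [hg] at e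
  have hnP := h.normalizer_sylow F hnt P hn
  calc a = n * b * n⁻¹ := by rw [e]; group
    _ = b := by rw [hbc n hnP, mul_inv_cancel_right]

/-- The degree is eight and the Sylow 2-groups are dihedral. -/
theorem exceptional (hnt : ∀ v, v ≠ 1 → tr v ∉ X) :
    Nat.card V = 8 ∧ (∀ a b : X, a * a = 1 → b * b = 1 → a ≠ 1 → b ≠ 1 → IsConj a b) ∧
      ∀ P : Sylow 2 X, Nat.card (P : Subgroup X) = 8 ∧ ∃ a b : X, a * a = 1 ∧ b * b = 1 ∧ (a * b) ^ 4 = 1 ∧
        Subgroup.closure {a, b} = (P : Subgroup X) := by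
  have : Finite V := h.finite
  haveI : Fact (Nat.Prime 2) := ⟨Nat.prime_two⟩
  obtain ⟨l, φ, s, w, F⟩ := h.exists_swapped hnt
  haveI := Fact.mk F.prime
  obtain ⟨hVn, hgen⟩ := h.two_point F
  set φ' : X := ⟨φ, F.φX⟩ with hφ'
  set s' : X := ⟨s, F.sX⟩ with hs'
  have hφo : orderOf φ' = l := by rw [← orderOf_coe]; exact F.ord
  have hinv : s' * φ' * s' = φ'⁻¹ := Subtype.ext F.inv
  have hs2 : s' * s' = 1 := Subtype.ext F.s2
  have hs1 : s' ≠ 1 := fun e => F.w1 (F.s1.symm.trans (by rw [show s = 1 from congrArg Subtype.val e]; rfl))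
  have hsc : ∀ g : X, g * g = 1 → g ≠ 1 → Commute φ' g → False := fun g h2 h1 hc =>
    h.no_odd_central F F.prime F.ne_two F.φX g.2 F.ord (congrArg Subtype.val h2) (fun e => h1 (Subtype.ext e))
      (congrArg Subtype.val hc.eq)
  letI : MulAction X V := MulAction.compHom V h.linHom
  have hsm : ∀ (g : X) (v : V), g • v = lin (g : Perm V) v := fun g v => h.linHom_apply g v
  set H := MulAction.stabilizer X w with hH
  have hφH : φ' ∈ H := by
    rw [hH, mem_stabilizer_iff, hsm]
    exact (h.lin_of_fix F.φ1 w).trans F.φw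
  have hsH : s' ∈ H := by
    rw [hH, mem_stabilizer_iff]
    have e : φ' • (s' • w) = s' • w := by
      have e1 : φ' * s' = s' * φ'⁻¹ := by rw [← hinv, mul_assoc, ← mul_assoc s' s', hs2, one_mul]
      have e2 : φ'⁻¹ • w = w := by rw [inv_smul_eq_iff]; exact (mem_stabilizer_iff.1 hφH).symm
      rw [smul_smul, e1, ← smul_smul, e2]
    rw [hsm φ'] at e
    rcases F.only _ ((h.lin_of_fix F.φ1 _).symm.trans e) with e' | e'
    · exact absurd ((MulAction.injective s') (e'.trans ((hsm s' 1).trans (h.lin_one_map _)).symm)) F.w1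
    · exact e'
  have hHcard : Nat.card H = 2 ^ l * l := by
    have e1 : MulAction.orbit X w = {v : V | v ≠ 1} := by
      ext v
      constructor
      · rintro ⟨g, rfl⟩ e
        exact F.w1 ((MulAction.injective g) (e.trans ((hsm g 1).trans (h.lin_one_map _)).symm))
      · intro hv
        obtain ⟨i, hi⟩ := h.creg w v F.w1 hv
        exact ⟨⟨c ^ i, h.cpow_mem i⟩, ((hsm _ w).trans (h.lin_of_fix (h.cpow_one i) w)).trans hi⟩
    have e2 := card_mul_index H
    rw [hH, index_stabilizer, e1, h.ncard_ne_one, h.card_X F, hVn, mul_left_comm,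
      mul_comm (Nat.card _) (2 ^ l - 1)] at e2
    exact Nat.eq_of_mul_eq_mul_left (by have := Nat.one_lt_two_pow F.prime.ne_zero; omega) e2
  have hHs : Group.IsSolvable H := CfsgLib.Char.isSolvable_of_card_eq 2 l l 1 Nat.prime_two F.prime (by rw [hHcard, pow_one])
  set Q := Cfsg.pCore 2 H with hQdef
  have hQp : IsPGroup 2 Q := CfsgLib.Solvable.isPGroup_pCore 2
  haveI hQn : Q.Normal := (CfsgLib.Solvable.pCore_spec (G := H) 2).1
  set φH : H := ⟨φ', hφH⟩
  set sH : H := ⟨s', hsH⟩
  have hφQ : φH ∉ Q := fun hm => by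
    obtain ⟨k, hk⟩ := (IsPGroup.iff_orderOf.1 hQp) ⟨φH, hm⟩
    rw [← orderOf_coe, ← orderOf_coe, hφo] at hk
    exact F.ne_two ((Nat.prime_dvd_prime_iff_eq F.prime Nat.prime_two).1 (F.prime.dvd_of_dvd_pow (dvd_of_eq hk)))
  have hsQ : sH ∉ Q := fun hm => by
    have h1 : φH * sH * φH⁻¹ ∈ Q := hQn.conj_mem _ hm φH
    have h2 : φH * φH ∈ Q := by
      have := Q.mul_mem h1 hm
      convert this using 1
      apply Subtype.ext
      show φ' * φ' = φ' * s' * φ'⁻¹ * s'
      rw [mul_assoc (φ' * s'), ← hinv]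
      simp only [← mul_assoc]
      rw [mul_assoc φ' s' s', hs2, mul_one, mul_assoc _ s' s', hs2, mul_one]
    obtain ⟨k, hk⟩ := (F.prime.eq_two_or_odd'.resolve_left F.ne_two)
    refine hφQ ?_
    have h3 : φH = (φH * φH) ^ (k + 1) := by
      rw [← pow_two, ← pow_mul, show 2 * (k + 1) = orderOf φH + 1 by
        rw [← orderOf_coe, hφo, hk]; ring, pow_succ, pow_orderOf_eq_one, one_mul]
    rw [h3]
    exact Q.pow_mem h2 _
  have hnorm : (zpowers (QuotientGroup.mk' Q φH)).Normal := by
    haveI := hHs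
    refine normal_of_solvable (H := H ⧸ Q) inferInstance F.prime F.ne_two (e := l) ?_ ?_ ?_
    · rw [← hHcard]; exact card_quotient_dvd_card Q
    · rw [eq_bot_iff]
      intro q hq
      set M := (Cfsg.pCore 2 (H ⧸ Q)).comap (QuotientGroup.mk' Q)
      have hM : M.Normal := (CfsgLib.Solvable.pCore_spec (G := H ⧸ Q) 2).1.comap _
      have hMp : IsPGroup 2 M := (CfsgLib.Solvable.isPGroup_pCore (G := H ⧸ Q) 2).comap_of_ker_isPGroup _
        (by rw [QuotientGroup.ker_mk']; exact hQp)
      have hMQ : M ≤ Q := CfsgLib.Solvable.le_pCore 2 hM hMp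
      obtain ⟨x, rfl⟩ := QuotientGroup.mk'_surjective Q q
      exact mem_bot.2 ((QuotientGroup.eq_one_iff x).2 (hMQ hq))
    · refine orderOf_eq_prime ?_ fun e => hφQ ((QuotientGroup.eq_one_iff φH).1 e)
      rw [← map_pow, show φH ^ l = 1 from Subtype.ext (show φ' ^ l = 1 by rw [← hφo, pow_orderOf_eq_one]), map_one]
  set M := (zpowers (QuotientGroup.mk' Q φH)).comap (QuotientGroup.mk' Q) with hMdef
  haveI : M.Normal := hnorm.comap _
  have hφM : φH ∈ M := mem_zpowers _
  have hMle : M ≤ zpowers φH ⊔ Q := by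
    intro x hx
    obtain ⟨i, hi⟩ := mem_zpowers_iff.1 hx
    rw [← map_zpow, eq_comm] at hi
    have hq : (φH ^ i)⁻¹ * x ∈ Q := QuotientGroup.eq.1 hi.symm
    rw [show x = φH ^ i * ((φH ^ i)⁻¹ * x) by group]
    exact mul_mem (mem_sup_left (zpow_mem_zpowers φH i)) (mem_sup_right hq)
  let L : Sylow l H := Sylow.ofCard (zpowers φH) (by
    rw [Nat.card_zpowers, ← orderOf_coe, hφo, hHcard, Nat.factorization_mul (by positivity) F.prime.ne_zero,
      Nat.Prime.factorization_pow Nat.prime_two, F.prime.factorization, Finsupp.add_apply,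
      Finsupp.single_eq_of_ne F.ne_two, Finsupp.single_eq_same, zero_add, pow_one])
  have hfr := Sylow.normalizer_sup_eq_top' (N := M) L (zpowers_le.2 hφM)
  set N := normalizer ((L : Subgroup H) : Set H) with hN
  have hNQ : N ⊔ Q = ⊤ := by
    refine le_antisymm le_top (hfr.ge.trans (sup_le le_sup_left (hMle.trans (sup_le ?_ le_sup_right))))
    exact (le_normalizer (H := (L : Subgroup H))).trans le_sup_left
  have hNle : Nat.card N ≤ 2 * l := by
    let K : Subgroup (Perm V) := N.map ((X.subtype).comp H.subtype)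
    have hKc : Nat.card K = Nat.card N :=
      (Nat.card_congr (N.equivMapOfInjective _ (X.subtype_injective.comp H.subtype_injective)).toEquiv).symm
    have hfix : ∀ g ∈ K, ∀ a : V, φ a = a → φ (g a) = g a := by
      rintro _ ⟨g, hg, rfl⟩ a ha
      have hgi : g⁻¹ * φH * g ∈ zpowers φH := (mem_normalizer_iff''.1 hg φH).1 (mem_zpowers φH)
      obtain ⟨i, hi⟩ := mem_zpowers_iff.1 hgi
      have hi' : φ ^ i = ((g : X) : Perm V)⁻¹ * φ * ((g : X) : Perm V) := by
        have := congrArg (fun u : H => ((u : X) : Perm V)) hi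
        simpa [φH, φ'] using this
      have hia : (φ ^ i) a = a := by
        have : zpowers φ ≤ stabilizer (Perm V) a := zpowers_le.2 ha
        exact this (zpow_mem_zpowers φ i)
      have := congrArg ((g : X) : Perm V) (show (((g : X) : Perm V)⁻¹ * φ * ((g : X) : Perm V)) a = a by rw [← hi', hia])
      simpa [Equiv.Perm.mul_apply] using this
    have horb : (MulAction.orbit K (1 : V)).ncard ≤ 2 := by
      refine le_trans (Set.ncard_le_ncard (t := {1, w}) ?_) ((Set.ncard_insert_le _ _).trans (by rw [Set.ncard_singleton]))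
      rintro _ ⟨g, rfl⟩
      rcases F.only _ (hfix g g.2 1 F.φ1) with e | e
      · exact Or.inl e
      · exact Or.inr e
    have hst : Nat.card (K ⊓ stabilizer (Perm V) (1 : V) : Subgroup (Perm V)) ≤ l := by
      rw [← F.ord, ← Nat.card_zpowers]
      refine Subgroup.card_le_of_le fun g ⟨hg, hg1⟩ => ?_
      have hgw : g w = w := (F.only _ (hfix g hg w F.φw)).resolve_left fun e =>
        F.w1 (g.injective (e.trans (hg1 : g 1 = 1).symm))
      obtain ⟨u, -, hu⟩ := hg
      obtain ⟨m, rfl⟩ := hgen g (hu ▸ (u : X).2) hg1 hgw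
      exact npow_mem_zpowers φ m
    rw [← hKc, h.card_orbit (K := K) (1 : V)]
    exact Nat.mul_le_mul horb hst
  have hQbig : 2 ^ l ≤ 2 * Nat.card Q := by
    have e := CfsgLib.Solvable.card_sup_mul_card_inf (A := N) (K := Q) (le_normalizer_of_normal (H := Q))
    rw [hNQ, card_top, hHcard] at e
    have h1 : 2 ^ l * l ≤ Nat.card N * Nat.card Q := by
      rw [← e]; exact Nat.le_mul_of_pos_right _ Nat.card_pos
    have h2 : 2 ^ l * l ≤ 2 * Nat.card Q * l := h1.trans (by
      rw [mul_right_comm]; exact Nat.mul_le_mul_right _ hNle)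
    exact Nat.le_of_mul_le_mul_right h2 F.prime.pos
  -- a Sylow group
  set QX : Subgroup X := Q.map H.subtype with hQX
  have hQXn : ∀ g ∈ H, g ∈ normalizer (QX : Set X) := by
    intro g hg
    refine mem_normalizer_iff.2 fun q => ⟨?_, ?_⟩
    · rintro ⟨q, hq, rfl⟩
      exact ⟨_, hQn.conj_mem q hq ⟨g, hg⟩, rfl⟩
    · rintro ⟨q', hq', e⟩
      refine ⟨_, hQn.conj_mem q' hq' ⟨g, hg⟩⁻¹, ?_⟩
      show g⁻¹ * (q' : X) * g⁻¹⁻¹ = q
      rw [show (q' : X) = g * q * g⁻¹ from e]; group
  set P0 := zpowers s' ⊔ QX with hP0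
  have hsp : IsPGroup 2 (zpowers s') :=
    IsPGroup.of_card (n := 1) (by rw [Nat.card_zpowers, pow_one]; exact orderOf_eq_prime (by rw [pow_two, hs2]) hs1)
  have hP0p : IsPGroup 2 P0 := hsp.to_sup_of_normal_right' (hQp.map _) (zpowers_le.2 (hQXn _ hsH))
  obtain ⟨P, hP⟩ := hP0p.exists_le_sylow
  have hPeq : P0 = (P : Subgroup X) := by
    refine eq_of_le_of_card_ge hP ?_
    rw [h.card_sylow F P]
    refine hQbig.trans ?_
    have hlt : QX < P0 := by
      refine lt_of_le_of_ne le_sup_right fun e => hsQ ?_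
      have hm : s' ∈ P0 := mem_sup_left (mem_zpowers s')
      rw [← e] at hm
      obtain ⟨q, hq, e'⟩ := hm
      rwa [show q = sH from Subtype.ext e'] at hq
    have hc : Nat.card Q = Nat.card QX := Nat.card_congr (Q.equivMapOfInjective _ H.subtype_injective).toEquiv
    rw [hc]
    obtain ⟨k, hk⟩ := card_dvd_of_le hlt.le
    have := CfsgLib.Solvable.card_lt_of_lt hlt
    rcases k with _ | _ | k
    · omega
    · omega
    · rw [hk, mul_comm 2]; exact Nat.mul_le_mul_left _ (by omega)
  -- the elementary subgroup of the centre of `Q`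
  let Z : Subgroup X :=
    { carrier := {z | z ∈ QX ∧ z * z = 1 ∧ ∀ q ∈ QX, q * z = z * q}
      mul_mem' := fun {a b} ha hb => ⟨QX.mul_mem ha.1 hb.1, by
        rw [mul_assoc, ← mul_assoc b, ha.2.2 b hb.1, mul_assoc a b b, hb.2.1, mul_one, ha.2.1], fun q hq => by
        rw [← mul_assoc, ha.2.2 q hq, mul_assoc, hb.2.2 q hq, mul_assoc]⟩
      one_mem' := ⟨QX.one_mem, one_mul _, fun q _ => by rw [mul_one, one_mul]⟩
      inv_mem' := fun {a} ha => by
        rw [inv_eq_of_mul_eq_one_right ha.2.1]; exact ha }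
  have hZn : ∀ g ∈ H, ∀ z ∈ Z, g * z * g⁻¹ ∈ Z := by
    intro g hg z hz
    refine ⟨(mem_normalizer_iff.1 (hQXn g hg) z).1 hz.1, ?_, fun q hq => ?_⟩
    · rw [show g * z * g⁻¹ * (g * z * g⁻¹) = g * (z * z) * g⁻¹ by group, hz.2.1]; group
    · have hq' : g⁻¹ * q * g ∈ QX := (mem_normalizer_iff''.1 (hQXn g hg) q).1 hq
      calc q * (g * z * g⁻¹) = g * (g⁻¹ * q * g * z) * g⁻¹ := by group
        _ = g * z * g⁻¹ * q := by rw [hz.2.2 _ hq']; group
  have hZne : Z ≠ ⊥ := by
    have hQne : QX ≠ ⊥ := fun e => by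
      have hc : Nat.card Q = Nat.card QX := Nat.card_congr (Q.equivMapOfInjective _ H.subtype_injective).toEquiv
      rw [hc, e, card_bot] at hQbig
      have := Nat.pow_le_pow_right (show 0 < 2 by norm_num) (show 2 ≤ l from F.prime.two_le)
      omega
    haveI := (nontrivial_iff_ne_bot QX).2 hQne
    haveI hctr := (hQp.map H.subtype).center_nontrivial
    obtain ⟨z, hz⟩ := exists_prime_orderOf_dvd_card' (G := center QX) 2
      (by
        obtain ⟨k, hk⟩ := IsPGroup.iff_card.1 ((hQp.map H.subtype).to_subgroup (center QX))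
        have h1 := Finite.one_lt_card (α := center QX)
        rw [hk] at h1 ⊢
        exact dvd_pow_self 2 (by rintro rfl; norm_num at h1))
    have hz' : orderOf ((z : QX) : X) = 2 := by rw [orderOf_coe, orderOf_coe]; exact hz
    refine fun e => ?_
    have hm : ((z : QX) : X) ∈ Z := ⟨(z : QX).2, by rw [← pow_two, ← hz', pow_orderOf_eq_one],
      fun q hq => congrArg Subtype.val (mem_center_iff.1 z.2 ⟨q, hq⟩)⟩
    rw [e, mem_bot] at hm
    rw [hm, orderOf_one] at hz'
    norm_num at hz'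
  let σ : ∀ g ∈ H, Z →* Z := fun g hg => MonoidHom.mk' (fun z => ⟨g * z * g⁻¹, hZn g hg z z.2⟩)
    fun a b => Subtype.ext (show g * ((a : X) * b) * g⁻¹ = g * (a : X) * g⁻¹ * (g * (b : X) * g⁻¹) by group)
  let Zs : Subgroup Z :=
    { carrier := {z | σ s' hsH z = z}
      mul_mem' := fun {a b} (ha : σ s' hsH a = a) (hb : σ s' hsH b = b) => by
        show σ s' hsH (a * b) = a * b
        rw [map_mul, ha, hb]
      one_mem' := map_one (σ s' hsH)
      inv_mem' := fun {a} (ha : σ s' hsH a = a) => by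
        show σ s' hsH a⁻¹ = a⁻¹
        rw [map_inv, ha] }
  have hcentP : ∀ z : Z, σ s' hsH z = z → ∀ p ∈ (P : Subgroup X), p * (z : X) = z * p := by
    intro z hz p hp
    have hp' : p ∈ P0 := hPeq ▸ hp
    have hle : P0 ≤ centralizer ({(z : X)} : Set X) := by
      refine sup_le (zpowers_le.2 ?_) fun q hq => mem_centralizer_singleton_iff.2 (z.2.2.2 q hq)
      rw [mem_centralizer_singleton_iff]
      exact mul_inv_eq_iff_eq_mul.1 (congrArg Subtype.val hz)
    exact mem_centralizer_singleton_iff.1 (hle hp')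
  have hZs : Nat.card Zs ≤ 2 := by
    by_contra hlt
    push Not at hlt
    obtain ⟨a, b, ha, hb, hab⟩ : ∃ a b : Zs, a ≠ 1 ∧ b ≠ 1 ∧ a ≠ b := by
      classical
      have : Fintype Zs := Fintype.ofFinite Zs
      rw [Nat.card_eq_fintype_card] at hlt
      obtain ⟨a, ha, b, hb, hab⟩ := Finset.one_lt_card.1
        (show 1 < (Finset.univ.erase (1 : Zs)).card by rw [Finset.card_erase_of_mem (Finset.mem_univ _), Finset.card_univ]; omega)
      exact ⟨a, b, Finset.ne_of_mem_erase ha, Finset.ne_of_mem_erase hb, hab⟩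
    refine hab (Subtype.ext (Subtype.ext ?_))
    exact h.central_unique F hnt P (hcentP a a.2) (hcentP b b.2) (a : Z).2.2.1
      (b : Z).2.2.1 (fun e => ha (Subtype.ext (Subtype.ext e))) fun e => hb (Subtype.ext (Subtype.ext e))
  have hZ4 : Nat.card Z ≤ 4 := (card_le_fixed_sq (fun z : Z => Subtype.ext z.2.2.1) (σ s' hsH) (fun z => Subtype.ext (by
    show s' * (s' * (z : X) * s'⁻¹) * s'⁻¹ = z
    rw [inv_eq_of_mul_eq_one_right hs2]
    calc s' * (s' * (z : X) * s') * s' = (s' * s') * z * (s' * s') := by group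
      _ = z := by rw [hs2, one_mul, mul_one])) Zs (fun _ => Iff.rfl)).trans (Nat.mul_le_mul hZs hZs)
  let y : Perm Z :=
    { toFun := σ φ' hφH
      invFun := σ φ'⁻¹ (H.inv_mem hφH)
      left_inv := fun z => Subtype.ext (show φ'⁻¹ * (φ' * (z : X) * φ'⁻¹) * φ'⁻¹⁻¹ = z by group)
      right_inv := fun z => Subtype.ext (show φ' * (φ'⁻¹ * (z : X) * φ'⁻¹⁻¹) * φ'⁻¹ = z by group) }
  have hyl : y ^ l = 1 := by
    have key : ∀ (i : ℕ) (z : Z), (((y ^ i) z : Z) : X) = φ' ^ i * z * (φ' ^ i)⁻¹ := fun i => by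
      induction i with
      | zero => intro z; simp
      | succ i ih =>
        intro z
        rw [pow_succ', Equiv.Perm.mul_apply]
        show φ' * (((y ^ i) z : Z) : X) * φ'⁻¹ = _
        rw [ih, pow_succ']; group
    refine Equiv.ext fun z => Subtype.ext ?_
    rw [key, ← hφo, pow_orderOf_eq_one]; simp
  have hfpf : ∀ z : Z, y z = z → z = 1 := fun z hz => by
    by_contra hz1
    exact hsc (z : X) z.2.2.1 (fun e => hz1 (Subtype.ext e)) (mul_inv_eq_iff_eq_mul.1 (congrArg Subtype.val hz))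
  have hld := dvd_pred_of_unique_fixed y hyl 1 (map_one (σ φ' hφH)) hfpf
  haveI := (nontrivial_iff_ne_bot Z).2 hZne
  have hZ1 := Finite.one_lt_card (α := Z)
  have hl3 : l = 3 := by
    have h1 := Nat.le_of_dvd (by omega) hld
    have h2 := F.prime.two_le
    have h3 := F.ne_two
    omega
  have hV8 : Nat.card V = 8 := by rw [hVn, hl3]; norm_num
  refine ⟨hV8, fun a b ha hb ha1 hb1 => ?_, ?_⟩
  · obtain ⟨x, hx, hxa⟩ := h.conj_swap F a.2 (congrArg Subtype.val ha) fun e => ha1 (Subtype.ext e)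
    obtain ⟨z, hz, hzb⟩ := h.conj_swap F b.2 (congrArg Subtype.val hb) fun e => hb1 (Subtype.ext e)
    refine isConj_iff.2 ⟨⟨z, hz⟩ * ⟨x, hx⟩⁻¹, Subtype.ext ?_⟩
    simp only [Subgroup.coe_mul, Subgroup.coe_inv]
    rw [← hxa, ← hzb]; group
  -- two generators of one Sylow group
  obtain ⟨⟨p, hpZ⟩, hp⟩ : ∃ z : Z, σ s' hsH z ≠ z := by
    by_contra hcon
    push Not at hcon
    have hall : Zs = ⊤ := eq_top_iff.2 fun z _ => hcon z
    rw [hall, card_top] at hZs
    have := Nat.le_of_dvd (by omega) hld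
    omega
  have hncomm : p * s' ≠ s' * p := fun e => hp (Subtype.ext (by
    show s' * p * s'⁻¹ = p
    rw [← e, mul_inv_cancel_right]))
  have hPc := h.card_sylow F P
  rw [hl3] at hPc
  have hsP : s' ∈ (P : Subgroup X) := hP (mem_sup_left (mem_zpowers s'))
  have hpP : p ∈ (P : Subgroup X) := hP (mem_sup_right hpZ.1)
  have hcl : closure {p, s'} = (P : Subgroup X) := by
    have hle : closure {p, s'} ≤ (P : Subgroup X) := (closure_le _).2 (by rintro _ (rfl | rfl) <;> assumption)
    refine eq_of_le_of_card_ge hle ?_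
    rw [hPc]
    have hd := card_dvd_of_le hle
    rw [hPc] at hd
    obtain ⟨k, hk, hke⟩ := (Nat.dvd_prime_pow Nat.prime_two).1 hd
    by_contra hlt
    push Not at hlt
    have hk2 : k ≤ 2 := by
      by_contra h3
      rw [hke, show k = 3 by omega] at hlt
      norm_num at hlt
    haveI : IsMulCommutative (closure {p, s'} : Subgroup X) := by
      rcases hk2.lt_or_eq with h1 | h1
      · haveI := isCyclic_of_card_dvd_prime (p := 2) (α := (closure {p, s'} : Subgroup X))
          (by rw [hke]; exact pow_dvd_pow 2 (show k ≤ 1 by omega) |>.trans (by rw [pow_one]))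
        exact IsCyclic.isMulCommutative
      · exact IsPGroup.isMulCommutative_of_card_eq_prime_sq (p := 2) (by rw [hke, h1])
    exact hncomm (congrArg Subtype.val (mul_comm' (⟨p, subset_closure (Or.inl rfl)⟩ : (closure {p, s'} : Subgroup X))
      ⟨s', subset_closure (Or.inr rfl)⟩))
  have h4 : (p * s') ^ 4 = 1 := by
    set r : (P : Subgroup X) := ⟨p * s', (P : Subgroup X).mul_mem hpP hsP⟩
    have hd := orderOf_dvd_natCard r
    rw [hPc] at hd
    obtain ⟨k, hk, hke⟩ := (Nat.dvd_prime_pow Nat.prime_two).1 hd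
    rcases hk.lt_or_eq with h1 | h1
    · exact congrArg Subtype.val ((orderOf_dvd_iff_pow_eq_one (x := r) (n := 4)).1
        (by rw [hke]; exact pow_dvd_pow 2 (show k ≤ 2 by omega)))
    · exfalso
      haveI : IsCyclic (P : Subgroup X) := isCyclic_of_orderOf_eq_card r (by rw [hke, h1, hPc])
      haveI := IsCyclic.isMulCommutative (α := (P : Subgroup X))
      exact hncomm (congrArg Subtype.val (mul_comm' (⟨p, hpP⟩ : (P : Subgroup X)) ⟨s', hsP⟩))
  intro P'
  refine ⟨by rw [h.card_sylow F P', hl3]; norm_num, ?_⟩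
  obtain ⟨g, hg⟩ := MulAction.exists_smul_eq X P P'
  have hg' : (P' : Subgroup X) = (P : Subgroup X).map (MulAut.conj g).toMonoidHom := by rw [← hg]; rfl
  refine ⟨MulAut.conj g p, MulAut.conj g s', ?_, ?_, ?_, ?_⟩
  · rw [← map_mul, hpZ.2.1, map_one]
  · rw [← map_mul, hs2, map_one]
  · rw [← map_mul, ← map_pow, h4, map_one]
  · rw [hg', ← hcl, MonoidHom.map_closure, Set.image_pair]; rfl

end AffHyp

end CfsgLib.TwoTimesPSL
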