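import Cfsg.Agent.TwoTimesPSL.AffBasic
import Cfsg.Agent.AlphaRho.Field

/-!
The translation-free case: the stabiliser of two points is generated by the inverted element, and the
involutions are conjugate with centralisers 2-groups.
-/

set_option autoImplicit false
set_option linter.unusedSectionVars false
set_option linter.style.haveILetI false

namespace CfsgLib.TwoTimesPSL

open Equiv (Perm)

/-- Ring automorphisms of a field of order `2 ^ n` are powers of squaring. -/
theorem exists_frob {n : ℕ} (hn : n ≠ 0) (σ : GaloisField 2 n ≃+* GaloisField 2 n) :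
    ∃ j : ℕ, ∀ x, σ x = x ^ 2 ^ j := by
  have := Fintype.ofFinite (GaloisField 2 n)
  let ψ : GaloisField 2 n ≃ₐ[ZMod 2] GaloisField 2 n := AlgEquiv.ofRingEquiv (f := σ) fun a =>
    RingHom.congr_fun (RingHom.ext_zmod ((σ : GaloisField 2 n →+* GaloisField 2 n).comp
      (algebraMap (ZMod 2) (GaloisField 2 n))) (algebraMap (ZMod 2) (GaloisField 2 n))) a
  obtain ⟨⟨i, hi⟩, he⟩ := (FiniteField.bijective_frobeniusAlgEquivOfAlgebraic_pow (ZMod 2) (GaloisField 2 n)).2 ψ
  refine ⟨i, fun y => ?_⟩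
  have := AlgEquiv.congr_fun he y
  rw [AlgEquiv.coe_pow, FiniteField.coe_frobeniusAlgEquivOfAlgebraic_iterate] at this
  simp only [ZMod.card] at this
  exact this.symm

theorem pow_two_pow_mod {n : ℕ} (hn : n ≠ 0) (j : ℕ) (x : GaloisField 2 n) :
    x ^ 2 ^ j = x ^ 2 ^ (j % n) := by
  have := Fintype.ofFinite (GaloisField 2 n)
  have hc : Fintype.card (GaloisField 2 n) = 2 ^ n := by
    rw [← Nat.card_eq_fintype_card, GaloisField.card 2 n hn]
  conv_lhs => rw [← Nat.div_add_mod j n, pow_add, pow_mul 2 n, pow_mul, ← hc, FiniteField.pow_card_pow]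

theorem dvd_of_frob {n : ℕ} (hn : n ≠ 0) {j : ℕ} (h : ∀ x : GaloisField 2 n, x ^ 2 ^ j = x) : n ∣ j := by
  have := Fintype.ofFinite (GaloisField 2 n)
  have hf : Module.finrank (ZMod 2) (GaloisField 2 n) = n := GaloisField.finrank 2 hn
  have hlt : j % n < Module.finrank (ZMod 2) (GaloisField 2 n) := by
    rw [hf]; exact Nat.mod_lt _ (Nat.pos_of_ne_zero hn)
  have e := (FiniteField.bijective_frobeniusAlgEquivOfAlgebraic_pow (ZMod 2) (GaloisField 2 n)).1
    (a₁ := ⟨j % n, hlt⟩) (a₂ := ⟨0, by rw [hf]; exact Nat.pos_of_ne_zero hn⟩) (AlgEquiv.ext fun x => by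
      show (FiniteField.frobeniusAlgEquivOfAlgebraic (ZMod 2) (GaloisField 2 n) ^ (j % n)) x = _
      rw [AlgEquiv.coe_pow, FiniteField.coe_frobeniusAlgEquivOfAlgebraic_iterate]
      simpa [← pow_two_pow_mod hn] using h x)
  exact Nat.dvd_of_mod_eq_zero (congrArg Fin.val e)

variable {V : Type*} [CommGroup V]

/-- An involution transposing the two fixed points of an element of odd prime order it inverts. -/
structure Swapped (X : Subgroup (Perm V)) (l : ℕ) (φ s : Perm V) (w : V) : Prop where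
  prime : l.Prime
  ne_two : l ≠ 2
  φX : φ ∈ X
  sX : s ∈ X
  s2 : s * s = 1
  ord : orderOf φ = l
  inv : s * φ * s = φ⁻¹
  φ1 : φ 1 = 1
  φw : φ w = w
  s1 : s 1 = w
  sw : s w = 1
  w1 : w ≠ 1
  only : ∀ u, φ u = u → u = 1 ∨ u = w

namespace AffHyp

variable {X : Subgroup (Perm V)} {c : Perm V} (h : AffHyp X c)
include h

theorem two_dvd_card : 2 ∣ Nat.card X := by
  have : Finite V := h.finite
  have : Fact (Nat.Prime 2) := ⟨Nat.prime_two⟩
  have ho : MulAction.orbit X (1 : V) = Set.univ := Set.eq_univ_of_forall fun v => by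
    obtain ⟨x, hx, hxv⟩ := h.trans v
    exact ⟨⟨x, hx⟩, hxv⟩
  have e := MulAction.index_stabilizer X (1 : V)
  rw [ho, Set.ncard_univ] at e
  refine dvd_trans ?_ (e ▸ Subgroup.index_dvd_card (MulAction.stabilizer X (1 : V)))
  obtain ⟨n, hn⟩ := IsPGroup.iff_card.1 h.vGroup
  have := h.four
  rw [hn] at this ⊢
  exact dvd_pow_self 2 (by rintro rfl; norm_num at this)

theorem exists_involution : ∃ s ∈ X, s * s = 1 ∧ s ≠ 1 := by
  have : Finite V := h.finite
  have : Fact (Nat.Prime 2) := ⟨Nat.prime_two⟩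
  obtain ⟨g, hg⟩ := exists_prime_orderOf_dvd_card' (G := X) 2 h.two_dvd_card
  refine ⟨g, g.2, ?_, fun e => ?_⟩
  · have := pow_orderOf_eq_one g
    rw [hg, pow_two] at this
    exact congrArg Subtype.val this
  · rw [show g = 1 from Subtype.ext e, orderOf_one] at hg
    norm_num at hg

/-- Moving a pair of distinct points onto a given one. -/
theorem exists_move {w a b : V} (hw : w ≠ 1) (hab : a ≠ b) : ∃ x ∈ X, x 1 = a ∧ x w = b := by
  obtain ⟨x, hx, hxa⟩ := h.trans a
  have h1 : x⁻¹ b ≠ 1 := fun e => hab (by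
    rw [← hxa, ← e]
    exact x.apply_symm_apply b)
  obtain ⟨i, hi⟩ := h.creg w _ hw h1
  refine ⟨x * c ^ i, X.mul_mem hx (h.cpow_mem i), ?_, ?_⟩
  · rw [Equiv.Perm.mul_apply, h.cpow_one, hxa]
  · rw [Equiv.Perm.mul_apply, hi]
    exact x.apply_symm_apply b

omit h in
theorem conj_apply' {α : Type*} {x s : Perm α} {a b a' b' : α} (ha : x a' = a) (hb : x b' = b)
    (hs : s a = b) : (x⁻¹ * s * x) a' = b' := by
  rw [Equiv.Perm.mul_apply, Equiv.Perm.mul_apply, ha, hs, ← hb]
  exact x.symm_apply_apply b'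

theorem exists_swapped (hnt : ∀ v, v ≠ 1 → tr v ∉ X) : ∃ l φ s w, Swapped X l φ s w := by
  obtain ⟨s, hs, hs2, hs1⟩ := h.exists_involution
  obtain ⟨l, φ, hl, hl2, hφ, ho, hinv⟩ := h.exists_pair hnt hs hs2 hs1
  haveI := Fact.mk hl
  obtain ⟨a, ha, hsa, hne, honly⟩ := h.pair_fixed hl2 hφ hs hs2 hs1 ho hinv
  have hfour := h.four
  obtain ⟨w, hw⟩ : ∃ w : V, w ≠ 1 := by
    haveI := h.finite
    haveI : Nontrivial V := Finite.one_lt_card_iff_nontrivial.1 (show 1 < Nat.card V by omega)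
    exact exists_ne 1
  obtain ⟨x, hx, hx1, hxw⟩ := h.exists_move hw (Ne.symm hne)
  have hss : s (s a) = a := by rw [← Equiv.Perm.mul_apply, hs2]; rfl
  refine ⟨l, x⁻¹ * φ * x, x⁻¹ * s * x, w,
    { prime := hl, ne_two := hl2
      φX := X.mul_mem (X.mul_mem (X.inv_mem hx) hφ) hx
      sX := X.mul_mem (X.mul_mem (X.inv_mem hx) hs) hx
      s2 := by rw [show x⁻¹ * s * x * (x⁻¹ * s * x) = x⁻¹ * (s * s) * x by group, hs2]; group
      ord := by rw [orderOf_conj', ho]
      inv := by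
        rw [show x⁻¹ * s * x * (x⁻¹ * φ * x) * (x⁻¹ * s * x) = x⁻¹ * (s * φ * s) * x by group, hinv]
        group
      φ1 := conj_apply' hx1 hx1 ha
      φw := conj_apply' hxw hxw hsa
      s1 := conj_apply' hx1 hxw rfl
      sw := conj_apply' hxw hx1 hss
      w1 := hw
      only := fun u hu => ?_ }⟩
  have hu' : φ (x u) = x u := by
    have := congrArg x hu
    simpa [Equiv.Perm.mul_apply] using this
  rcases honly _ hu' with e | e
  · exact Or.inl (x.injective (e.trans hx1.symm))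
  · exact Or.inr (x.injective (e.trans hxw.symm))

/-- The degree is `2 ^ l` and the stabiliser of the pair is generated by `φ`. -/
theorem two_point {l : ℕ} {φ s : Perm V} {w : V} (F : Swapped X l φ s w) :
    Nat.card V = 2 ^ l ∧ ∀ g ∈ X, g 1 = 1 → g w = w → ∃ m : ℕ, g = φ ^ m := by
  classical
  have : Finite V := h.finite
  have : Fact (Nat.Prime 2) := ⟨Nat.prime_two⟩
  obtain ⟨n, hn⟩ := IsPGroup.iff_card.1 h.vGroup
  have hn0 : n ≠ 0 := by rintro rfl; have := h.four; rw [hn] at this; norm_num at this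
  let T : Additive V →+ Additive V := AddMonoidHom.mk' (fun a => Additive.ofMul (c a.toMul))
    fun a b => congrArg Additive.ofMul (h.map_of_fix h.cX h.c1 a.toMul b.toMul)
  have hTi : ∀ (i : ℕ) (a : Additive V), (T^[i] a).toMul = (c ^ i) a.toMul := by
    intro i
    induction i with
    | zero => intro a; rfl
    | succ i ih => intro a; rw [Function.iterate_succ_apply', pow_succ', Equiv.Perm.mul_apply, ← ih]; rfl
  obtain ⟨θ₀, ζ, hθρ, hgen⟩ := AlphaRho.exists_field_coord hn0 ((Nat.card_congr Additive.toMul).trans hn) T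
    (fun a b e => Additive.toMul.injective (c.injective (congrArg Additive.toMul e)))
    (fun a b ha hb => by
      obtain ⟨i, hi⟩ := h.creg a.toMul b.toMul (fun e => ha e) (fun e => hb e)
      exact ⟨i, Additive.toMul.injective ((hTi i a).trans hi)⟩)
  have hθw : θ₀ (Additive.ofMul w) ≠ 0 := fun e => F.w1 (θ₀.map_eq_zero_iff.1 e)
  let e : V ≃ GaloisField 2 n := Additive.ofMul.trans (θ₀.toEquiv.trans (Equiv.mulRight₀ _ (inv_ne_zero hθw)))
  have he : ∀ v, e v = θ₀ (Additive.ofMul v) * (θ₀ (Additive.ofMul w))⁻¹ := fun _ => rfl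
  have he_mul : ∀ a b, e (a * b) = e a + e b := fun a b => by
    rw [he, he, he, ofMul_mul, map_add, add_mul]
  have he_one : e 1 = 0 := by rw [he, ofMul_one, map_zero, zero_mul]
  have he_w : e w = 1 := by rw [he, mul_inv_cancel₀ hθw]
  have he_c : ∀ v, e (c v) = ζ * e v := fun v => by
    rw [he, he, ← mul_assoc, ← hθρ]; rfl
  have he_ci : ∀ (i : ℕ), e ((c ^ i) w) = ζ ^ i := fun i => by
    induction i with
    | zero => rw [pow_zero, pow_zero]; exact he_w
    | succ i ih => rw [pow_succ', Equiv.Perm.mul_apply, he_c, ih, pow_succ']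
  have hexp : ∀ g ∈ X, g 1 = 1 → g w = w → ∃ j : ℕ, ∀ v, e (g v) = e v ^ 2 ^ j := by
    intro g hg h1 hgw
    obtain ⟨m, hm⟩ := h.cnorm g hg h1
    have hgc : ∀ i, e (g ((c ^ i) w)) = ζ ^ (m * i) := fun i => by
      have e1 : g * c ^ i = c ^ (m * i) * g := by
        rw [pow_mul, ← hm, conj_pow]; group
      rw [← Equiv.Perm.mul_apply, e1, Equiv.Perm.mul_apply, hgw, he_ci]
    let σ₀ : GaloisField 2 n ≃ GaloisField 2 n := e.symm.trans (g.trans e)
    have hσ : ∀ v, σ₀ (e v) = e (g v) := fun v => congrArg (fun u => e (g u)) (e.symm_apply_apply v)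
    have hσ0 : σ₀ 0 = 0 := by rw [← he_one, hσ, h1]
    have hσζ : ∀ i, σ₀ (ζ ^ i) = ζ ^ (m * i) := fun i => by rw [← he_ci, hσ, hgc]
    let σ : GaloisField 2 n ≃+* GaloisField 2 n :=
      { σ₀ with
        map_mul' := fun x y => by
          show σ₀ (x * y) = σ₀ x * σ₀ y
          rcases eq_or_ne x 0 with rfl | hx
          · rw [zero_mul, hσ0, zero_mul]
          rcases eq_or_ne y 0 with rfl | hy
          · rw [mul_zero, hσ0, mul_zero]
          obtain ⟨i, rfl⟩ := hgen x hx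
          obtain ⟨k, rfl⟩ := hgen y hy
          rw [← pow_add, hσζ, hσζ, hσζ, ← pow_add, mul_add]
        map_add' := fun x y => by
          show σ₀ (x + y) = σ₀ x + σ₀ y
          obtain ⟨a, rfl⟩ := e.surjective x
          obtain ⟨b, rfl⟩ := e.surjective y
          rw [← he_mul, hσ, hσ, hσ, h.map_of_fix hg h1, he_mul] }
    obtain ⟨j, hj⟩ := exists_frob hn0 σ
    exact ⟨j, fun v => (hσ v).symm.trans (hj (e v))⟩
  obtain ⟨j, hj⟩ := hexp φ F.φX F.φ1 F.φw
  have hji : ∀ (i : ℕ) (v : V), e ((φ ^ i) v) = e v ^ 2 ^ (j * i) := fun i => by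
    induction i with
    | zero => intro v; simp
    | succ i ih =>
      intro v
      rw [pow_succ', Equiv.Perm.mul_apply, hj, ih, ← pow_mul, ← pow_add]
      rfl
  have hnj : ¬ n ∣ j := fun hd => by
    have : φ = 1 := Equiv.ext fun v => e.injective (by
      obtain ⟨a, rfl⟩ := hd
      rw [hj, pow_two_pow_mod hn0, Nat.mul_mod_right, pow_zero, pow_one]; rfl)
    have := F.ord
    rw [‹φ = 1›, orderOf_one] at this
    exact F.prime.ne_one this.symm
  have hnjl : n ∣ j * l := dvd_of_frob hn0 fun x => by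
    obtain ⟨v, rfl⟩ := e.surjective x
    rw [← hji, ← F.ord, pow_orderOf_eq_one]; rfl
  have hnl : n = l := by
    set g := Nat.gcd j n
    have hgn : g ∣ n := Nat.gcd_dvd_right _ _
    have hgl : n ∣ g * l := by
      have := Nat.dvd_gcd hnjl (dvd_mul_right n l)
      rwa [Nat.gcd_mul_right] at this
    obtain ⟨k, hk⟩ := hgn
    have hg0 : 0 < g := Nat.pos_of_ne_zero fun e0 => hn0 (by rw [hk, e0, zero_mul])
    have hkl : k ∣ l := by rw [hk] at hgl; exact Nat.dvd_of_mul_dvd_mul_left hg0 hgl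
    rcases (Nat.dvd_prime F.prime).1 hkl with rfl | rfl
    · exact absurd (by rw [hk, mul_one]; exact Nat.gcd_dvd_left _ _) hnj
    by_contra hne
    have hg2 : 2 ≤ g := by
      rcases Nat.lt_or_ge g 2 with h2 | h2
      · interval_cases g
        exact absurd (by rw [hk, one_mul]) hne
      · exact h2
    have hd : 2 ^ g - 1 ∣ 2 ^ n - 1 := Nat.pow_sub_one_dvd_pow_sub_one 2 ⟨k, hk⟩
    have hζ0 : ζ ≠ 0 := by
      intro e0
      have h1 := hgen (e (c w)) (fun e1 => F.w1 (c.injective ((e.injective (e1.trans he_one.symm)).trans h.c1.symm)))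
      rw [he_c, e0, zero_mul] at h1
      have h2 := e.injective (show e (c w) = e 1 by rw [he_c, e0, zero_mul, he_one])
      exact F.w1 (c.injective (h2.trans h.c1.symm))
    have := Fintype.ofFinite (GaloisField 2 n)
    have hcard : Fintype.card (GaloisField 2 n) = 2 ^ n := by
      rw [← Nat.card_eq_fintype_card, GaloisField.card 2 n hn0]
    have hord : 2 ^ n - 1 ≤ orderOf ζ := by
      have hsub : (Finset.univ.erase (0 : GaloisField 2 n)) ⊆ (Finset.range (orderOf ζ)).image (ζ ^ ·) := by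
        intro x hx
        obtain ⟨i, rfl⟩ := hgen x (Finset.ne_of_mem_erase hx)
        refine Finset.mem_image.2 ⟨i % orderOf ζ, Finset.mem_range.2 (Nat.mod_lt _ (orderOf_pos_iff.2 ?_)), ?_⟩
        · exact isOfFinOrder_iff_pow_eq_one.2 ⟨2 ^ n - 1, by
            have := Nat.one_lt_two_pow hn0; omega, by rw [← hcard]; exact FiniteField.pow_card_sub_one_eq_one ζ hζ0⟩
        · exact pow_mod_orderOf ζ i
      have := Finset.card_le_card hsub
      rw [Finset.card_erase_of_mem (Finset.mem_univ _), Finset.card_univ, hcard] at this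
      exact this.trans (Finset.card_image_le.trans (Finset.card_range _).le)
    obtain ⟨r, hr⟩ := hd
    have h3 : 3 ≤ 2 ^ g - 1 := by
      have := Nat.pow_le_pow_right (show 0 < 2 by norm_num) hg2
      omega
    have hr0 : r ≠ 0 := by
      rintro rfl
      have := Nat.one_lt_two_pow hn0
      omega
    have hrlt : r < 2 ^ n - 1 := by
      rw [hr]
      exact lt_mul_left (Nat.pos_of_ne_zero hr0) (by omega)
    set x := ζ ^ r with hx
    have hxg : x ^ 2 ^ g = x := by
      rw [show 2 ^ g = (2 ^ g - 1) + 1 by omega, pow_succ, hx, ← pow_mul, mul_comm r, ← hr, ← hcard,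
        FiniteField.pow_card_sub_one_eq_one ζ hζ0, one_mul]
    have hxmul : ∀ i : ℕ, x ^ 2 ^ (g * i) = x := fun i => by
      induction i with
      | zero => simp
      | succ i ih => rw [Nat.mul_succ, pow_add, pow_mul, ih, hxg]
    obtain ⟨i, hi⟩ := Nat.gcd_dvd_left j n
    have hfix : φ (e.symm x) = e.symm x := e.injective (by
      rw [hj, e.apply_symm_apply, show j = g * i from hi, hxmul])
    rcases F.only _ hfix with h1 | h1
    · exact (pow_ne_zero r hζ0) (by rw [← hx, ← e.apply_symm_apply x, h1, he_one])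
    · exact absurd (pow_eq_one_iff_modEq.1 (show ζ ^ r = 1 by rw [← hx, ← e.apply_symm_apply x, h1, he_w]))
        fun hmod => by
          have := Nat.le_of_dvd (Nat.pos_of_ne_zero hr0) (Nat.modEq_zero_iff_dvd.1 hmod)
          omega
  refine ⟨hnl ▸ hn, fun g hg h1 hgw => ?_⟩
  obtain ⟨i, hi⟩ := hexp g hg h1 hgw
  subst hnl
  haveI := Fact.mk F.prime
  have hj0 : (j : ZMod n) ≠ 0 := fun e0 => hnj ((ZMod.natCast_eq_zero_iff _ _).1 e0)
  refine ⟨((i : ZMod n) * (j : ZMod n)⁻¹).val, Equiv.ext fun v => e.injective ?_⟩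
  rw [hi, hji, pow_two_pow_mod hn0 i, pow_two_pow_mod hn0 (j * _)]
  congr 2
  apply (ZMod.natCast_eq_natCast_iff' _ _ _).1
  rw [Nat.cast_mul, ZMod.natCast_val, ZMod.cast_id, mul_comm (i : ZMod n), ← mul_assoc, mul_inv_cancel₀ hj0, one_mul]

/-- No element of odd prime order centralises an involution. -/
theorem no_odd_central {l : ℕ} {φ s : Perm V} {w : V} (F : Swapped X l φ s w) {r : ℕ} (hr : r.Prime)
    (hr2 : r ≠ 2) {y t : Perm V} (hy : y ∈ X) (ht : t ∈ X) (hyo : orderOf y = r) (ht2 : t * t = 1)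
    (ht1 : t ≠ 1) (hyt : Commute y t) : False := by
  haveI := Fact.mk hr
  obtain ⟨a, ha⟩ := h.exists_fixed hr2 hyo
  have hta : t a ≠ a := h.inv_fpf ht ht2 ht1 a
  obtain ⟨x, hx, hx1, hxw⟩ := h.exists_move F.w1 (Ne.symm hta)
  have hya : y (t a) = t a := by rw [← Equiv.Perm.mul_apply, hyt.eq, Equiv.Perm.mul_apply, ha]
  set y' := x⁻¹ * y * x with hy'
  set t' := x⁻¹ * t * x with ht'
  have htta : t (t a) = a := by rw [← Equiv.Perm.mul_apply, ht2]; rfl
  obtain ⟨-, hgen⟩ := h.two_point F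
  obtain ⟨m, hm⟩ := hgen y' (X.mul_mem (X.mul_mem (X.inv_mem hx) hy) hx) (conj_apply' hx1 hx1 ha)
    (conj_apply' hxw hxw hya)
  obtain ⟨k, hk⟩ := hgen (t' * s) (X.mul_mem (X.mul_mem (X.mul_mem (X.inv_mem hx) ht) hx) F.sX)
    (by rw [Equiv.Perm.mul_apply, F.s1]; exact conj_apply' hxw hx1 htta)
    (by rw [Equiv.Perm.mul_apply, F.sw]; exact conj_apply' hx1 hxw rfl)
  have hc : Commute y' t' := by
    have := hyt.map (MulAut.conj x⁻¹).toMonoidHom
    simpa [y', t'] using this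
  have hs : Commute y' s := by
    have e : s = t'⁻¹ * φ ^ k := by rw [← hk]; group
    rw [e]
    exact hc.inv_right.mul_right (hm ▸ (Commute.refl φ).pow_pow m k)
  have hinv : s * y' * s = y'⁻¹ := by
    have e2 : s * φ * s⁻¹ = φ⁻¹ := by rw [inv_eq_of_mul_eq_one_right F.s2, F.inv]
    rw [hm]
    calc s * φ ^ m * s = s * φ ^ m * s⁻¹ := by rw [inv_eq_of_mul_eq_one_right F.s2]
      _ = (φ ^ m)⁻¹ := by rw [← conj_pow, e2, inv_pow]
  rw [← hs.eq, mul_assoc, F.s2, mul_one] at hinv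
  have h2 : y' ^ 2 = 1 := by rw [pow_two]; nth_rw 2 [hinv]; exact mul_inv_cancel _
  have := orderOf_dvd_of_pow_eq_one h2
  rw [hy', orderOf_conj', hyo] at this
  exact hr2 ((Nat.prime_dvd_prime_iff_eq hr Nat.prime_two).1 this)

/-- One class of involutions. -/
theorem conj_swap {l : ℕ} {φ s : Perm V} {w : V} (F : Swapped X l φ s w) {t : Perm V} (ht : t ∈ X)
    (ht2 : t * t = 1) (ht1 : t ≠ 1) : ∃ x ∈ X, x * s * x⁻¹ = t := by
  obtain ⟨x, hx, hx1, hxw⟩ := h.exists_move F.w1 (Ne.symm (h.inv_fpf ht ht2 ht1 1))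
  set t' := x⁻¹ * t * x with ht'
  have ht11 : t (t 1) = 1 := by rw [← Equiv.Perm.mul_apply, ht2]; rfl
  obtain ⟨-, hgen⟩ := h.two_point F
  obtain ⟨i, hi⟩ := hgen (s * t') (X.mul_mem F.sX (X.mul_mem (X.mul_mem (X.inv_mem hx) ht) hx))
    (by rw [Equiv.Perm.mul_apply, show t' 1 = w from conj_apply' hx1 hxw rfl, F.sw])
    (by rw [Equiv.Perm.mul_apply, show t' w = 1 from conj_apply' hxw hx1 ht11, F.s1])
  have hsφ : ∀ m : ℕ, φ ^ m * s = s * (φ ^ m)⁻¹ := fun m => by
    have e2 : s * φ * s⁻¹ = φ⁻¹ := by rw [inv_eq_of_mul_eq_one_right F.s2, F.inv]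
    have e3 : s * (φ ^ m) * s⁻¹ = (φ ^ m)⁻¹ := by rw [← conj_pow, e2, inv_pow]
    rw [← e3]
    rw [inv_eq_of_mul_eq_one_right F.s2]
    simp only [← mul_assoc, F.s2, one_mul]
  set m := i * ((l - 1) / 2) with hm
  refine ⟨x * φ ^ m, X.mul_mem hx (X.pow_mem F.φX m), ?_⟩
  have e : t' = s * φ ^ i := by rw [← hi, ← mul_assoc, F.s2, one_mul]
  have e' : φ ^ m * s * (φ ^ m)⁻¹ = t' := by
    rw [hsφ, mul_assoc, ← mul_inv_rev, ← pow_add, e]
    congr 1
    rw [inv_eq_iff_mul_eq_one, ← pow_add, ← orderOf_dvd_iff_pow_eq_one, F.ord]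
    obtain ⟨k, hk⟩ := (F.prime.eq_two_or_odd'.resolve_left F.ne_two)
    refine ⟨i, ?_⟩
    rw [hm, hk, show (2 * k + 1 - 1) / 2 = k by omega]
    ring
  calc x * φ ^ m * s * (x * φ ^ m)⁻¹ = x * (φ ^ m * s * (φ ^ m)⁻¹) * x⁻¹ := by group
    _ = t := by rw [e', ht']; group

end AffHyp

end CfsgLib.TwoTimesPSL
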