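import Cfsg.Agent.TwoTimesPSL.AffExc

/-!
The affine lemma: all translations, or degree eight.
-/

set_option autoImplicit false
set_option linter.style.haveILetI false

namespace CfsgLib.TwoTimesPSL.AffHyp

open Equiv (Perm)

variable {V : Type*} [CommGroup V] {X : Subgroup (Perm V)} {c : Perm V} (h : AffHyp X c)
include h

/-- The alternatives: all translations, or none and degree eight. -/
theorem dichotomy :
    (∀ v, tr v ∈ X) ∨ ((∀ v, v ≠ 1 → tr v ∉ X) ∧ Nat.card V = 8) := by
  by_cases hex : ∃ v, v ≠ 1 ∧ tr v ∈ X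
  · obtain ⟨v, hv, hvX⟩ := hex
    exact Or.inl (h.tr_all hv hvX)
  · push Not at hex
    exact Or.inr ⟨hex, (h.exceptional hex).1⟩

/-- In degree eight an involution without translations fixes four vectors linearly. -/
theorem card_lin_fixed (hnt : ∀ v, v ≠ 1 → tr v ∉ X) {s : Perm V} (hs : s ∈ X) (hs2 : s * s = 1)
    (hs1 : s ≠ 1) : Nat.card {v : V // lin s v = v} = 4 := by
  have : Finite V := h.finite
  have h8 := (h.exceptional hnt).1
  let σ : V →* V := MonoidHom.mk' (lin s) (h.lin_mul_map hs)
  have hσ : ∀ v, σ (σ v) = v := fun v => by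
    show lin s (lin s v) = v
    rw [← h.lin_comp hs, hs2]
    show v * 1 = v
    exact mul_one v
  let K : Subgroup V :=
    { carrier := {v | σ v = v}
      mul_mem' := fun {a b} (ha : σ a = a) (hb : σ b = b) => by
        show σ (a * b) = a * b
        rw [map_mul, ha, hb]
      one_mem' := map_one σ
      inv_mem' := fun {a} (ha : σ a = a) => by
        show σ a⁻¹ = a⁻¹
        rw [map_inv, ha] }
  have h1 := card_le_fixed_sq h.exp σ hσ K fun _ => Iff.rfl
  have hne : K ≠ ⊤ := fun e => hs1 (h.lin_faithful hnt hs fun v => (show v ∈ K from e ▸ Subgroup.mem_top v))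
  have h2 := CfsgLib.Solvable.card_lt_of_ne_top hne
  have h3 := K.card_subgroup_dvd_card
  rw [h8] at h1 h2 h3
  show Nat.card K = 4
  obtain ⟨k, hk, hke⟩ := (Nat.dvd_prime_pow Nat.prime_two).1 (show Nat.card K ∣ 2 ^ 3 from h3)
  rw [hke] at h1 h2 ⊢
  interval_cases k <;> simp_all

end CfsgLib.TwoTimesPSL.AffHyp
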