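import Cfsg.Agent.TwoTimesPSL.DihCtx

/-!
The action of `S` on `⟨y⟩` and `a`: an element outside `R` moves `a` by an odd power of `y`.
-/

set_option autoImplicit false
set_option linter.style.haveILetI false

namespace CfsgLib.TwoTimesPSL.DihCtx

open Subgroup

variable {G : Type*} [Group G] {t : G} {L R P : Subgroup G} {m : ℕ} {y a z : G} {q : ℕ} {S : Subgroup G}
  (F : DihCtx t L R P m y a z q S)
include F

theorem mul_mem_R {s r : G} (hs : s ∈ S) (hr : r ∈ S) : s * r ∈ R ↔ (s ∈ R ↔ r ∈ R) :=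
  Subgroup.mul_mem_iff_of_index_two (H := R.subgroupOf S) F.idx (a := ⟨s, hs⟩) (b := ⟨r, hr⟩)

theorem sq_mem_R {s : G} (hs : s ∈ S) : s * s ∈ R := (F.mul_mem_R hs hs).2 Iff.rfl

theorem conj_z {s : G} (hs : s ∈ S) : s * z * s⁻¹ = z := by
  rw [(F.zS s hs).eq, mul_inv_cancel_right]

theorem act {s : G} (hs : s ∈ S) : ∃ k j : ℤ, Odd k ∧ s * y * s⁻¹ = y ^ k ∧ s * a * s⁻¹ = a * y ^ j := by
  obtain ⟨k, hk | hk⟩ := F.memP _ (F.normP s hs y F.hy)
  · obtain ⟨j, hj | hj⟩ := F.memP _ (F.normP s hs a F.ha)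
    · exfalso
      have h2 : y ^ j * y ^ j = 1 := by
        rw [← hj]
        calc s * a * s⁻¹ * (s * a * s⁻¹) = s * (a * a) * s⁻¹ := by group
          _ = 1 := by rw [F.aa]; group
      rcases F.y_sq h2 with e | e
      · rw [← hj, mul_inv_eq_one, mul_eq_left] at e
        exact F.anot 0 (by rw [e, zpow_zero])
      · rw [← hj] at e
        conv_rhs at e => rw [← F.conj_z hs]
        exact F.anot _ ((mul_left_cancel (mul_right_cancel e)).trans F.hz)
    · refine ⟨k, j, ?_, hk, hj⟩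
      by_contra hev
      obtain ⟨d, rfl⟩ := Int.not_odd_iff_even.1 hev
      have h1 : s * z * s⁻¹ = 1 := by
        rw [F.hz, ← conj_zpow, hk, ← zpow_mul, F.zpow_eq_one]
        exact ⟨d, by rw [F.hmq]; push_cast; ring⟩
      exact F.z_ne ((F.conj_z hs).symm.trans h1)
  · exfalso
    have h1 : s * (y ^ (2 : ℤ)) * s⁻¹ = 1 := by
      rw [← conj_zpow, hk, zpow_two, F.ay_sq]
    rw [mul_inv_eq_one, mul_eq_left, F.zpow_eq_one] at h1
    have := Int.le_of_dvd (by norm_num) h1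
    have := F.hm
    omega

theorem conj_t {s : G} (hs : s ∈ S) : ∃ e : ℤ, s * t * s⁻¹ = t * y ^ e := by
  by_cases hR : s ∈ R
  · exact ⟨0, by rw [zpow_zero, mul_one, (F.tcomm (F.hR hR)).eq.symm, mul_inv_cancel_right]⟩
  · exact ⟨_, F.hz ▸ F.tS s hs hR⟩

theorem comm_R {s r : G} (hs : s ∈ S) (hr : r ∈ R) : ∃ n : ℤ, s * r * s⁻¹ = r * y ^ n := by
  obtain ⟨k, j, -, hk, hj⟩ := F.act hs
  obtain ⟨e, he⟩ := F.conj_t hs
  have hy : ∀ i : ℤ, s * y ^ i * s⁻¹ = y ^ i * y ^ (k * i - i) := fun i => by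
    rw [← conj_zpow, hk, ← zpow_mul, ← zpow_add]
    congr 1; ring
  have ha : ∀ i : ℤ, s * (a * y ^ i) * s⁻¹ = a * y ^ i * y ^ (j + k * i - i) := fun i => by
    rw [show s * (a * y ^ i) * s⁻¹ = (s * a * s⁻¹) * (s * y ^ i * s⁻¹) by group, ← conj_zpow, hk, hj,
      ← zpow_mul, mul_assoc, ← zpow_add, mul_assoc, ← zpow_add]
    congr 2; ring
  obtain ⟨i, h | h | h | h⟩ := F.casesR hr <;> subst h
  · exact ⟨_, hy i⟩
  · exact ⟨_, ha i⟩
  · refine ⟨e + (k * i - i), ?_⟩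
    rw [show s * (t * y ^ i) * s⁻¹ = (s * t * s⁻¹) * (s * y ^ i * s⁻¹) by group, hy, he]
    simp only [mul_assoc, ← zpow_add]
    congr 2; ring
  · refine ⟨-e + (j + k * i - i), ?_⟩
    rw [show s * (t * (a * y ^ i)) * s⁻¹ = (s * t * s⁻¹) * (s * (a * y ^ i) * s⁻¹) by group, ha, he]
    simp only [mul_assoc]
    rw [← mul_assoc (y ^ e) a, F.y_mul_a]
    simp only [mul_assoc, ← zpow_add]
    congr 3; ring

/-- All commutators of `S` lie in `⟨y⟩`. -/
theorem comm_S {s r : G} (hs : s ∈ S) (hr : r ∈ S) : s * r * s⁻¹ * r⁻¹ ∈ zpowers y := by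
  have hn : ∀ g ∈ S, ∀ n : ℤ, g * y ^ n * g⁻¹ ∈ zpowers y := fun g hg n => by
    obtain ⟨k, _, -, hk, -⟩ := F.act hg
    rw [← conj_zpow, hk, ← zpow_mul]
    exact zpow_mem (mem_zpowers y) _
  have key : ∀ g ∈ S, ∀ w ∈ R, g * w * g⁻¹ * w⁻¹ ∈ zpowers y := fun g hg w hw => by
    obtain ⟨n, hn'⟩ := F.comm_R hg hw
    rw [hn']
    exact hn w (F.RS hw) n
  by_cases h1 : r ∈ R
  · exact key s hs r h1
  by_cases h2 : s ∈ R
  · have := inv_mem (key r hr s h2)
    rwa [show (r * s * r⁻¹ * s⁻¹)⁻¹ = s * r * s⁻¹ * r⁻¹ by group] at this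
  · have hw : r * s⁻¹ ∈ R := (F.mul_mem_R hr (inv_mem hs)).2 ⟨fun h => absurd h h1, fun h => absurd (by simpa using inv_mem h) h2⟩
    have := key s hs _ hw
    rwa [show s * (r * s⁻¹) * s⁻¹ * (r * s⁻¹)⁻¹ = s * r * s⁻¹ * r⁻¹ by group] at this

/-- Elements of `S` outside `R` move `a` by odd powers. -/
theorem j_odd [Finite G] {x : G} (hxS : x ∈ S) (hxR : x ∉ R) {j : ℤ} (hj : x * a * x⁻¹ = a * y ^ j) : Odd j := by
  haveI : Fact (Nat.Prime 2) := ⟨Nat.prime_two⟩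
  by_contra hev
  obtain ⟨i, rfl⟩ := Int.not_odd_iff_even.1 hev
  -- normalise so that `x` fixes `a`
  obtain ⟨x, hxS, hxR, hxa⟩ : ∃ w ∈ S, w ∉ R ∧ w * a * w⁻¹ = a := by
    refine ⟨y ^ i * x, mul_mem (F.RS (F.PR (F.mem_zpow i))) hxS, fun h => hxR ?_, ?_⟩
    · have := mul_mem (inv_mem (F.PR (F.mem_zpow i))) h
      rwa [inv_mul_cancel_left] at this
    · rw [show y ^ i * x * a * (y ^ i * x)⁻¹ = y ^ i * (x * a * x⁻¹) * (y ^ i)⁻¹ by group, hj,
        ← mul_assoc (y ^ i) a, F.y_mul_a, mul_assoc a, ← zpow_add, ← zpow_neg, mul_assoc a, ← zpow_add,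
        show -i + (i + i) + -i = (0 : ℤ) by ring, zpow_zero, mul_one]
  have hne_a : a ≠ 1 := fun e => F.anot 0 (by rw [e, zpow_zero])
  obtain ⟨g, hgL, hga⟩ := F.oneClass a (F.PL F.ha) z (F.PL F.z_mem)
    (orderOf_eq_prime (by rw [sq, F.aa]) hne_a) (orderOf_eq_prime (by rw [sq, F.z_sq]) F.z_ne)
  set b₀ := g * z * g⁻¹ with hb₀
  have hb₀L : b₀ ∈ L := mul_mem (mul_mem hgL (F.PL F.z_mem)) (inv_mem hgL)
  have hb₀z : Commute b₀ z := by
    rw [← hga, hb₀]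
    show g * z * g⁻¹ * (g * a * g⁻¹) = g * a * g⁻¹ * (g * z * g⁻¹)
    calc g * z * g⁻¹ * (g * a * g⁻¹) = g * (z * a) * g⁻¹ := by group
      _ = g * (a * z) * g⁻¹ := by rw [(F.z_comm_P F.ha).eq]
      _ = _ := by group
  have hb₀2 : b₀ * b₀ = 1 := by
    rw [hb₀]
    calc g * z * g⁻¹ * (g * z * g⁻¹) = g * (z * z) * g⁻¹ := by group
      _ = 1 := by rw [F.z_sq]; group
  -- a conjugate inside `P` fixing `t` and `z`
  set H := centralizer ({t} : Set G) ⊓ centralizer ({z} : Set G) with hH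
  have hRH : R ≤ H := le_inf F.hR fun r hr => mem_centralizer_singleton_iff.2 (F.z_comm_R hr).symm.eq
  have hodd : Odd (R.relIndex H) :=
    F.hRodd.of_dvd_nat ⟨_, (Subgroup.relIndex_mul_relIndex _ _ _ hRH inf_le_left).symm⟩
  obtain ⟨c, hc, hcR⟩ := dih_conj_into hRH F.hR2 hodd
    (zpowers_le.2 ⟨F.hL hb₀L, mem_centralizer_singleton_iff.2 hb₀z.eq⟩) (dih_isPGroup_zpowers hb₀2)
  set b := c * b₀ * c⁻¹ with hb
  have hbP : b ∈ P := by
    rw [F.hP]
    exact ⟨hcR _ (mem_zpowers _), (mem_normalizer_iff.1 (F.hLn hc.1) b₀).1 hb₀L⟩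
  have hct : Commute t c := F.tcomm hc.1
  have hcz : c * z * c⁻¹ = z := mul_inv_eq_iff_eq_mul.2 (mem_centralizer_singleton_iff.1 hc.2)
  have hb2 : b * b = 1 := by
    rw [hb]
    calc c * b₀ * c⁻¹ * (c * b₀ * c⁻¹) = c * (b₀ * b₀) * c⁻¹ := by group
      _ = 1 := by rw [hb₀2]; group
  have hbz : b ≠ z := fun e => by
    rw [hb] at e
    conv_rhs at e => rw [← hcz]
    have e1 : g * z * g⁻¹ = g * a * g⁻¹ := by rw [hga]; exact mul_left_cancel (mul_right_cancel e)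
    exact F.anot _ ((mul_left_cancel (mul_right_cancel e1)).symm.trans F.hz)
  have hb1 : b ≠ 1 := fun e => by
    rw [hb, mul_inv_eq_one, mul_eq_left, hb₀, mul_inv_eq_one, mul_eq_left] at e
    exact F.z_ne e
  obtain ⟨l, hl⟩ : ∃ l : ℤ, b = a * y ^ l := by
    obtain ⟨l, h | h⟩ := F.memP b hbP
    · rcases F.y_sq (h ▸ hb2) with e | e
      · exact absurd (h.trans e) hb1
      · exact absurd (h.trans e) hbz
    · exact ⟨l, h⟩
  -- two elements fixing `z` and `b`, moving `t` by `z` and by `b`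
  obtain ⟨k, _, hk, hky, -⟩ := F.act hxS
  obtain ⟨d, rfl⟩ := hk
  set X₁ := y ^ (d * l) * x with hX₁
  have hX₁S : X₁ ∈ S := mul_mem (F.RS (F.PR (F.mem_zpow _))) hxS
  have hX₁R : X₁ ∉ R := fun h => hxR (by
    have := mul_mem (inv_mem (F.PR (F.mem_zpow (d * l)))) h
    rwa [hX₁, inv_mul_cancel_left] at this)
  have hX₁b : X₁ * b * X₁⁻¹ = b := by
    rw [hX₁, hl, show y ^ (d * l) * x * (a * y ^ l) * (y ^ (d * l) * x)⁻¹
      = y ^ (d * l) * ((x * a * x⁻¹) * (x * y ^ l * x⁻¹)) * (y ^ (d * l))⁻¹ by group, hxa, ← conj_zpow, hky,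
      ← zpow_mul, ← mul_assoc, F.y_mul_a, mul_assoc a, ← zpow_add, ← zpow_neg, mul_assoc a, ← zpow_add]
    congr 2; ring
  set X₂ := c * g * x * (c * g)⁻¹ with hX₂
  have hgt : Commute t g := F.tcomm (F.hL hgL)
  have hX₂z : X₂ * z * X₂⁻¹ = z := by
    have e : c * g * a * (c * g)⁻¹ = z := by
      rw [show c * g * a * (c * g)⁻¹ = c * (g * a * g⁻¹) * c⁻¹ by group, hga, hcz]
    calc X₂ * z * X₂⁻¹ = c * g * x * ((c * g)⁻¹ * z * (c * g)) * x⁻¹ * (c * g)⁻¹ := by rw [hX₂]; group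
      _ = c * g * (x * a * x⁻¹) * (c * g)⁻¹ := by rw [← e]; group
      _ = z := by rw [hxa, e]
  have hX₂b : X₂ * b * X₂⁻¹ = b := by
    have e : c * g * z * (c * g)⁻¹ = b := by rw [hb, hb₀]; group
    calc X₂ * b * X₂⁻¹ = c * g * x * ((c * g)⁻¹ * b * (c * g)) * x⁻¹ * (c * g)⁻¹ := by rw [hX₂]; group
      _ = c * g * (x * z * x⁻¹) * (c * g)⁻¹ := by rw [← e]; group
      _ = b := by rw [F.conj_z hxS, e]
  have hX₂t : X₂ * t * X₂⁻¹ = t * b := by
    have e : c * g * t * (c * g)⁻¹ = t := by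
      rw [mul_inv_eq_iff_eq_mul]
      exact (hct.mul_right hgt).eq.symm
    have e2 : c * g * z * (c * g)⁻¹ = b := by rw [hb, hb₀]; group
    calc X₂ * t * X₂⁻¹ = c * g * x * ((c * g)⁻¹ * t * (c * g)) * x⁻¹ * (c * g)⁻¹ := by rw [hX₂]; group
      _ = c * g * (x * t * x⁻¹) * (c * g)⁻¹ := by
        rw [show (c * g)⁻¹ * t * (c * g) = t by rw [mul_assoc, (hct.mul_right hgt).eq, inv_mul_cancel_left]]
        group
      _ = (c * g * t * (c * g)⁻¹) * (c * g * z * (c * g)⁻¹) := by rw [F.tS x hxS hxR]; group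
      _ = t * b := by rw [e, e2]
  -- the group of all such elements
  set V := closure ({z, b} : Set G) with hV
  have hVcomm : ∀ h : G, Commute h z → Commute h b → ∀ v ∈ V, Commute h v := fun h h1 h2 v hv => by
    have : V ≤ centralizer ({h} : Set G) := by
      rw [hV, closure_le]
      rintro w (rfl | rfl)
      · exact mem_centralizer_singleton_iff.2 h1.eq.symm
      · exact mem_centralizer_singleton_iff.2 h2.eq.symm
    exact (mem_centralizer_singleton_iff.1 (this hv) : v * h = h * v).symm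
  have hzb : Commute z b := F.z_comm_P hbP
  have htz : Commute t z := F.tcomm (F.PC F.z_mem)
  have htb : Commute t b := F.tcomm (F.PC hbP)
  have hV2 : ∀ v ∈ V, v * v = 1 := by
    have key : V ≤ centralizer ({z} : Set G) ∧ V ≤ centralizer ({b} : Set G) :=
      ⟨fun v hv => mem_centralizer_singleton_iff.2 (hVcomm z (Commute.refl z) hzb v hv).eq.symm,
        fun v hv => mem_centralizer_singleton_iff.2 (hVcomm b hzb.symm (Commute.refl b) v hv).eq.symm⟩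
    intro v hv
    induction hv using closure_induction with
    | mem w hw => rcases hw with rfl | rfl <;> [exact F.z_sq; exact hb2]
    | one => exact one_mul 1
    | mul v w hv hw h1 h2 =>
      have : Commute v w := hVcomm v (mem_centralizer_singleton_iff.1 (key.1 hv))
        (mem_centralizer_singleton_iff.1 (key.2 hv)) w hw
      rw [this.symm.mul_mul_mul_comm, h1, h2, one_mul]
    | inv v hv h1 => rw [← mul_inv_rev, h1, inv_one]
  have hconjt : ∀ h : G, ∀ v : G, h * t * h⁻¹ = t * v → ∀ w, Commute h w → h * (t * w) * h⁻¹ = t * (v * w) := by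
    intro h v hv w hw
    calc h * (t * w) * h⁻¹ = (h * t * h⁻¹) * (h * w * h⁻¹) := by group
      _ = t * (v * w) := by rw [hv, hw.eq, mul_inv_cancel_right, mul_assoc]
  let A : Subgroup G :=
    { carrier := {h | Commute h z ∧ Commute h b ∧ ∃ v ∈ V, h * t * h⁻¹ = t * v}
      one_mem' := ⟨Commute.one_left z, Commute.one_left b, 1, one_mem V, by group⟩
      mul_mem' := by
        rintro h h' ⟨h1, h2, v, hv, he⟩ ⟨h1', h2', v', hv', he'⟩
        refine ⟨h1.mul_left h1', h2.mul_left h2', v * v', mul_mem hv hv', ?_⟩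
        calc h * h' * t * (h * h')⁻¹ = h * (h' * t * h'⁻¹) * h⁻¹ := by group
          _ = _ := by rw [he', hconjt h v he v' (hVcomm h h1 h2 v' hv')]
      inv_mem' := by
        rintro h ⟨h1, h2, v, hv, he⟩
        refine ⟨h1.inv_left, h2.inv_left, v, hv, ?_⟩
        have e := hconjt h v he v (hVcomm h h1 h2 v hv)
        rw [hV2 v hv, mul_one] at e
        conv_lhs => rw [← e]
        group }
  have hX₁A : X₁ ∈ A :=
    ⟨F.zS _ hX₁S, mul_inv_eq_iff_eq_mul.1 hX₁b, z, subset_closure (Or.inl rfl), F.tS _ hX₁S hX₁R⟩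
  have hX₂A : X₂ ∈ A :=
    ⟨mul_inv_eq_iff_eq_mul.1 hX₂z, mul_inv_eq_iff_eq_mul.1 hX₂b, b, subset_closure (Or.inr rfl), hX₂t⟩
  have htA : t ∈ A := ⟨htz, htb, 1, one_mem V, by rw [mul_inv_cancel_right, mul_one]⟩
  -- a Sylow subgroup of `A` containing `t`
  obtain ⟨T, hT⟩ := ((dih_isPGroup_zpowers F.tt).comap_of_injective A.subtype A.subtype_injective :
    IsPGroup 2 ((zpowers t).subgroupOf A)).exists_le_sylow
  set T₀ := (T : Subgroup A).map A.subtype with hT₀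
  have hT₀A : T₀ ≤ A := by rintro - ⟨v, -, rfl⟩; exact v.2
  have htT : t ∈ T₀ := ⟨⟨t, htA⟩, hT (mem_subgroupOf.2 (mem_zpowers t)), rfl⟩
  have hT₀2 : IsPGroup 2 T₀ := T.isPGroup'.map _
  have hT₀odd : Odd (T₀.relIndex A) := by
    rw [Subgroup.relIndex, hT₀, Subgroup.subgroupOf, Subgroup.comap_map_eq_self_of_injective A.subtype_injective]
    exact Nat.not_even_iff_odd.1 fun he => T.not_dvd_index (even_iff_two_dvd.1 he)
  have getτ : ∀ X ∈ A, ∀ v ∈ V, X * t * X⁻¹ = t * v → ∃ τ ∈ T₀, τ * t * τ⁻¹ = t * v := by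
    intro X hX v hv hXt
    obtain ⟨n, o, ⟨p, rfl⟩, heq⟩ := Nat.exists_eq_two_pow_mul_odd (orderOf_pos X).ne'
    have hw2 : IsPGroup 2 (zpowers (X ^ (2 * p + 1))) := by
      refine IsPGroup.of_card (n := n) ?_
      rw [Nat.card_zpowers, orderOf_pow' _ (by omega), heq, Nat.gcd_mul_left_left,
        Nat.mul_div_cancel _ (by omega)]
    obtain ⟨e, heA, heT⟩ := dih_conj_into hT₀A hT₀2 hT₀odd (zpowers_le.2 (pow_mem hX _)) hw2
    refine ⟨e * X ^ (2 * p + 1) * e⁻¹, heT _ (mem_zpowers _), ?_⟩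
    have hXv : Commute X v := hVcomm X hX.1 hX.2.1 v hv
    have hfix : ∀ i : ℕ, X ^ (2 * i) * t * (X ^ (2 * i))⁻¹ = t := by
      intro i
      induction i with
      | zero => simp
      | succ i ih =>
        calc X ^ (2 * (i + 1)) * t * (X ^ (2 * (i + 1)))⁻¹
            = X * (X * (X ^ (2 * i) * t * (X ^ (2 * i))⁻¹) * X⁻¹) * X⁻¹ := by
              rw [show 2 * (i + 1) = 1 + (1 + 2 * i) by omega, pow_add, pow_add, pow_one]; group
          _ = t := by rw [ih, hXt, hconjt X v hXt v hXv, hV2 v hv, mul_one]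
    have hn : X ^ (2 * p + 1) * t * (X ^ (2 * p + 1))⁻¹ = t * v := by
      calc X ^ (2 * p + 1) * t * (X ^ (2 * p + 1))⁻¹
          = X * (X ^ (2 * p) * t * (X ^ (2 * p))⁻¹) * X⁻¹ := by rw [pow_succ']; group
        _ = _ := by rw [hfix, hXt]
    obtain ⟨h1, h2, w, hw, he⟩ := heA
    obtain ⟨h1', h2', w', hw', he'⟩ := A.inv_mem (show e ∈ A from ⟨h1, h2, w, hw, he⟩)
    set Y := X ^ (2 * p + 1) with hY
    have hYc : ∀ u ∈ V, Commute Y u := fun u hu => (hVcomm X hX.1 hX.2.1 u hu).pow_left _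
    have hec : ∀ u ∈ V, Commute e u := hVcomm e h1 h2
    have hww : w * w' = 1 := by
      have := hconjt e w he w' (hec w' hw')
      rw [← he'] at this
      have e2 : e * (e⁻¹ * t * e⁻¹⁻¹) * e⁻¹ = t := by group
      rw [e2] at this
      exact (mul_eq_left.1 this.symm)
    calc e * Y * e⁻¹ * t * (e * Y * e⁻¹)⁻¹ = e * (Y * (e⁻¹ * t * e⁻¹⁻¹) * Y⁻¹) * e⁻¹ := by group
      _ = e * (t * (v * w')) * e⁻¹ := by rw [he', hconjt Y v hn w' (hYc w' hw')]
      _ = t * (w * (v * w')) := hconjt e w he _ (hec _ (mul_mem hv hw'))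
      _ = t * v := by
        have hwv : Commute w v := hVcomm w
          ((hVcomm z (Commute.refl z) hzb w hw).symm) ((hVcomm b hzb.symm (Commute.refl b) w hw).symm) v hv
        rw [← mul_assoc w, hwv.eq, mul_assoc v, hww, mul_one]
  obtain ⟨τ₁, hτ₁, hτ₁t⟩ := getτ X₁ hX₁A z (subset_closure (Or.inl rfl)) (F.tS _ hX₁S hX₁R)
  obtain ⟨τ₂, hτ₂, hτ₂t⟩ := getτ X₂ hX₂A b (subset_closure (Or.inr rfl)) hX₂t
  obtain ⟨e, -, he⟩ := dih_conj_into (le_top : S ≤ ⊤) F.hS2 (by rw [Subgroup.relIndex_top_right]; exact F.hSi)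
    (le_top : T₀ ≤ ⊤) hT₀2
  have final : ∀ τ ∈ T₀, ∀ u, τ * t * τ⁻¹ = t * u → u * u = 1 → Commute t u → u ≠ 1 → e * u * e⁻¹ = z := by
    intro τ hτ u hu hu2 htu hu1
    have hmem := F.comm_S (he τ hτ) (he t htT)
    rw [show e * τ * e⁻¹ * (e * t * e⁻¹) * (e * τ * e⁻¹)⁻¹ * (e * t * e⁻¹)⁻¹
      = e * (τ * t * τ⁻¹ * t⁻¹) * e⁻¹ by group, hu, htu.eq, mul_inv_cancel_right] at hmem
    obtain ⟨i, hi⟩ := mem_zpowers_iff.1 hmem
    have h2 : y ^ i * y ^ i = 1 := by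
      rw [hi]
      calc e * u * e⁻¹ * (e * u * e⁻¹) = e * (u * u) * e⁻¹ := by group
        _ = 1 := by rw [hu2]; group
    rcases F.y_sq h2 with h | h
    · rw [hi, mul_inv_eq_one, mul_eq_left] at h
      exact absurd h hu1
    · rw [← hi, h]
  have e1 := (final τ₂ hτ₂ b hτ₂t hb2 htb hb1).trans (final τ₁ hτ₁ z hτ₁t F.z_sq htz F.z_ne).symm
  exact hbz (mul_left_cancel (mul_right_cancel e1))

end CfsgLib.TwoTimesPSL.DihCtx
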