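import Cfsg.Agent.TwoTimesPSL.DihFrame
import Cfsg.Agent.SmallSimple.Basic

/-!
Counting the involutions of `L`, and the parity of the class of `t`.
-/

set_option autoImplicit false
set_option linter.style.haveILetI false

namespace CfsgLib.TwoTimesPSL

open Subgroup

variable {G : Type*} [Group G]

namespace DihFrame

variable {t : G} {L R P : Subgroup G} {m : ℕ} {y a z : G} {q : ℕ} (F : DihFrame t L R P m y a z q)
include F

/-- An involution of `L` outside `P` is centralised by no subgroup of index at most two of `P`. -/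
theorem no_large_stab [Finite G] {u : G} (huL : u ∈ L) (huP : u ∉ P) (hu2 : u * u = 1) (M : Subgroup P)
    (hM : M.index ∣ 2) (hc : ∀ p ∈ M, Commute (p : G) u) : False := by
  haveI : Fact (Nat.Prime 2) := ⟨Nat.prime_two⟩
  have hsq : ∀ N : Subgroup P, N.index ∣ 2 → ∀ p : P, p ^ 2 ∈ N := fun N hN p => by
    rcases (Nat.dvd_prime Nat.prime_two).1 hN with h | h
    · exact (Subgroup.index_eq_one.1 h) ▸ Subgroup.mem_top _
    · exact Subgroup.sq_mem_of_index_two h p
  set Q := M.map P.subtype ⊔ zpowers u with hQ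
  have hMC : M.map P.subtype ≤ centralizer ({u} : Set G) := by
    rintro - ⟨p, hp, rfl⟩
    exact mem_centralizer_singleton_iff.2 (hc p hp)
  have hQ2 : IsPGroup 2 Q := by
    refine IsPGroup.to_sup_of_normal_right' ((F.hR2.to_le F.PR).to_le ?_) (dih_isPGroup_zpowers hu2) fun g hg => ?_
    · rintro - ⟨p, -, rfl⟩
      exact p.2
    · have hgc : Commute g u := mem_centralizer_singleton_iff.1 (hMC hg)
      refine mem_normalizer_iff.2 fun h => ⟨fun hh => ?_, fun hh => ?_⟩
      · obtain ⟨i, rfl⟩ := mem_zpowers_iff.1 hh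
        rw [(hgc.zpow_right i).eq, mul_inv_cancel_right]
        exact zpow_mem (mem_zpowers u) i
      · obtain ⟨i, hi⟩ := mem_zpowers_iff.1 hh
        have : h = u ^ i := by
          have e : h = g⁻¹ * u ^ i * g := by rw [hi]; group
          rw [e, mul_assoc, ← (hgc.zpow_right i).eq, inv_mul_cancel_left]
        exact this ▸ zpow_mem (mem_zpowers u) i
  have hQL : ∀ x ∈ Q, x ∈ L := fun x hx => (sup_le (by rintro - ⟨p, -, rfl⟩; exact F.PL p.2)
    (zpowers_le.2 huL) : Q ≤ L) hx
  obtain ⟨c, hcC, hcR⟩ := dih_conj_into F.hR F.hR2 F.hRodd (fun x hx => F.hL (hQL x hx)) hQ2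
  have hcP : ∀ x ∈ Q, c * x * c⁻¹ ∈ P := fun x hx => by
    rw [F.hP]
    exact ⟨hcR x hx, (mem_normalizer_iff.1 (F.hLn hcC) x).1 (hQL x hx)⟩
  set u' : P := ⟨c * u * c⁻¹, hcP u (mem_sup_right (mem_zpowers u))⟩ with hu'
  let ψ : M →* P :=
    MonoidHom.mk' (fun p => ⟨c * (p : P) * c⁻¹, hcP _ (mem_sup_left ⟨(p : P), p.2, rfl⟩)⟩) fun p r =>
      Subtype.ext (by simp only [Subgroup.coe_mul]; group)
  have hψ : Function.Injective ψ := fun p r e => Subtype.ext (Subtype.ext
    (mul_left_cancel (mul_right_cancel (congrArg (fun w : P => (w : G)) e))))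
  have hM' : ψ.range.index ∣ 2 := by
    have h1 := M.card_mul_index
    have h2 := ψ.range.card_mul_index
    rw [← Nat.card_congr (MonoidHom.ofInjective hψ).toEquiv, ← h1] at h2
    exact (mul_left_cancel₀ Nat.card_pos.ne' h2) ▸ hM
  have hnot : u' ∉ ψ.range := by
    rintro ⟨p, hp⟩
    have h1 : c * (p : P) * c⁻¹ = c * u * c⁻¹ := congrArg Subtype.val hp
    exact huP (mul_left_cancel (mul_right_cancel h1) ▸ (p : P).2)
  have hcomm : ∀ w ∈ ψ.range, Commute u' w := by
    rintro - ⟨p, rfl⟩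
    refine Subtype.ext ?_
    show c * u * c⁻¹ * (c * (p : P) * c⁻¹) = c * (p : P) * c⁻¹ * (c * u * c⁻¹)
    have := (hc _ p.2).eq
    calc c * u * c⁻¹ * (c * (p : P) * c⁻¹) = c * (u * (p : P)) * c⁻¹ := by group
      _ = c * ((p : P) * u) * c⁻¹ := by rw [this]
      _ = _ := by group
  have hidx : ψ.range.index = 2 := ((Nat.dvd_prime Nat.prime_two).1 hM').resolve_left fun h =>
    hnot ((Subgroup.index_eq_one.1 h) ▸ Subgroup.mem_top _)
  have hcent : Commute u' ⟨y, F.hy⟩ := by
    by_cases hy : (⟨y, F.hy⟩ : P) ∈ ψ.range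
    · exact hcomm _ hy
    · have h1 := hcomm _ ((Subgroup.mul_mem_iff_of_index_two hidx).2 (iff_of_false hy hnot))
      have h2 := h1.mul_right (Commute.refl u').inv_right
      rwa [mul_inv_cancel_right] at h2
  have hu'2 : c * u * c⁻¹ * (c * u * c⁻¹) = 1 := by
    calc c * u * c⁻¹ * (c * u * c⁻¹) = c * (u * u) * c⁻¹ := by group
      _ = 1 := by rw [hu2]; group
  have hu'z : (u' : G) = z := by
    rcases F.centR (F.PR u'.2) hu'2 (congrArg Subtype.val hcent.eq) with h | h | h | h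
    · exact absurd ((mul_inv_eq_one.1 (h : c * u * c⁻¹ = 1)) |> mul_eq_left.1) (fun h1 => huP (h1 ▸ P.one_mem))
    · exact h
    · exact absurd (h ▸ u'.2) F.tP
    · refine absurd ?_ F.tP
      have := P.mul_mem (h ▸ u'.2) F.z_mem
      rwa [mul_assoc, F.z_sq, mul_one] at this
  have hz' : (⟨z, F.z_mem⟩ : P) ∈ ψ.range := by
    have := hsq _ hM' ((⟨y, F.hy⟩ : P) ^ q)
    convert this using 1
    refine Subtype.ext ?_
    simp only [SubmonoidClass.coe_pow]
    rw [← pow_mul, F.hz, ← zpow_natCast]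
    push_cast
    ring_nf
  exact hnot (by rwa [show u' = ⟨z, F.z_mem⟩ from Subtype.ext hu'z])

/-- The number of involutions of `L` outside `P` is divisible by four. -/
theorem four_dvd_outside [Finite G] : 4 ∣ Nat.card {l : G // l ∈ L ∧ l * l = 1 ∧ l ∉ P} := by
  classical
  haveI : Fact (Nat.Prime 2) := ⟨Nat.prime_two⟩
  let E := {l : G // l ∈ L ∧ l * l = 1 ∧ l ∉ P}
  letI : MulAction P E :=
    { smul := fun p e => ⟨p * e.1 * (p : G)⁻¹, L.mul_mem (L.mul_mem (F.PL p.2) e.2.1) (L.inv_mem (F.PL p.2)), by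
        calc (p : G) * e.1 * (p : G)⁻¹ * ((p : G) * e.1 * (p : G)⁻¹) = p * (e.1 * e.1) * (p : G)⁻¹ := by group
          _ = 1 := by rw [e.2.2.1]; group, fun h => e.2.2.2 (by
        have h1 := P.mul_mem (P.mul_mem (P.inv_mem p.2) h) p.2
        rwa [show (p : G)⁻¹ * (p * e.1 * (p : G)⁻¹) * p = e.1 by group] at h1)⟩
      one_smul := fun e => Subtype.ext (by show ((1 : P) : G) * e.1 * ((1 : P) : G)⁻¹ = e.1; simp)
      mul_smul := fun p r e => Subtype.ext (by
        show ((p * r : P) : G) * e.1 * ((p * r : P) : G)⁻¹ = p * (r * e.1 * (r : G)⁻¹) * (p : G)⁻¹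
        rw [Subgroup.coe_mul]; group) }
  haveI : Fintype (Quotient (MulAction.orbitRel P E)) := Fintype.ofFinite _
  show 4 ∣ Nat.card E
  rw [Nat.card_congr (MulAction.selfEquivSigmaOrbits' P E), Nat.card_sigma]
  refine Finset.dvd_sum fun ω _ => ?_
  obtain ⟨e, rfl⟩ := Quotient.mk_surjective ω
  have he : MulAction.orbitRel.Quotient.orbit (Quotient.mk (MulAction.orbitRel P E) e) = MulAction.orbit P e :=
    MulAction.orbitRel.Quotient.orbit_mk e
  rw [he, Nat.card_coe_set_eq, ← MulAction.index_stabilizer]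
  obtain ⟨n, hn⟩ := (F.hR2.to_le F.PR).index (MulAction.stabilizer P e)
  rw [hn]
  refine (pow_dvd_pow 2 (show 2 ≤ n from ?_))
  by_contra hlt
  refine F.no_large_stab e.2.1 e.2.2.2 e.2.2.1 (MulAction.stabilizer P e) ?_ fun p hp => ?_
  · rw [hn]
    exact pow_one 2 ▸ pow_dvd_pow 2 (show n ≤ 1 by omega)
  · have h1 : (p : G) * e.1 * (p : G)⁻¹ = e.1 := congrArg Subtype.val (MulAction.mem_stabilizer_iff.1 hp)
    exact mul_inv_eq_iff_eq_mul.1 h1

/-- The elements of `P` squaring to one. -/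
theorem card_inv_P [Finite G] : Nat.card {p : G // p ∈ P ∧ p * p = 1} = m + 2 := by
  have hm : 0 < m := by have := F.hm; omega
  let f : Bool ⊕ Fin m → {p : G // p ∈ P ∧ p * p = 1} := Sum.elim
    (fun b => if b then ⟨z, F.z_mem, F.z_sq⟩ else ⟨1, P.one_mem, one_mul 1⟩)
    (fun i => ⟨a * y ^ ((i : ℕ) : ℤ), F.mem_a_zpow _, F.ay_sq _⟩)
  have hf : Function.Bijective f := by
    refine ⟨?_, ?_⟩
    · rintro (b | i) (b' | i') e
      · have e' := congrArg Subtype.val e
        cases b <;> cases b' <;> simp [f, F.z_ne, F.z_ne.symm] at e' ⊢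
      · refine absurd (congrArg Subtype.val e).symm ?_
        cases b
        · simpa [f] using F.ay_not ((i' : ℕ) : ℤ) 0
        · simp only [f, Sum.elim_inl, Sum.elim_inr, if_true]
          rw [F.hz]
          exact F.ay_not _ _
      · refine absurd (congrArg Subtype.val e) ?_
        cases b'
        · simpa [f] using F.ay_not ((i : ℕ) : ℤ) 0
        · simp only [f, Sum.elim_inl, Sum.elim_inr, if_true]
          rw [F.hz]
          exact F.ay_not _ _
      · have h1 := F.zpow_eq.1 (mul_left_cancel (congrArg Subtype.val e))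
        have h2 : ((i : ℕ) : ℤ) - (i' : ℕ) = 0 :=
          Int.eq_zero_of_abs_lt_dvd h1 (by rw [abs_lt]; constructor <;> omega)
        exact congrArg Sum.inr (Fin.ext (by omega))
    · rintro ⟨p, hp, hp2⟩
      obtain ⟨i, rfl | rfl⟩ := F.memP p hp
      · rcases F.y_sq hp2 with h | h
        · exact ⟨Sum.inl false, Subtype.ext (by simp [f, h])⟩
        · exact ⟨Sum.inl true, Subtype.ext (by simp [f, h])⟩
      · have h0 := Int.emod_nonneg i (show (m : ℤ) ≠ 0 by omega)
        have h1 := Int.emod_lt_of_pos i (show (0 : ℤ) < m by omega)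
        refine ⟨Sum.inr ⟨(i % m).toNat, by omega⟩, Subtype.ext ?_⟩
        show a * y ^ (((i % m).toNat : ℕ) : ℤ) = a * y ^ i
        rw [Int.toNat_of_nonneg h0, mul_right_inj, F.zpow_eq]
        exact ⟨-(i / m), by linarith [Int.mul_ediv_add_emod i m]⟩
  rw [← Nat.card_eq_of_bijective f hf, Nat.card_sum]
  simp [add_comm]

/-- The elements of `L` squaring to one number two modulo four. -/
theorem card_inv_L [Finite G] : Nat.card {l : G // l ∈ L ∧ l * l = 1} % 4 = 2 := by
  classical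
  let E1 : {l : {l : G // l ∈ L ∧ l * l = 1} // l.1 ∈ P} ≃ {p : G // p ∈ P ∧ p * p = 1} :=
    { toFun := fun l => ⟨l.1.1, l.2, l.1.2.2⟩
      invFun := fun p => ⟨⟨p.1, F.PL p.2.1, p.2.2⟩, p.2.1⟩ }
  let E2 : {l : {l : G // l ∈ L ∧ l * l = 1} // ¬ l.1 ∈ P} ≃ {l : G // l ∈ L ∧ l * l = 1 ∧ l ∉ P} :=
    { toFun := fun l => ⟨l.1.1, l.1.2.1, l.1.2.2, l.2⟩
      invFun := fun p => ⟨⟨p.1, p.2.1, p.2.2.1⟩, p.2.2.2⟩ }
  rw [← Nat.card_congr (Equiv.sumCompl fun l : {l : G // l ∈ L ∧ l * l = 1} => l.1 ∈ P), Nat.card_sum,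
    Nat.card_congr E1, Nat.card_congr E2, F.card_inv_P, F.hmq]
  obtain ⟨k, hk⟩ := F.four_dvd_outside
  omega

/-- The class of `t` has size two modulo four, if `t` is fused with `tz` but not with `z`. -/
theorem index_mod_four [Finite G] [IsSimpleGroup G] (hG : ¬ IsMulCommutative G) (h1 : IsConj t (t * z))
    (h2 : ¬ IsConj t z) : (centralizer ({t} : Set G)).index % 4 = 2 := by
  classical
  haveI : Fact (Nat.Prime 2) := ⟨Nat.prime_two⟩
  let X := {u : G // IsConj t u}
  letI : MulAction G X :=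
    { smul := fun g u => ⟨g * u.1 * g⁻¹, u.2.trans (isConj_iff.2 ⟨g, rfl⟩)⟩
      one_smul := fun u => Subtype.ext (by show (1 : G) * u.1 * 1⁻¹ = u.1; simp)
      mul_smul := fun g h u => Subtype.ext (by
        show g * h * u.1 * (g * h)⁻¹ = g * (h * u.1 * h⁻¹) * g⁻¹
        group) }
  haveI : Fintype X := Fintype.ofFinite X
  let x₀ : X := ⟨t, IsConj.refl t⟩
  have hstab : MulAction.stabilizer G x₀ = centralizer ({t} : Set G) := by
    ext g
    rw [MulAction.mem_stabilizer_iff, mem_centralizer_singleton_iff, Subtype.ext_iff]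
    exact mul_inv_eq_iff_eq_mul
  have horb : MulAction.orbit G x₀ = Set.univ := by
    refine Set.eq_univ_of_forall fun u => ?_
    obtain ⟨g, hg⟩ := isConj_iff.1 u.2
    exact ⟨g, Subtype.ext hg⟩
  rw [← hstab, MulAction.index_stabilizer, horb, Set.ncard_univ, Nat.card_eq_fintype_card]
  set σ : Equiv.Perm X := MulAction.toPermHom G X t with hσ
  have hσ2 : σ ^ 2 = 1 := by rw [hσ, ← map_pow, sq, F.tt, map_one]
  have hs := CfsgLib.SmallSimple.sign_eq_one hG (MulAction.toPermHom G X) t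
  rw [← hσ, Equiv.Perm.sign_of_pow_two_eq_one hσ2] at hs
  have hfix : Fintype.card (Function.fixedPoints σ) = Nat.card {l : G // l ∈ L ∧ l * l = 1} := by
    rw [← Nat.card_eq_fintype_card]
    have hin : ∀ v : X, Commute t v.1 → t * v.1 ∈ L ∧ t * v.1 * (t * v.1) = 1 := by
      intro v hv
      obtain ⟨g, hg⟩ := isConj_iff.1 v.2
      have hv2 : v.1 * v.1 = 1 := by
        rw [← hg]
        calc g * t * g⁻¹ * (g * t * g⁻¹) = g * (t * t) * g⁻¹ := by group
          _ = 1 := by rw [F.tt]; group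
      have hv1 : v.1 ≠ 1 := fun e => F.t_ne (by
        rw [e] at hg
        exact mul_eq_left.1 (mul_inv_eq_one.1 hg))
      refine ⟨(F.mem_L_or (mem_centralizer_singleton_iff.2 hv.symm) (dih_isPGroup_zpowers hv2)).resolve_left
        fun hL => h2 (v.2.trans (F.isConj_z hL hv2 hv1)), ?_⟩
      rw [F.t_mul_sq (mem_centralizer_singleton_iff.2 hv.symm), hv2]
    refine Nat.card_congr
      { toFun := fun v => ⟨t * v.1.1, hin v.1 (mul_inv_eq_iff_eq_mul.1 (congrArg Subtype.val v.2))⟩
        invFun := fun l => ⟨⟨t * l.1, ?_⟩, ?_⟩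
        left_inv := fun v => Subtype.ext (Subtype.ext (by
          show t * (t * v.1.1) = v.1.1
          rw [← mul_assoc, F.tt, one_mul]))
        right_inv := fun l => Subtype.ext (by
          show t * (t * l.1) = l.1
          rw [← mul_assoc, F.tt, one_mul]) }
    · by_cases hl : l.1 = 1
      · rw [hl, mul_one]
      · have hlC := F.hL l.2.1
        rcases F.isConj_tz (mul_mem F.tC hlC) (by rw [← mul_assoc, F.tt, one_mul]; exact l.2.1)
          (by rw [F.t_mul_sq hlC, l.2.2]) with e | e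
        · exact absurd (mul_eq_left.1 e) hl
        · exact h1.trans e.symm
    · refine Subtype.ext ?_
      show t * (t * l.1) * t⁻¹ = t * l.1
      rw [(F.tcomm (F.hL l.2.1)).eq, ← mul_assoc, mul_inv_cancel_right, (F.tcomm (F.hL l.2.1)).eq]
  have hpar := Equiv.Perm.card_compl_support_modEq (p := 2) (n := 1) (σ := σ) (by rwa [pow_one])
  have hsupp : σ.supportᶜ.card = Fintype.card (Function.fixedPoints σ) := by
    rw [← Fintype.card_coe]
    exact Fintype.card_congr (Equiv.subtypeEquivRight fun v => by simp [Function.IsFixedPt])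
  rw [hsupp, hfix] at hpar
  rw [hfix] at hs
  have hle : Nat.card {l : G // l ∈ L ∧ l * l = 1} ≤ Fintype.card X :=
    hfix ▸ Fintype.card_subtype_le _
  have hev : Even ((Fintype.card X - Nat.card {l : G // l ∈ L ∧ l * l = 1}) / 2) := by
    by_contra hodd
    rw [(Nat.not_even_iff_odd.1 hodd).neg_one_pow] at hs
    exact absurd hs (by decide)
  obtain ⟨k, hk⟩ := hev
  have := F.card_inv_L
  unfold Nat.ModEq at hpar
  omega

end DihFrame

end CfsgLib.TwoTimesPSL
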