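import Cfsg.Agent.TwoTimesPSL.DihCount
import Cfsg.Agent.SmallSimple.SixThousand.Tools

/-!
A Sylow 2-subgroup containing the centraliser Sylow group: index two, centre `⟨z⟩`, `t` fused with `tz` only.
-/

set_option autoImplicit false
set_option linter.style.haveILetI false

namespace CfsgLib.TwoTimesPSL

open Subgroup

variable {G : Type*} [Group G]

/-- The frame with a Sylow 2-subgroup `S` above `R`. -/
structure DihCtx (t : G) (L R P : Subgroup G) (m : ℕ) (y a z : G) (q : ℕ) (S : Subgroup G) : Prop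
    extends DihFrame t L R P m y a z q where
  hS2 : IsPGroup 2 S
  hSi : Odd S.index
  RS : R ≤ S
  inter : ∀ s ∈ S, s ∈ centralizer ({t} : Set G) → s ∈ R
  zS : ∀ s ∈ S, Commute s z
  ntz : ¬ IsConj t z
  tS : ∀ s ∈ S, s ∉ R → s * t * s⁻¹ = t * z
  normP : ∀ s ∈ S, ∀ p ∈ P, s * p * s⁻¹ ∈ P
  idx : R.relIndex S = 2

namespace DihFrame

variable {t : G} {L R P : Subgroup G} {m : ℕ} {y a z : G} {q : ℕ} (F : DihFrame t L R P m y a z q)
include F

/-- The central involution `z` is the only square of order two in `R`. -/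
theorem fix_z {n : G} (hn : n ∈ normalizer (R : Set G)) : n * z * n⁻¹ = z := by
  have hr : n * y ^ (q : ℤ) * n⁻¹ ∈ R := (mem_normalizer_iff.1 hn _).1 (F.PR (F.mem_zpow _))
  obtain ⟨k, hk⟩ := F.sqR hr
  have h1 : n * z * n⁻¹ = y ^ (2 * k) := by
    rw [← hk, F.hz, show (2 : ℤ) * q = q + q by ring, zpow_add]
    group
  have h2 : y ^ (2 * k) * y ^ (2 * k) = 1 := by
    rw [← h1]
    calc n * z * n⁻¹ * (n * z * n⁻¹) = n * (z * z) * n⁻¹ := by group
      _ = 1 := by rw [F.z_sq]; group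
  rcases F.y_sq h2 with e | e
  · rw [← h1, mul_inv_eq_one, mul_eq_left] at e
    exact absurd e F.z_ne
  · rw [h1, e]

theorem t_ne_z : t ≠ z := fun e => F.tP (e ▸ F.z_mem)

/-- The normaliser of `R` moves `t` at most to `tz`. -/
theorem move_t {n : G} (hn : n ∈ normalizer (R : Set G)) : n * t * n⁻¹ = t ∨ n * t * n⁻¹ = t * z := by
  have hr : n * t * n⁻¹ ∈ R := (mem_normalizer_iff.1 hn _).1 F.tR
  have hy : n⁻¹ * y * n ∈ R := (mem_normalizer_iff''.1 hn _).1 (F.PR F.hy)
  have hc : Commute (n * t * n⁻¹) y := by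
    have h := (F.tcomm (F.hR hy)).eq
    calc n * t * n⁻¹ * y = n * (t * (n⁻¹ * y * n)) * n⁻¹ := by group
      _ = n * (n⁻¹ * y * n * t) * n⁻¹ := by rw [h]
      _ = y * (n * t * n⁻¹) := by group
  have h2 : n * t * n⁻¹ * (n * t * n⁻¹) = 1 := by
    calc n * t * n⁻¹ * (n * t * n⁻¹) = n * (t * t) * n⁻¹ := by group
      _ = 1 := by rw [F.tt]; group
  rcases F.centR hr h2 hc with h | h | h | h
  · rw [mul_inv_eq_one, mul_eq_left] at h
    exact absurd h F.t_ne
  · rw [← F.fix_z hn] at h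
    exact absurd (mul_left_cancel (mul_right_cancel h)) F.t_ne_z
  · exact Or.inl h
  · exact Or.inr h

/-- `R` is not a Sylow subgroup. -/
theorem not_sylow [Finite G] [IsSimpleGroup G] (hG : ¬ IsMulCommutative G) : ¬ Odd R.index := by
  haveI : Fact (Nat.Prime 2) := ⟨Nat.prime_two⟩
  intro hodd
  set T : Sylow 2 G := F.hR2.toSylow (fun h2 => (Nat.not_even_iff_odd.2 hodd) (even_iff_two_dvd.2 h2)) with hT
  have hTR : (T : Subgroup G) = R := rfl
  have hcen : ∀ u, (∀ r ∈ R, Commute u r) → u ∈ centralizer ((T : Subgroup G) : Set G) := fun u hu =>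
    mem_centralizer_iff.2 fun r hr => (hu r (hTR ▸ hr)).symm.eq
  have hfus : ∀ v, (∀ r ∈ R, Commute v r) → IsConj t v → ∃ n ∈ normalizer (R : Set G), n⁻¹ * t * n = v := by
    intro v hv hc
    obtain ⟨g, hg⟩ := isConj_iff.1 hc
    have hg' : g⁻¹⁻¹ * t * g⁻¹ = v := by rwa [inv_inv]
    obtain ⟨n, hn, he⟩ := T.conj_eq_normalizer_conj_of_mem_centralizer t g⁻¹
      (hcen t fun r hr => F.tcomm (F.hR hr)) (hcen _ (hg'.symm ▸ hv))
    exact ⟨n, hTR ▸ hn, he.symm.trans hg'⟩
  have hz : ¬ IsConj t z := fun hc => by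
    obtain ⟨n, hn, he⟩ := hfus z (fun r hr => F.z_comm_R hr) hc
    refine F.t_ne_z ?_
    rw [← F.fix_z hn, ← he]
    group
  have htz : ¬ IsConj t (t * z) := fun hc => by
    obtain ⟨n, hn, he⟩ := hfus (t * z) (fun r hr => (F.tcomm (F.hR hr)).mul_left (F.z_comm_R hr)) hc
    have hfz := F.fix_z hn
    have h1 : n * t * n⁻¹ = t * z := by
      have e : t = n * t * n⁻¹ * z := by
        calc t = n * (t * z) * n⁻¹ := by rw [← he]; group
          _ = n * t * n⁻¹ * (n * z * n⁻¹) := by group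
          _ = _ := by rw [hfz]
      calc n * t * n⁻¹ = n * t * n⁻¹ * z * z := by rw [mul_assoc _ z z, F.z_sq, mul_one]
        _ = t * z := by rw [← e]
    obtain ⟨k, o, ho, heq⟩ := Nat.exists_eq_two_pow_mul_odd (orderOf_pos n).ne'
    have hw2 : IsPGroup 2 (zpowers (n ^ o)) := by
      refine IsPGroup.of_card (n := k) ?_
      rw [Nat.card_zpowers, orderOf_pow' _ (by rcases ho with ⟨c, rfl⟩; omega), heq,
        Nat.gcd_mul_left_left, Nat.mul_div_cancel _ (by rcases ho with ⟨c, rfl⟩; omega)]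
    have hw : n ^ o ∈ R := by
      have h := IsPGroup.inf_normalizer_sylow hw2 T
      have hmem : n ^ o ∈ zpowers (n ^ o) ⊓ normalizer ((T : Subgroup G) : Set G) :=
        ⟨mem_zpowers _, pow_mem (hTR.symm ▸ hn) o⟩
      exact hTR ▸ (h ▸ hmem).2
    have hfix : ∀ j : ℕ, n ^ (2 * j) * t * (n ^ (2 * j))⁻¹ = t := by
      intro j
      induction j with
      | zero => simp
      | succ j ih =>
        calc n ^ (2 * (j + 1)) * t * (n ^ (2 * (j + 1)))⁻¹
            = n * (n * (n ^ (2 * j) * t * (n ^ (2 * j))⁻¹) * n⁻¹) * n⁻¹ := by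
              rw [show 2 * (j + 1) = 1 + (1 + 2 * j) by omega, pow_add, pow_add, pow_one]; group
          _ = n * (t * z) * n⁻¹ := by rw [ih, h1]
          _ = n * t * n⁻¹ * (n * z * n⁻¹) := by group
          _ = t := by rw [h1, hfz, mul_assoc, F.z_sq, mul_one]
    obtain ⟨j, rfl⟩ := ho
    have hc1 : n ^ (2 * j + 1) * t * (n ^ (2 * j + 1))⁻¹ = t := by
      rw [mul_inv_eq_iff_eq_mul]
      exact (F.tcomm (F.hR hw)).eq.symm
    have hc2 : n ^ (2 * j + 1) * t * (n ^ (2 * j + 1))⁻¹ = t * z := by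
      calc n ^ (2 * j + 1) * t * (n ^ (2 * j + 1))⁻¹
          = n * (n ^ (2 * j) * t * (n ^ (2 * j))⁻¹) * n⁻¹ := by rw [pow_succ']; group
        _ = _ := by rw [hfix, h1]
    exact F.z_ne (mul_eq_left.1 (hc2.symm.trans hc1))
  refine CfsgLib.SixThousand.false_of_isolated hG T F.ht fun g hg => ?_
  have hg' : g * t * g⁻¹ ∈ R := hTR ▸ hg
  have h2 : g * t * g⁻¹ * (g * t * g⁻¹) = 1 := by
    calc g * t * g⁻¹ * (g * t * g⁻¹) = g * (t * t) * g⁻¹ := by group
      _ = 1 := by rw [F.tt]; group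
  have h1 : g * t * g⁻¹ ≠ 1 := by
    rw [Ne, mul_inv_eq_one, mul_eq_left]
    exact F.t_ne
  have hc : IsConj t (g * t * g⁻¹) := isConj_iff.2 ⟨g, rfl⟩
  rcases F.memR hg' with h | h
  · exact absurd (hc.trans (F.isConj_z (F.PL h) h2 h1)) hz
  · exact (F.isConj_tz (F.hR hg') (F.PL h) h2).resolve_right fun e => htz (hc.trans e)

/-- The Sylow context exists. -/
theorem exists_ctx [Finite G] [IsSimpleGroup G] (hG : ¬ IsMulCommutative G) :
    ∃ S : Subgroup G, DihCtx t L R P m y a z q S := by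
  haveI : Fact (Nat.Prime 2) := ⟨Nat.prime_two⟩
  obtain ⟨T, hT⟩ := F.hR2.exists_le_sylow
  set S : Subgroup G := (T : Subgroup G) with hS
  have hSi : Odd S.index := Nat.not_even_iff_odd.1 fun he => T.not_dvd_index (even_iff_two_dvd.1 he)
  have hne : R ≠ S := fun e => F.not_sylow hG (e ▸ hSi)
  have hinter : ∀ s ∈ S, s ∈ centralizer ({t} : Set G) → s ∈ R := fun s hs hsC =>
    dih_eq_of_odd (le_inf hT F.hR) inf_le_right (T.isPGroup'.to_le inf_le_left) F.hRodd ⟨hs, hsC⟩
  -- an element of `S` normalising `R`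
  have hnil : Group.IsNilpotent S := T.isPGroup'.isNilpotent
  obtain ⟨⟨x, hxS⟩, hxN, hxR⟩ := SetLike.exists_of_lt
    (Group.normalizerCondition_of_isNilpotent (G := S) (R.subgroupOf S)
      (lt_top_iff_ne_top.2 fun e => hne (le_antisymm hT (Subgroup.subgroupOf_eq_top.1 e))))
  rw [mem_subgroupOf] at hxR
  have hxn : x ∈ normalizer (R : Set G) := by
    refine mem_normalizer_iff.2 fun h => ⟨fun hh => ?_, fun hh => ?_⟩
    · exact mem_subgroupOf.1 ((mem_normalizer_iff.1 hxN ⟨h, hT hh⟩).1 (mem_subgroupOf.2 hh))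
    · have hS' : h ∈ S := by
        have := mul_mem (mul_mem (inv_mem hxS) (hT hh)) hxS
        rwa [show x⁻¹ * (x * h * x⁻¹) * x = h by group] at this
      exact mem_subgroupOf.1 ((mem_normalizer_iff.1 hxN ⟨h, hS'⟩).2 (mem_subgroupOf.2 hh))
  have hxz := F.fix_z hxn
  have hxt : x * t * x⁻¹ = t * z := (F.move_t hxn).resolve_left fun e =>
    hxR (hinter x hxS (mem_centralizer_singleton_iff.2 (mul_inv_eq_iff_eq_mul.1 e)))
  have htz : IsConj t (t * z) := isConj_iff.2 ⟨x, hxt⟩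
  -- the centre of `S`
  have hzS : ∀ s ∈ S, Commute s z := by
    haveI : Nontrivial S :=
      ⟨⟨⟨t, hT F.tR⟩, 1, fun e => F.t_ne (congrArg Subtype.val e)⟩⟩
    haveI := T.isPGroup'.center_nontrivial
    obtain ⟨k, hk⟩ := IsPGroup.iff_card.1 (T.isPGroup'.to_subgroup (Subgroup.center S))
    have h2 : 2 ∣ Nat.card (Subgroup.center S) := by
      rcases k with - | k
      · have := Finite.one_lt_card (α := Subgroup.center S)
        rw [hk] at this; simp at this
      · exact hk ▸ dvd_pow_self 2 k.succ_ne_zero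
    obtain ⟨w, hw⟩ := exists_prime_orderOf_dvd_card' 2 h2
    have hwc : ∀ s ∈ S, Commute s ((w : S) : G) := fun s hs =>
      congrArg Subtype.val (Subgroup.mem_center_iff.1 w.2 ⟨s, hs⟩)
    have hwR : ((w : S) : G) ∈ R :=
      hinter _ (w : S).2 (mem_centralizer_singleton_iff.2 (hwc t (hT F.tR)).eq.symm)
    have ho : orderOf ((w : S) : G) = 2 := by rw [Subgroup.orderOf_coe, Subgroup.orderOf_coe, hw]
    rcases F.centR hwR (by rw [← sq, ← ho, pow_orderOf_eq_one]) (hwc y (hT (F.PR F.hy))).symm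
      with h | h | h | h
    · rw [h, orderOf_one] at ho; omega
    · exact fun s hs => h ▸ hwc s hs
    · have := (hwc x hxS).eq
      rw [h] at this
      rw [this, mul_inv_cancel_right] at hxt
      exact absurd (mul_eq_left.1 hxt.symm) F.z_ne
    · have := (hwc x hxS).eq
      rw [h] at this
      have e : x * (t * z) * x⁻¹ = t * z := by rw [this, mul_inv_cancel_right]
      rw [show x * (t * z) * x⁻¹ = x * t * x⁻¹ * (x * z * x⁻¹) by group, hxt, hxz, mul_eq_left] at e
      exact absurd e F.z_ne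
  -- `t` and `z` are not conjugate
  have hntz : ¬ IsConj t z := by
    intro hc
    obtain ⟨k, hk⟩ := isConj_iff.1 hc
    have hle : S.map (MulAut.conj k⁻¹).toMonoidHom ≤ centralizer ({t} : Set G) := by
      rintro - ⟨s, hs, rfl⟩
      rw [mem_centralizer_singleton_iff, MulEquiv.coe_toMonoidHom, MulAut.conj_apply, inv_inv]
      have h := (hzS s hs).eq
      rw [← hk] at h
      calc k⁻¹ * s * k * t = k⁻¹ * (s * (k * t * k⁻¹)) * k := by group
        _ = k⁻¹ * (k * t * k⁻¹ * s) * k := by rw [h]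
        _ = t * (k⁻¹ * s * k) := by group
    obtain ⟨c, -, hc'⟩ := dih_conj_into F.hR F.hR2 F.hRodd hle (T.isPGroup'.map _)
    have hcard : Nat.card S ≤ Nat.card R := Nat.card_le_card_of_injective
      (fun s : S => (⟨_, hc' _ ⟨(s : G), s.2, rfl⟩⟩ : R)) fun s r e =>
        Subtype.ext ((MulAut.conj k⁻¹).injective (mul_left_cancel (mul_right_cancel (congrArg Subtype.val e))))
    exact hne (Subgroup.eq_of_le_of_card_ge hT hcard)
  -- index two
  have hidx : R.relIndex S = 2 := by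
    have h4 := F.index_mod_four hG htz hntz
    have hmul : R.relIndex S * S.index = R.index := Subgroup.relIndex_mul_index hT
    have hmul2 : R.relIndex (centralizer ({t} : Set G)) * (centralizer ({t} : Set G)).index = R.index :=
      Subgroup.relIndex_mul_index F.hR
    obtain ⟨n, hn⟩ := T.isPGroup'.index (R.subgroupOf S)
    rw [show R.relIndex S = 2 ^ n from hn] at hmul ⊢
    have hev : R.index % 4 = 2 := by
      rw [← hmul2, Nat.mul_mod, h4]
      have := Nat.odd_iff.1 F.hRodd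
      omega
    rcases n with - | _ | n
    · rw [pow_zero, one_mul] at hmul
      have := Nat.odd_iff.1 hSi
      omega
    · rfl
    · rw [show 2 ^ (n + 1 + 1) = 4 * 2 ^ n by ring, mul_assoc] at hmul
      omega
  have hnorm : ∀ s ∈ S, s ∈ normalizer (R : Set G) := by
    intro s hs
    haveI := Subgroup.normal_of_index_eq_two (H := R.subgroupOf S) hidx
    refine mem_normalizer_iff.2 fun h => ⟨fun hh => ?_, fun hh => ?_⟩
    · exact mem_subgroupOf.1 (Subgroup.Normal.conj_mem ‹_› ⟨h, hT hh⟩ (mem_subgroupOf.2 hh) ⟨s, hs⟩)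
    · have := mem_subgroupOf.1 (Subgroup.Normal.conj_mem ‹_› ⟨_, hT hh⟩ (mem_subgroupOf.2 hh) ⟨s⁻¹, inv_mem hs⟩)
      simp only [Subgroup.coe_mul, InvMemClass.coe_inv] at this
      rwa [show s⁻¹ * (s * h * s⁻¹) * s⁻¹⁻¹ = h by group] at this
  refine ⟨S, { F with
    hS2 := T.isPGroup', hSi := hSi, RS := hT, inter := hinter, zS := hzS, ntz := hntz,
    tS := fun s hs hsR => (F.move_t (hnorm s hs)).resolve_left fun e =>
      hsR (hinter s hs (mem_centralizer_singleton_iff.2 (mul_inv_eq_iff_eq_mul.1 e))),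
    normP := ?_, idx := hidx }⟩
  intro s hs
  have hinv : ∀ u ∈ P, u * u = 1 → u ≠ 1 → s * u * s⁻¹ ∈ P := by
    intro u hu hu2 hu1
    have hr := (mem_normalizer_iff.1 (hnorm s hs) u).1 (F.PR hu)
    have h2 : s * u * s⁻¹ * (s * u * s⁻¹) = 1 := by
      calc s * u * s⁻¹ * (s * u * s⁻¹) = s * (u * u) * s⁻¹ := by group
        _ = 1 := by rw [hu2]; group
    refine (F.memR hr).resolve_right fun h => hntz ?_
    have h3 : IsConj (s * u * s⁻¹) z := ((isConj_iff.2 ⟨s, rfl⟩ : IsConj u (s * u * s⁻¹)).symm).trans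
      (F.isConj_z (F.PL hu) hu2 hu1)
    rcases F.isConj_tz (F.hR hr) (F.PL h) h2 with e | e
    · exact e ▸ h3
    · exact htz.trans (e.symm.trans h3)
  have ha' : s * a * s⁻¹ ∈ P := hinv a F.ha F.aa fun e => F.anot 0 (by rw [e, zpow_zero])
  have hy' : s * y * s⁻¹ ∈ P := by
    have h := hinv (a * y ^ (1 : ℤ)) (F.mem_a_zpow 1) (F.ay_sq 1) (fun e => F.ay_not 1 0 (by rw [e, zpow_zero]))
    have := P.mul_mem (P.inv_mem ha') h
    rwa [show (s * a * s⁻¹)⁻¹ * (s * (a * y ^ (1 : ℤ)) * s⁻¹) = s * y * s⁻¹ by group] at this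
  intro p hp
  obtain ⟨i, rfl | rfl⟩ := F.memP p hp
  · rw [← conj_zpow]
    exact P.zpow_mem hy' i
  · rw [show s * (a * y ^ i) * s⁻¹ = (s * a * s⁻¹) * (s * y ^ i * s⁻¹) by group, ← conj_zpow]
    exact P.mul_mem ha' (P.zpow_mem hy' i)

end DihFrame

end CfsgLib.TwoTimesPSL
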