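import Cfsg.Agent.TwoTimesPSL.Setting
import Mathlib

/-!
Generators for the dihedral part of a centraliser Sylow group `⟨t⟩ × P` and the fusion inside the centraliser.
-/

set_option autoImplicit false
set_option linter.style.haveILetI false

namespace CfsgLib.TwoTimesPSL

open Subgroup

variable {G : Type*} [Group G]

/-- A 2-subgroup is conjugate into a 2-subgroup of odd relative index. -/
theorem dih_conj_into [Finite G] {H R Q : Subgroup G} (hRH : R ≤ H) (hR : IsPGroup 2 R)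
    (hodd : Odd (R.relIndex H)) (hQH : Q ≤ H) (hQ : IsPGroup 2 Q) :
    ∃ c ∈ H, ∀ q ∈ Q, c * q * c⁻¹ ∈ R := by
  haveI : Fact (Nat.Prime 2) := ⟨Nat.prime_two⟩
  have hR' : IsPGroup 2 (R.subgroupOf H) := hR.comap_of_injective H.subtype H.subtype_injective
  have hQ' : IsPGroup 2 (Q.subgroupOf H) := hQ.comap_of_injective H.subtype H.subtype_injective
  set T : Sylow 2 H := hR'.toSylow (fun h2 => (Nat.not_even_iff_odd.2 hodd) (even_iff_two_dvd.2 h2)) with hT
  obtain ⟨W, hW⟩ := hQ'.exists_le_sylow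
  obtain ⟨c, hc⟩ := MulAction.exists_smul_eq H W T
  refine ⟨c, c.2, fun q hq => ?_⟩
  have h1 : (MulAut.conj c) ⟨q, hQH hq⟩ ∈ ((c • W : Sylow 2 H) : Subgroup H) :=
    Subgroup.smul_mem_pointwise_smul _ (MulAut.conj c) _ (hW (mem_subgroupOf.2 hq))
  rw [hc] at h1
  exact mem_subgroupOf.1 (show (MulAut.conj c) ⟨q, hQH hq⟩ ∈ R.subgroupOf H from h1)

/-- A 2-subgroup of odd relative index is maximal. -/
theorem dih_eq_of_odd [Finite G] {H R Q : Subgroup G} (hRQ : R ≤ Q) (hQH : Q ≤ H) (hQ : IsPGroup 2 Q)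
    (hodd : Odd (R.relIndex H)) : Q ≤ R := by
  haveI : Fact (Nat.Prime 2) := ⟨Nat.prime_two⟩
  obtain ⟨n, hn⟩ := hQ.index (R.subgroupOf Q)
  have h1 : (R.relIndex Q) * Q.relIndex H = R.relIndex H := Subgroup.relIndex_mul_relIndex _ _ _ hRQ hQH
  have h2 : Odd (R.relIndex Q) := Nat.Odd.of_mul_left (h1 ▸ hodd)
  rw [show R.relIndex Q = 2 ^ n from hn] at h2
  rcases n with - | n
  · exact Subgroup.relIndex_eq_one.1 (show R.relIndex Q = 1 from hn)
  · exact absurd h2 (Nat.not_odd_iff_even.2 ⟨2 ^ n, by rw [pow_succ]; ring⟩)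

/-- Two 2-subgroups of odd relative index have the same order. -/
theorem dih_card_eq_of_odd [Finite G] {H R Q : Subgroup G} (hRH : R ≤ H) (hQH : Q ≤ H) (hR : IsPGroup 2 R)
    (hQ : IsPGroup 2 Q) (hoR : Odd (R.relIndex H)) (hoQ : Odd (Q.relIndex H)) : Nat.card R = Nat.card Q := by
  have key : ∀ A B : Subgroup G, A ≤ H → B ≤ H → IsPGroup 2 A → IsPGroup 2 B → Odd (A.relIndex H) →
      Nat.card B ≤ Nat.card A := by
    intro A B hA hB hA2 hB2 ho
    obtain ⟨c, -, hc⟩ := dih_conj_into hA hA2 ho hB hB2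
    exact Nat.card_le_card_of_injective (fun q : B => (⟨c * q * c⁻¹, hc q q.2⟩ : A)) fun q r e =>
      Subtype.ext (mul_left_cancel (mul_right_cancel (congrArg Subtype.val e)))
  exact le_antisymm (key Q R hQH hRH hQ hR hoQ) (key R Q hRH hQH hR hQ hoR)

/-- An element squaring to one generates a 2-group. -/
theorem dih_isPGroup_zpowers {u : G} (hu : u * u = 1) : IsPGroup 2 (zpowers u) := by
  rintro ⟨g, hg⟩
  obtain ⟨i, rfl⟩ := mem_zpowers_iff.1 hg
  refine ⟨1, Subtype.ext ?_⟩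
  simp only [pow_one, sq, MulMemClass.mk_mul_mk, OneMemClass.coe_one]
  exact (show u ^ i * u ^ i = 1 by rw [← (Commute.refl u).mul_zpow, hu, one_zpow])

/-- Generators: `P = ⟨y⟩⋊⟨a⟩`, `z` the central involution, `m = 4q`. -/
structure DihFrame (t : G) (L R P : Subgroup G) (m : ℕ) (y a z : G) (q : ℕ) : Prop
    extends DihData t L R P m where
  hmq : m = 4 * q
  hpow : ∃ k : ℕ, m = 2 ^ k
  hy : y ∈ P
  ha : a ∈ P
  oy : orderOf y = m
  aa : a * a = 1
  aya : a * y * a⁻¹ = y⁻¹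
  anot : ∀ i : ℤ, a ≠ y ^ i
  memP : ∀ p ∈ P, ∃ i : ℤ, p = y ^ i ∨ p = a * y ^ i
  hz : z = y ^ (2 * (q : ℤ))

/-- The frame exists. -/
theorem DihData.exists_frame [Finite G] {t : G} {L R P : Subgroup G} {m : ℕ} (h : DihData t L R P m) :
    ∃ (y a z : G) (q : ℕ), DihFrame t L R P m y a z q := by
  haveI : Fact (Nat.Prime 2) := ⟨Nat.prime_two⟩
  haveI : NeZero m := ⟨by have := h.hm; omega⟩
  obtain ⟨e⟩ := h.hiso
  have hP2 : IsPGroup 2 P := h.hR2.to_le (h.hP ▸ inf_le_left)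
  obtain ⟨n, hn⟩ := IsPGroup.iff_card.1 hP2
  rw [Nat.card_congr e.toEquiv, DihedralGroup.nat_card] at hn
  have h3 : 3 ≤ n := by
    by_contra hc
    interval_cases n <;> have := h.hm <;> omega
  obtain ⟨k, rfl⟩ : ∃ k, n = k + 3 := ⟨n - 3, by omega⟩
  have hm : m = 4 * 2 ^ k := by rw [pow_add] at hn; omega
  set y : P := e.symm (DihedralGroup.r 1) with hy
  set a : P := e.symm (DihedralGroup.sr 0) with ha
  refine ⟨y, a, _, 2 ^ k, { h with
    hmq := hm, hpow := ⟨k + 2, by rw [hm, pow_add]; ring⟩, hy := y.2, ha := a.2, oy := ?_, aa := ?_,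
    aya := ?_, anot := ?_, memP := ?_, hz := rfl }⟩
  · rw [Subgroup.orderOf_coe, hy, MulEquiv.orderOf_eq, DihedralGroup.orderOf_r_one]
  · rw [← Subgroup.coe_mul, ha, ← map_mul, DihedralGroup.sr_mul_sr, sub_self, ← DihedralGroup.one_def,
      map_one, Subgroup.coe_one]
  · have : a * y * a⁻¹ = y⁻¹ := by
      rw [ha, hy, ← map_inv, ← map_inv, ← map_mul, ← map_mul]
      simp [DihedralGroup.inv_sr, DihedralGroup.sr_mul_r, DihedralGroup.sr_mul_sr, DihedralGroup.inv_r]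
    exact_mod_cast congrArg Subtype.val this
  · intro i hi
    have : a = y ^ i := Subtype.ext (by rw [Subgroup.coe_zpow]; exact hi)
    rw [ha, hy, ← map_zpow, EmbeddingLike.apply_eq_iff_eq, DihedralGroup.r_zpow] at this
    cases this
  · intro p hp
    rcases hd : e ⟨p, hp⟩ with i | i
    · refine ⟨i.val, Or.inl ?_⟩
      have hp' : (⟨p, hp⟩ : P) = y ^ i.val := by
        rw [hy, ← map_pow, DihedralGroup.r_one_pow, ZMod.natCast_zmod_val, ← hd, MulEquiv.symm_apply_apply]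
      rw [zpow_natCast, ← Subgroup.coe_pow, ← hp']
    · refine ⟨i.val, Or.inr ?_⟩
      have hp' : (⟨p, hp⟩ : P) = a * y ^ i.val := by
        rw [hy, ha, ← map_pow, ← map_mul, DihedralGroup.r_one_pow, DihedralGroup.sr_mul_r,
          ZMod.natCast_zmod_val, zero_add, ← hd, MulEquiv.symm_apply_apply]
      rw [zpow_natCast, ← Subgroup.coe_pow, ← Subgroup.coe_mul, ← hp']

namespace DihFrame

variable {t : G} {L R P : Subgroup G} {m : ℕ} {y a z : G} {q : ℕ} (F : DihFrame t L R P m y a z q)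
include F

theorem q_pos : 0 < q := by have := F.hm; have := F.hmq; omega

theorem tt : t * t = 1 := by rw [← sq, ← F.ht, pow_orderOf_eq_one]

theorem t_ne : t ≠ 1 := fun e => by simpa [e] using F.ht

theorem PR : P ≤ R := by
  rw [F.hP]
  exact inf_le_left

theorem PL : P ≤ L := by
  rw [F.hP]
  exact inf_le_right

theorem tP : t ∉ P := fun h => F.htL (F.PL h)

theorem PC : P ≤ centralizer ({t} : Set G) := F.PR.trans F.hR

theorem tR : t ∈ R := by
  rw [F.hRP]
  exact mem_sup_left (mem_zpowers t)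

theorem tcomm {r : G} (hr : r ∈ centralizer ({t} : Set G)) : Commute t r :=
  (mem_centralizer_singleton_iff.1 hr).symm

theorem tC : t ∈ centralizer ({t} : Set G) := F.hR F.tR

theorem zpow_eq_one {i : ℤ} : y ^ i = 1 ↔ (m : ℤ) ∣ i := by
  rw [← orderOf_dvd_iff_zpow_eq_one, F.oy]

theorem zpow_eq {i j : ℤ} : y ^ i = y ^ j ↔ (m : ℤ) ∣ i - j := by
  rw [← F.zpow_eq_one, zpow_sub, mul_inv_eq_one]

theorem mem_zpow (i : ℤ) : y ^ i ∈ P := P.zpow_mem F.hy i

theorem mem_a_zpow (i : ℤ) : a * y ^ i ∈ P := P.mul_mem F.ha (F.mem_zpow i)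

theorem z_mem : z ∈ P := F.hz ▸ F.mem_zpow _

theorem ainv : a⁻¹ = a := inv_eq_of_mul_eq_one_right F.aa

theorem conj_a (i : ℤ) : a * y ^ i * a⁻¹ = y ^ (-i) := by
  rw [← conj_zpow, F.aya, inv_zpow, zpow_neg]

theorem y_mul_a (i : ℤ) : y ^ i * a = a * y ^ (-i) := by
  calc y ^ i * a = a * (a⁻¹ * y ^ i * a⁻¹⁻¹) := by group
    _ = a * y ^ (-i) := by rw [F.ainv, show a * y ^ i * a⁻¹ = y ^ (-i) from F.conj_a i]

theorem ay_sq (i : ℤ) : (a * y ^ i) * (a * y ^ i) = 1 := by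
  rw [mul_assoc a, ← mul_assoc (y ^ i), F.y_mul_a, mul_assoc a (y ^ (-i)), ← zpow_add, neg_add_cancel,
    zpow_zero, mul_one, F.aa]

theorem ay_not (i j : ℤ) : a * y ^ i ≠ y ^ j := fun e => F.anot (j - i) (by
  rw [zpow_sub, ← e, mul_inv_cancel_right])

theorem z_zpow : z = y ^ (2 * (q : ℤ)) := F.hz

theorem z_sq : z * z = 1 := by
  rw [F.hz, ← zpow_add, F.zpow_eq_one]
  exact ⟨1, by rw [F.hmq]; push_cast; ring⟩

theorem z_ne : z ≠ 1 := fun e => by
  have h1 := F.zpow_eq_one.1 (F.hz ▸ e)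
  rw [F.hmq] at h1
  obtain ⟨c, hc⟩ := h1
  push_cast at hc
  have hq : (0 : ℤ) < q := by exact_mod_cast F.q_pos
  have : (2 : ℤ) * c = 1 := by nlinarith
  omega

theorem zinv : z⁻¹ = z := inv_eq_of_mul_eq_one_right F.z_sq

theorem tinv : t⁻¹ = t := inv_eq_of_mul_eq_one_right F.tt

theorem y_sq {i : ℤ} (h : y ^ i * y ^ i = 1) : y ^ i = 1 ∨ y ^ i = z := by
  rw [← zpow_add, F.zpow_eq_one, F.hmq] at h
  obtain ⟨c, hc⟩ := h
  push_cast at hc
  rcases Int.even_or_odd c with ⟨d, hd⟩ | ⟨d, hd⟩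
  · refine Or.inl (F.zpow_eq_one.2 ⟨d, ?_⟩)
    rw [F.hmq]; push_cast; rw [hd] at hc; linarith
  · refine Or.inr (F.hz ▸ F.zpow_eq.2 ⟨d, ?_⟩)
    rw [F.hmq]; push_cast; rw [hd] at hc; linarith

theorem memR {r : G} (hr : r ∈ R) : r ∈ P ∨ t * r ∈ P := by
  let K : Subgroup G :=
    { carrier := {r | r ∈ centralizer ({t} : Set G) ∧ (r ∈ P ∨ t * r ∈ P)}
      one_mem' := ⟨one_mem _, Or.inl P.one_mem⟩
      mul_mem' := by
        rintro u v ⟨hu, hu'⟩ ⟨hv, hv'⟩
        refine ⟨mul_mem hu hv, ?_⟩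
        have c : t * u = u * t := F.tcomm hu
        rcases hu' with hu' | hu' <;> rcases hv' with hv' | hv'
        · exact Or.inl (P.mul_mem hu' hv')
        · refine Or.inr ?_
          rw [← mul_assoc, c, mul_assoc]
          exact P.mul_mem hu' hv'
        · exact Or.inr (mul_assoc t u v ▸ P.mul_mem hu' hv')
        · refine Or.inl ?_
          have : u * v = t * u * (t * v) := by
            rw [c, mul_assoc u t, ← mul_assoc t t, F.tt, one_mul]
          exact this ▸ P.mul_mem hu' hv'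
      inv_mem' := by
        rintro u ⟨hu, hu'⟩
        refine ⟨inv_mem hu, hu'.imp P.inv_mem fun h => ?_⟩
        have h' := P.inv_mem h
        rwa [F.tcomm hu, mul_inv_rev, F.tinv] at h' }
  have hK : R ≤ K := by
    intro x hx
    rw [F.hRP] at hx
    refine (sup_le (zpowers_le.2 ?_) fun p hp => ?_) hx
    · exact ⟨F.tC, Or.inr (F.tt ▸ P.one_mem)⟩
    · exact ⟨F.PC hp, Or.inl hp⟩
  exact (hK hr).2

theorem casesR {r : G} (hr : r ∈ R) :
    ∃ i : ℤ, r = y ^ i ∨ r = a * y ^ i ∨ r = t * y ^ i ∨ r = t * (a * y ^ i) := by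
  rcases F.memR hr with h | h <;> obtain ⟨i, hi | hi⟩ := F.memP _ h <;> refine ⟨i, ?_⟩
  · exact Or.inl hi
  · exact Or.inr (Or.inl hi)
  · exact Or.inr (Or.inr (Or.inl (by rw [← hi, ← mul_assoc, F.tt, one_mul])))
  · exact Or.inr (Or.inr (Or.inr (by rw [← hi, ← mul_assoc, F.tt, one_mul])))

theorem t_mul_sq {p : G} (hp : p ∈ centralizer ({t} : Set G)) : (t * p) * (t * p) = p * p := by
  rw [mul_assoc, ← mul_assoc p t p, ← F.tcomm hp, ← mul_assoc, ← mul_assoc, F.tt, one_mul]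

theorem sqR {r : G} (hr : r ∈ R) : ∃ n : ℤ, r * r = y ^ (2 * n) := by
  obtain ⟨i, h | h | h | h⟩ := F.casesR hr <;> subst h
  · exact ⟨i, by rw [← zpow_add, two_mul]⟩
  · exact ⟨0, by rw [F.ay_sq, mul_zero, zpow_zero]⟩
  · exact ⟨i, by rw [F.t_mul_sq (F.PC (F.mem_zpow i)), ← zpow_add, two_mul]⟩
  · exact ⟨0, by rw [F.t_mul_sq (F.PC (F.mem_a_zpow i)), F.ay_sq, mul_zero, zpow_zero]⟩

theorem powR {r : G} (hr : r ∈ R) : r ^ m = 1 := by
  obtain ⟨n, hn⟩ := F.sqR hr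
  rw [show m = 2 * (2 * q) by rw [F.hmq]; ring, pow_mul, sq, hn, ← zpow_natCast, ← zpow_mul, F.zpow_eq_one]
  exact ⟨n, by rw [F.hmq]; push_cast; ring⟩

theorem z_comm_P {p : G} (hp : p ∈ P) : Commute z p := by
  have h1 : ∀ i : ℤ, Commute z (y ^ i) := fun i => F.hz ▸ (Commute.refl y).zpow_zpow _ _
  have h2 : Commute z a := by
    have e : y ^ (-(2 * (q : ℤ))) = z := by rw [zpow_neg, ← F.hz, F.zinv]
    show z * a = a * z
    conv_lhs => rw [F.hz, F.y_mul_a, e]
  obtain ⟨i, rfl | rfl⟩ := F.memP p hp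
  · exact h1 i
  · exact h2.mul_right (h1 i)

theorem z_comm_R {r : G} (hr : r ∈ R) : Commute z r := by
  rcases F.memR hr with h | h
  · exact F.z_comm_P h
  · rw [show r = t * (t * r) by rw [← mul_assoc, F.tt, one_mul]]
    exact (F.tcomm (F.PC F.z_mem)).symm.mul_right (F.z_comm_P h)

/-- Central involutions of `R`. -/
theorem centR {u : G} (hu : u ∈ R) (hu2 : u * u = 1) (huy : Commute u y) :
    u = 1 ∨ u = z ∨ u = t ∨ u = t * z := by
  have key : ∀ i : ℤ, ¬ Commute (a * y ^ i) y := by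
    intro i hc
    have h1 : Commute a y := by
      have := hc.mul_left ((Commute.refl y).zpow_left (-i))
      rwa [mul_assoc, ← zpow_add, add_neg_cancel, zpow_zero, mul_one] at this
    have h2 : y ^ (1 : ℤ) = y ^ (-1 : ℤ) := by
      rw [← F.conj_a 1, zpow_one, h1.eq, mul_inv_cancel_right]
    have h3 := F.zpow_eq.1 h2
    have := Int.le_of_dvd (by norm_num) h3
    have := F.hm
    omega
  have tc : Commute t y := F.tcomm (F.PC F.hy)
  obtain ⟨i, h | h | h | h⟩ := F.casesR hu <;> subst h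
  · rcases F.y_sq hu2 with h | h
    · exact Or.inl h
    · exact Or.inr (Or.inl h)
  · exact absurd huy (key i)
  · rw [F.t_mul_sq (F.PC (F.mem_zpow i))] at hu2
    rcases F.y_sq hu2 with h | h <;> rw [h]
    · exact Or.inr (Or.inr (Or.inl (mul_one t)))
    · exact Or.inr (Or.inr (Or.inr rfl))
  · refine absurd ?_ (key i)
    have := tc.mul_left huy
    rwa [← mul_assoc t t, F.tt, one_mul] at this

/-- Central elements of `R` square to one. -/
theorem centre_sq {u : G} (hu : u ∈ R) (huy : Commute u y) (hua : Commute u a) : u * u = 1 := by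
  obtain ⟨n, hn⟩ := F.sqR hu
  have h2 : Commute (y ^ (2 * n)) a := hn ▸ hua.mul_left hua
  obtain ⟨i, h | h | h | h⟩ := F.casesR hu <;> subst h
  · have h1 : y ^ i = y ^ (-i) := by rw [← F.conj_a i, ← hua.eq, mul_inv_cancel_right]
    calc y ^ i * y ^ i = y ^ i * y ^ (-i) := by rw [← h1]
      _ = 1 := by rw [← zpow_add, add_neg_cancel, zpow_zero]
  · exact F.ay_sq i
  · have hya : Commute (y ^ i) a := by
      have := (F.tcomm (F.PC F.ha)).mul_left hua
      rwa [← mul_assoc t t, F.tt, one_mul] at this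
    have h1 : y ^ i = y ^ (-i) := by rw [← F.conj_a i, ← hya.eq, mul_inv_cancel_right]
    rw [F.t_mul_sq (F.PC (F.mem_zpow i))]
    calc y ^ i * y ^ i = y ^ i * y ^ (-i) := by rw [← h1]
      _ = 1 := by rw [← zpow_add, add_neg_cancel, zpow_zero]
  · rw [F.t_mul_sq (F.PC (F.mem_a_zpow i)), F.ay_sq]

/-- An element of `C(t)` generating a 2-group lies in `L` or in `tL`. -/
theorem mem_L_or [Finite G] {u : G} (hu : u ∈ centralizer ({t} : Set G)) (hu2 : IsPGroup 2 (zpowers u)) :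
    u ∈ L ∨ t * u ∈ L := by
  obtain ⟨c, hc, hcR⟩ := dih_conj_into F.hR F.hR2 F.hRodd (zpowers_le.2 hu) hu2
  have hn := mem_normalizer_iff.1 (F.hLn hc)
  refine (F.memR (hcR u (mem_zpowers u))).imp (fun h => (hn u).2 (F.PL h)) fun h => (hn _).2 ?_
  have : c * (t * u) * c⁻¹ = t * (c * u * c⁻¹) := by
    rw [← mul_assoc c t u, ← F.tcomm hc]
    group
  exact this ▸ F.PL h

/-- Involutions of `L` are conjugate to `z`. -/
theorem isConj_z {u : G} (hu : u ∈ L) (hu2 : u * u = 1) (hu1 : u ≠ 1) : IsConj u z := by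
  obtain ⟨g, -, hg⟩ := F.oneClass u hu z (F.PL F.z_mem)
    (orderOf_eq_prime (by rw [sq, hu2]) hu1) (orderOf_eq_prime (by rw [sq, F.z_sq]) F.z_ne)
  exact isConj_iff.2 ⟨g, hg⟩

/-- Involutions of `tL` are `t` or conjugate to `tz`. -/
theorem isConj_tz {u : G} (huC : u ∈ centralizer ({t} : Set G)) (hu : t * u ∈ L) (hu2 : u * u = 1) :
    u = t ∨ IsConj u (t * z) := by
  by_cases h1 : t * u = 1
  · exact Or.inl ((inv_eq_of_mul_eq_one_right h1).symm.trans F.tinv)
  · refine Or.inr ?_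
    obtain ⟨g, hgL, hg⟩ := F.oneClass (t * u) hu z (F.PL F.z_mem)
      (orderOf_eq_prime (by rw [sq, F.t_mul_sq huC, hu2]) h1) (orderOf_eq_prime (by rw [sq, F.z_sq]) F.z_ne)
    refine isConj_iff.2 ⟨g, ?_⟩
    have hgt : Commute t g := F.tcomm (F.hL hgL)
    calc g * u * g⁻¹ = t * (t * g) * u * g⁻¹ := by rw [← mul_assoc t t, F.tt, one_mul]
      _ = t * (g * (t * u) * g⁻¹) := by rw [hgt.eq]; group
      _ = t * z := by rw [hg]

end DihFrame

end CfsgLib.TwoTimesPSL
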