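import Cfsg.Agent.TwoTimesPSL.Setting
import Cfsg.Agent.SmallSimple.SixThousand.Tools
import Cfsg.Agent.Solvable.Basics
import Cfsg.Agent.Invol.ThompsonTransfer

/-!
The elementary configuration: centralisers of conjugates of `t`, fusion in `R`, and a transfer criterion.
-/

set_option autoImplicit false
set_option linter.unusedSectionVars false
set_option linter.style.haveILetI false

namespace CfsgLib.TwoTimesPSL

open Subgroup

variable {G : Type*} [Group G]

/-- The two-element subgroup of an involution. -/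
theorem mem_zpowers_invol {t x : G} (ht : t * t = 1) (hx : x ∈ zpowers t) : x = 1 ∨ x = t := by
  obtain ⟨i, rfl⟩ := mem_zpowers_iff.1 hx
  rcases Int.even_or_odd' i with ⟨j, rfl | rfl⟩
  · left; rw [zpow_mul, zpow_two, ht, one_zpow]
  · right; rw [zpow_add, zpow_mul, zpow_two, ht, one_zpow, one_mul, zpow_one]

/-- In a finite group a subgroup mapped into itself is normalised. -/
theorem mem_normalizer_of_forward [Finite G] {H : Subgroup G} {g : G} (h : ∀ x ∈ H, g * x * g⁻¹ ∈ H) :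
    g ∈ normalizer (H : Set G) := by
  have e : H.map (MulAut.conj g).toMonoidHom = H := by
    refine eq_of_le_of_card_ge (by rintro _ ⟨x, hx, rfl⟩; exact h x hx) ?_
    exact (Nat.card_congr (H.equivMapOfInjective _ (MulAut.conj g).injective).toEquiv).le
  refine mem_normalizer_iff.2 fun x => ⟨h x, fun hx => ?_⟩
  rw [← e] at hx
  obtain ⟨y, hy, hyx⟩ := hx
  exact (MulAut.conj g).injective hyx ▸ hy

/-- A 2-subgroup of `H` containing one of odd relative index is equal to it. -/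
theorem eq_of_odd_relIndex [Finite G] {R Q H : Subgroup G} (hodd : Odd (R.relIndex H)) (hRQ : R ≤ Q)
    (hQH : Q ≤ H) (hQ : IsPGroup 2 Q) : Q = R := by
  haveI : Fact (Nat.Prime 2) := ⟨Nat.prime_two⟩
  refine le_antisymm (relIndex_eq_one.1 ?_) hRQ
  have h1 : Odd (R.relIndex Q) := by
    refine hodd.of_dvd_nat ?_
    rw [← relIndex_mul_relIndex R Q H hRQ hQH]
    exact dvd_mul_right _ _
  obtain ⟨k, hk⟩ := (IsPGroup.iff_card.1 hQ)
  have h2 : R.relIndex Q ∣ 2 ^ k := hk ▸ (index_dvd_card _)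
  obtain ⟨j, -, hj⟩ := (Nat.dvd_prime_pow Nat.prime_two).1 h2
  rw [hj] at h1 ⊢
  rcases j with _ | j
  · exact pow_zero 2
  · exact absurd h1 (Nat.not_odd_iff_even.2 (by rw [pow_succ]; exact even_two.mul_left _))

/-- A 2-subgroup whose normaliser in each overlying Sylow group is itself, with a maximal subgroup free of
conjugates of an involution, cannot exist in a simple group. -/
theorem false_of_transfer [Finite G] [IsSimpleGroup G] (hG : ¬ IsMulCommutative G) {M1 T : Subgroup G}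
    (hM1 : IsPGroup 2 M1) (hT2 : T.relIndex M1 = 2)
    (hself : ∀ x : G, x ∈ normalizer (M1 : Set G) → IsPGroup 2 (↥(M1 ⊔ zpowers x)) → x ∈ M1)
    {t : G} (ht : orderOf t = 2) (hno : ∀ g : G, g * t * g⁻¹ ∉ T) : False := by
  haveI : Fact (Nat.Prime 2) := ⟨Nat.prime_two⟩
  obtain ⟨S, hS⟩ := hM1.exists_le_sylow
  have hSM : (S : Subgroup G) = M1 := by
    refine le_antisymm ?_ hS
    haveI := S.isPGroup'.isNilpotent
    by_contra hnle
    have hlt : M1.subgroupOf (S : Subgroup G) < ⊤ := lt_top_iff_ne_top.2 fun e => hnle (subgroupOf_eq_top.1 e)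
    obtain ⟨x, hx, hxn⟩ := SetLike.exists_of_lt (Group.normalizerCondition_of_isNilpotent _ hlt)
    refine hxn (hself x ?_ ?_)
    · refine mem_normalizer_iff.2 fun g => ?_
      have key := mem_normalizer_iff.1 hx
      refine ⟨fun hg => ?_, fun hg => ?_⟩
      · exact (key ⟨g, hS hg⟩).1 hg
      · have hgS : g ∈ (S : Subgroup G) := by
          have := (S : Subgroup G).mul_mem ((S : Subgroup G).mul_mem ((S : Subgroup G).inv_mem x.2) (hS hg)) x.2
          simpa [mul_assoc] using this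
        exact (key ⟨g, hgS⟩).2 hg
    · exact S.isPGroup'.to_le (sup_le hS (zpowers_le.2 x.2))
  have hodd : Odd M1.index := by
    rw [← hSM, ← Nat.not_even_iff_odd, even_iff_two_dvd]
    exact S.not_dvd_index
  rcases CfsgLib.ThompsonTransfer.thompson_transfer M1 T hodd hT2
      (u := t) (by rw [← pow_two, ← ht, pow_orderOf_eq_one]) with ⟨M, hMn, hMi, -⟩ | ⟨g, hg⟩
  · rcases IsSimpleGroup.eq_bot_or_eq_top_of_normal M hMn with rfl | rfl
    · rw [index_bot] at hMi
      haveI : Fact (Nat.Prime 2) := ⟨Nat.prime_two⟩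
      haveI := isCyclic_of_prime_card hMi
      exact hG IsCyclic.isMulCommutative
    · rw [index_top] at hMi; norm_num at hMi
  · exact hno g hg

namespace ElemData

variable {t : G} {R D : Subgroup G} {ρ : G} {n : ℕ} (h : ElemData t R D ρ n)
include h

theorem t_sq : t * t = 1 := by rw [← pow_two, ← h.ht, pow_orderOf_eq_one]

theorem t_ne : t ≠ 1 := fun e => by
  have := h.ht
  rw [e, orderOf_one] at this
  norm_num at this

theorem inv_R {x : G} (hx : x ∈ R) : x⁻¹ = x := inv_eq_of_mul_eq_one_right (h.exp x hx)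

theorem comm {a b : G} (ha : a ∈ R) (hb : b ∈ R) : a * b = b * a := by
  have e := h.inv_R (R.mul_mem ha hb)
  rw [mul_inv_rev, h.inv_R ha, h.inv_R hb] at e
  exact e.symm

theorem comm_t {x : G} (hx : x ∈ R) : x * t = t * x := h.comm hx h.htR

theorem td_notMem {d : G} (hd : d ∈ D) : t * d ∉ D := fun hm => h.htD (by
  simpa [mul_assoc] using D.mul_mem hm (D.inv_mem hd))

theorem mem_R_iff {x : G} : x ∈ R ↔ x ∈ D ∨ t * x ∈ D := by
  refine ⟨h.split x, fun hx => ?_⟩
  rcases hx with hx | hx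
  · exact h.hDR hx
  · have := R.mul_mem h.htR (h.hDR hx)
    rwa [← mul_assoc, h.t_sq, one_mul] at this

theorem card_R [Finite G] : Nat.card R = 2 * 2 ^ n := by
  rw [← h.hcard, ← card_mul_index (D.subgroupOf R), Nat.card_congr (subgroupOfEquivOfLe h.hDR).toEquiv, mul_comm]
  congr 1
  refine index_eq_two_iff.2 ⟨⟨t, h.htR⟩, fun x => ?_⟩
  have hx : (x : G) * t = t * x := h.comm_t x.2
  rcases h.split x x.2 with hd | hd
  · refine Or.inr ⟨hd, fun hm => h.td_notMem hd (hx ▸ hm)⟩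
  · refine Or.inl ⟨mem_subgroupOf.2 (by simpa [hx] using hd), fun hm => h.td_notMem (hm : (x : G) ∈ D) hd⟩

theorem mem_of_two [Finite G] {Q : Subgroup G} (hQ : IsPGroup 2 Q) (hRQ : R ≤ Q)
    (hQC : Q ≤ centralizer ({t} : Set G)) : Q = R :=
  eq_of_odd_relIndex h.hRodd hRQ hQC hQ

theorem mem_R_of_two_power [Finite G] {g : G} (hg : g ∈ centralizer ({t} : Set G)) (hn : g ∈ normalizer (R : Set G))
    {a : ℕ} (ha : orderOf g = 2 ^ a) : g ∈ R := by
  haveI : Fact (Nat.Prime 2) := ⟨Nat.prime_two⟩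
  have hz : IsPGroup 2 (zpowers g) := IsPGroup.of_card (n := a) (by rw [Nat.card_zpowers, ha])
  have e := h.mem_of_two (hz.to_sup_of_normal_right' h.hR2 (zpowers_le.2 hn)) le_sup_right
    (sup_le (zpowers_le.2 hg) h.hR)
  exact e ▸ mem_sup_left (mem_zpowers g)

/-- Every 2-subgroup of the centraliser is conjugate into `R` there. -/
theorem exists_conj_le [Finite G] {Q : Subgroup G} (hQ : IsPGroup 2 Q) (hQC : Q ≤ centralizer ({t} : Set G)) :
    ∃ c ∈ centralizer ({t} : Set G), ∀ x ∈ Q, c * x * c⁻¹ ∈ R := by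
  haveI : Fact (Nat.Prime 2) := ⟨Nat.prime_two⟩
  set C := centralizer ({t} : Set G)
  let P : Sylow 2 C := (h.hR2.comap_subtype (H := R) (K := C)).toSylow (by
    rw [← even_iff_two_dvd, Nat.not_even_iff_odd]
    exact h.hRodd)
  obtain ⟨P', hP'⟩ := (hQ.comap_subtype (K := C)).exists_le_sylow
  obtain ⟨c, hc⟩ := MulAction.exists_smul_eq C P' P
  refine ⟨c, c.2, fun x hx => ?_⟩
  have hx' : (⟨x, hQC hx⟩ : C) ∈ (P' : Subgroup C) := hP' hx
  have : MulAut.conj c ⟨x, hQC hx⟩ ∈ (P : Subgroup C) := by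
    rw [← hc]
    exact mem_map_of_mem _ hx'
  exact this

/-- A 2-subgroup centralising a conjugate of `t` is elementary of order at most `2q`. -/
theorem small_centralizer [Finite G] {u g : G} (hu : g * t * g⁻¹ = u) {Q : Subgroup G} (hQ : IsPGroup 2 Q)
    (hQu : Q ≤ centralizer ({u} : Set G)) : (∀ x ∈ Q, x * x = 1) ∧ Nat.card Q ≤ 2 * 2 ^ n := by
  have hle : Q.map (MulAut.conj g⁻¹).toMonoidHom ≤ centralizer ({t} : Set G) := by
    rintro _ ⟨x, hx, rfl⟩
    rw [mem_centralizer_singleton_iff]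
    have e := mem_centralizer_singleton_iff.1 (hQu hx)
    show g⁻¹ * x * g⁻¹⁻¹ * t = t * (g⁻¹ * x * g⁻¹⁻¹)
    rw [← hu] at e
    calc g⁻¹ * x * g⁻¹⁻¹ * t = g⁻¹ * (x * (g * t * g⁻¹)) * g := by group
      _ = t * (g⁻¹ * x * g⁻¹⁻¹) := by rw [e]; group
  obtain ⟨c, -, hc⟩ := h.exists_conj_le (hQ.map _) hle
  let f : G ≃* G := (MulAut.conj g⁻¹).trans (MulAut.conj c)
  have hf : ∀ x ∈ Q, f x ∈ R := fun x hx => hc _ (mem_map_of_mem _ hx)
  refine ⟨fun x hx => f.injective (by rw [map_mul, map_one]; exact h.exp _ (hf x hx)), ?_⟩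
  rw [← h.card_R]
  exact Nat.card_le_card_of_injective (fun x : Q => (⟨f x, hf x x.2⟩ : R))
    fun a b e => Subtype.ext (f.injective (congrArg Subtype.val e))

/-- Conjugates of `t` inside `R` are conjugate under `N(R)`. -/
theorem fusion [Finite G] {u g : G} (huR : u ∈ R) (hu : g * t * g⁻¹ = u) :
    ∃ x ∈ normalizer (R : Set G), x * t * x⁻¹ = u := by
  have hle : R.map (MulAut.conj g⁻¹).toMonoidHom ≤ centralizer ({t} : Set G) := by
    rintro _ ⟨x, hx, rfl⟩
    rw [mem_centralizer_singleton_iff]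
    have e := h.comm hx huR
    show g⁻¹ * x * g⁻¹⁻¹ * t = t * (g⁻¹ * x * g⁻¹⁻¹)
    rw [← hu] at e
    calc g⁻¹ * x * g⁻¹⁻¹ * t = g⁻¹ * (x * (g * t * g⁻¹)) * g := by group
      _ = t * (g⁻¹ * x * g⁻¹⁻¹) := by rw [e]; group
  obtain ⟨c, hc, hcR⟩ := h.exists_conj_le (h.hR2.map _) hle
  let f : G ≃* G := (MulAut.conj g⁻¹).trans (MulAut.conj c)
  have hf : ∀ x, f x = (c * g⁻¹) * x * (c * g⁻¹)⁻¹ := fun x => by
    show c * (g⁻¹ * x * g⁻¹⁻¹) * c⁻¹ = _
    group
  have hfle : R.map f.toMonoidHom = R := by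
    refine eq_of_le_of_card_ge (by rintro _ ⟨x, hx, rfl⟩; exact hcR _ (mem_map_of_mem _ hx)) ?_
    exact (Nat.card_congr (R.equivMapOfInjective _ f.injective).toEquiv).le
  refine ⟨(c * g⁻¹)⁻¹, ?_, ?_⟩
  · refine inv_mem (mem_normalizer_iff.2 fun x => ?_)
    rw [← hf]
    refine ⟨fun hx => hfle ▸ mem_map_of_mem f.toMonoidHom hx, fun hx => ?_⟩
    rw [← hfle] at hx
    obtain ⟨y, hy, e⟩ := hx
    exact f.injective e ▸ hy
  · rw [← hu]
    have e : c⁻¹ * t * c = t := by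
      rw [mul_assoc, ← mem_centralizer_singleton_iff.1 hc, inv_mul_cancel_left]
    calc (c * g⁻¹)⁻¹ * t * (c * g⁻¹)⁻¹⁻¹ = g * (c⁻¹ * t * c) * g⁻¹ := by group
      _ = g * t * g⁻¹ := by rw [e]

/-- The torus acts on the two cosets. -/
theorem rho_conj_t (i : ℕ) : ρ ^ i * t * (ρ ^ i)⁻¹ = t := by
  have : ρ ^ i * t = t * ρ ^ i :=
    mem_centralizer_singleton_iff.1 ((centralizer ({t} : Set G)).pow_mem h.hρC i)
  rw [this, mul_inv_cancel_right]

theorem td_conj {d e : G} (hd : d ∈ D) (he : e ∈ D) (hd1 : d ≠ 1) (he1 : e ≠ 1) :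
    ∃ i : ℕ, ρ ^ i * (t * d) * (ρ ^ i)⁻¹ = t * e := by
  obtain ⟨i, hi⟩ := h.hρtrans d hd e he hd1 he1
  refine ⟨i, ?_⟩
  calc ρ ^ i * (t * d) * (ρ ^ i)⁻¹ = ρ ^ i * t * (ρ ^ i)⁻¹ * (ρ ^ i * d * (ρ ^ i)⁻¹) := by group
    _ = t * e := by rw [h.rho_conj_t, hi]

theorem exists_ne_one : ∃ d ∈ D, d ≠ 1 := by
  by_contra hcon
  push Not at hcon
  have := h.hcard
  rw [(Subgroup.eq_bot_iff_forall D).2 hcon, card_bot] at this
  have h2 := Nat.pow_le_pow_right (show 0 < 2 by norm_num) h.hn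
  omega

end ElemData

end CfsgLib.TwoTimesPSL
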