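import Cfsg.Agent.TwoTimesPSL.PSLFacts
import Cfsg.Agent.LocalB.OddSignalizer

/-!
From the shape of the centraliser modulo core to the elementary or dihedral configuration.
-/

set_option autoImplicit false
set_option linter.unusedSectionVars false
set_option linter.style.haveILetI false

namespace CfsgLib.TwoTimesPSL

open Subgroup

/-- An odd-order power agreeing with the element modulo an odd quotient. -/
theorem exists_odd_pow {H : Type*} [Group H] [Finite H] (x : H) :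
    ∃ e : ℕ, Odd (orderOf (x ^ e)) ∧ ∀ {K : Type*} [Group K] (f : H →* K), Odd (orderOf (f x)) → f x ^ e = f x := by
  obtain ⟨a, m, hm, ham⟩ := Nat.exists_eq_two_pow_mul_odd (orderOf_pos x).ne'
  obtain ⟨e, he0, he1⟩ := Nat.chineseRemainder ((Nat.coprime_two_left.2 hm).pow_left a) 0 1
  refine ⟨e, hm.of_dvd_nat (orderOf_dvd_of_pow_eq_one ?_), fun {K} _ f hf => ?_⟩
  · obtain ⟨j, hj⟩ := Nat.modEq_zero_iff_dvd.1 he0
    rw [← pow_mul, hj, mul_right_comm, ← ham, pow_mul, pow_orderOf_eq_one, one_pow]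
  · have h1 := orderOf_map_dvd f x
    rw [ham] at h1
    have h2 : orderOf (f x) ∣ m := ((Nat.coprime_two_right.2 hf).pow_right a).dvd_of_dvd_mul_left h1
    rw [pow_eq_pow_iff_modEq.2 (he1.of_dvd h2), pow_one]

variable {G : Type*} [Group G]

/-- A cover of `Z₂ × L` inside the centraliser of `t`, containing its 2-elements. -/
structure Cover (t : G) (L : Type*) [Group L] where
  /-- the covering subgroup -/
  H : Subgroup G
  /-- the projection -/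
  ψ : H →* Multiplicative (ZMod 2) × L
  ht : orderOf t = 2
  hHC : H ≤ centralizer ({t} : Set G)
  hHn : ∀ g ∈ centralizer ({t} : Set G), ∀ x ∈ H, g * x * g⁻¹ ∈ H
  two : ∀ g ∈ centralizer ({t} : Set G), (∃ k : ℕ, orderOf g = 2 ^ k) → g ∈ H
  surj : Function.Surjective ψ
  kerOdd : Odd (Nat.card ψ.ker)

/-- Two involutions with product of odd order are conjugate under a power of the product. -/
theorem conj_of_odd_mul {H : Type*} [Group H] {u v : H} (hu : u * u = 1) (hv : v * v = 1) {k : ℕ}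
    (hk : orderOf (u * v) = 2 * k + 1) : ((u * v) ^ (k + 1))⁻¹ * u * (u * v) ^ (k + 1) = v := by
  set o := u * v with ho
  have hinv : u * o * u⁻¹ = o⁻¹ := by
    rw [ho, mul_inv_rev, inv_eq_of_mul_eq_one_right hu, inv_eq_of_mul_eq_one_right hv, ← mul_assoc, hu, one_mul]
  have hcc : o ^ (k + 1) * o ^ (k + 1) = o := by
    rw [← pow_add, show k + 1 + (k + 1) = orderOf o + 1 by omega, pow_succ, pow_orderOf_eq_one, one_mul]
  have hcinv : u * o ^ (k + 1) * u⁻¹ = (o ^ (k + 1))⁻¹ := by rw [← conj_pow, hinv, inv_pow]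
  calc (o ^ (k + 1))⁻¹ * u * o ^ (k + 1) = (u * o ^ (k + 1) * u⁻¹) * u * o ^ (k + 1) := by rw [hcinv]
    _ = u * (o ^ (k + 1) * o ^ (k + 1)) := by group
    _ = v := by rw [hcc, ho, ← mul_assoc, hu, one_mul]

theorem zmod_two_eq : ∀ a b : Multiplicative (ZMod 2), a ≠ 1 → b ≠ 1 → a = b := by decide

theorem zmod_two_sq : ∀ a : Multiplicative (ZMod 2), a ^ 2 = 1 := by decide

theorem zmod_two_mul_self : ∀ a : Multiplicative (ZMod 2), a * a = 1 := by decide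

namespace Cover

variable {t : G} {L : Type*} [Group L] (Φ : Cover t L)

/-- The preimage of the simple part. -/
def Lsub : Subgroup G := (((⊥ : Subgroup (Multiplicative (ZMod 2))).prod ⊤).comap Φ.ψ).map Φ.H.subtype

theorem mem_Lsub {x : G} : x ∈ Φ.Lsub ↔ ∃ hx : x ∈ Φ.H, (Φ.ψ ⟨x, hx⟩).1 = 1 := by
  constructor
  · rintro ⟨y, hy, rfl⟩
    exact ⟨y.2, mem_bot.1 hy.1⟩
  · rintro ⟨hx, h⟩
    exact ⟨⟨x, hx⟩, ⟨mem_bot.2 h, mem_top _⟩, rfl⟩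

theorem Lsub_le : Φ.Lsub ≤ Φ.H := map_subtype_le _

theorem t_mem : t ∈ Φ.H :=
  Φ.two t (mem_centralizer_singleton_iff.2 rfl) ⟨1, by rw [Φ.ht, pow_one]⟩

theorem eq_one_of_two [Finite G] (x : Φ.H) (hx : ∃ k : ℕ, orderOf (x : G) = 2 ^ k) (h : Φ.ψ x = 1) : x = 1 := by
  obtain ⟨k, hk⟩ := hx
  rw [orderOf_coe] at hk
  have h1 : orderOf x ∣ Nat.card Φ.ψ.ker := Φ.ψ.ker.orderOf_dvd_natCard h
  have h2 := Φ.kerOdd.of_dvd_nat h1
  rw [hk] at h2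
  rcases k with _ | k
  · exact orderOf_eq_one_iff.1 (by rw [hk, pow_zero])
  · exact absurd h2 (Nat.not_odd_iff_even.2 (by rw [pow_succ]; exact even_two.mul_left _))

variable [Finite G] [Finite L] [IsSimpleGroup L] (hL : ¬ IsMulCommutative L)
include hL

theorem center_bot : center L = ⊥ :=
  (IsSimpleGroup.eq_bot_or_eq_top_of_normal (center L) inferInstance).resolve_right fun h =>
    hL ⟨⟨fun a b => mem_center_iff.1 (h ▸ mem_top b) a⟩⟩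

include Φ

theorem ψ_t : (Φ.ψ ⟨t, Φ.t_mem⟩).1 ≠ 1 ∧ (Φ.ψ ⟨t, Φ.t_mem⟩).2 = 1 := by
  have hc : (Φ.ψ ⟨t, Φ.t_mem⟩).2 = 1 := by
    rw [← mem_bot, ← center_bot hL, mem_center_iff]
    intro l
    obtain ⟨x, hx⟩ := Φ.surj (1, l)
    have : x * ⟨t, Φ.t_mem⟩ = ⟨t, Φ.t_mem⟩ * x :=
      Subtype.ext (mem_centralizer_singleton_iff.1 (Φ.hHC x.2))
    have h2 := congrArg (fun z => (Φ.ψ z).2) this
    simp only [map_mul, Prod.snd_mul, hx] at h2
    exact h2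
  refine ⟨fun h => ?_, hc⟩
  have h1 := Φ.eq_one_of_two ⟨t, Φ.t_mem⟩ ⟨1, by rw [Φ.ht, pow_one]⟩ (Prod.ext h hc)
  have h2 : orderOf t = 2 := Φ.ht
  rw [show t = 1 from congrArg Subtype.val h1, orderOf_one] at h2
  omega

theorem t_not_Lsub : t ∉ Φ.Lsub := fun h => by
  obtain ⟨hx, h1⟩ := Φ.mem_Lsub.1 h
  exact (Φ.ψ_t hL).1 h1

theorem conj_Lsub {g x : G} (hg : g ∈ centralizer ({t} : Set G)) (hx : x ∈ Φ.Lsub) : g * x * g⁻¹ ∈ Φ.Lsub := by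
  classical
  set S : Set G := {y | y ∈ Φ.H ∧ Odd (orderOf y)}
  have hS : S ⊆ Φ.Lsub := by
    rintro y ⟨hy, hyo⟩
    refine Φ.mem_Lsub.2 ⟨hy, ?_⟩
    have h1 : orderOf (Φ.ψ ⟨y, hy⟩).1 ∣ orderOf y := by
      rw [← orderOf_mk y hy]
      exact orderOf_map_dvd ((MonoidHom.fst _ _).comp Φ.ψ) (⟨y, hy⟩ : Φ.H)
    by_contra hne
    have h2 : orderOf (Φ.ψ ⟨y, hy⟩).1 = 2 := orderOf_eq_prime (zmod_two_sq _) hne
    rw [h2] at h1
    exact (Nat.not_even_iff_odd.2 hyo) (even_iff_two_dvd.2 h1)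
  have hSn : ∀ y ∈ S, g * y * g⁻¹ ∈ S := fun y hy => ⟨Φ.hHn g hg y hy.1, by
    rw [CfsgLib.Invol.orderOf_conj_eq]; exact hy.2⟩
  have hcl : closure S = Φ.Lsub := by
    refine le_antisymm ((closure_le _).2 hS) fun z hz => ?_
    -- the image of the closure in `L`
    let q : Φ.H →* L := (MonoidHom.snd _ _).comp Φ.ψ
    set N := (closure S).subgroupOf Φ.H
    have hN : N.Normal := ⟨fun n hn h => by
      have hmap : (closure S).map (MulAut.conj (h : G)).toMonoidHom ≤ closure S := by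
        rw [MonoidHom.map_closure, closure_le]
        rintro _ ⟨y, hy, rfl⟩
        exact subset_closure ⟨Φ.H.mul_mem (Φ.H.mul_mem h.2 hy.1) (Φ.H.inv_mem h.2), by
          show Odd (orderOf ((h : G) * y * (h : G)⁻¹))
          rw [CfsgLib.Invol.orderOf_conj_eq]; exact hy.2⟩
      exact hmap (mem_map_of_mem _ hn)⟩
    have hqs : Function.Surjective q := fun l => by
      obtain ⟨x, hx⟩ := Φ.surj (1, l); exact ⟨x, congrArg Prod.snd hx⟩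
    have hlift : ∀ l : L, Odd (orderOf l) → l ∈ N.map q := by
      intro l hl
      obtain ⟨x, rfl⟩ := hqs l
      obtain ⟨e, he, hef⟩ := exists_odd_pow x
      refine ⟨x ^ e, subset_closure ⟨(x ^ e).2, show Odd (orderOf ((x ^ e : Φ.H) : G)) by rw [orderOf_coe]; exact he⟩, ?_⟩
      rw [map_pow, hef q hl]
    have htop : N.map q = ⊤ := by
      refine (IsSimpleGroup.eq_bot_or_eq_top_of_normal _ (hN.map q hqs)).resolve_left fun h => ?_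
      have hp : IsPGroup 2 L := fun l => by
        obtain ⟨a, m, hm, ham⟩ := Nat.exists_eq_two_pow_mul_odd (orderOf_pos l).ne'
        have h1 : l ^ 2 ^ a ∈ N.map q := hlift _ (hm.of_dvd_nat (orderOf_dvd_of_pow_eq_one (by
          rw [← pow_mul, ← ham, pow_orderOf_eq_one])))
        rw [h, mem_bot] at h1
        exact ⟨a, h1⟩
      haveI : Fact (Nat.Prime 2) := ⟨Nat.prime_two⟩
      haveI := hp.center_nontrivial
      exact absurd (center_bot hL) ((nontrivial_iff_ne_bot _).1 inferInstance)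
    obtain ⟨hzH, hz1⟩ := Φ.mem_Lsub.1 hz
    obtain ⟨y, hy, hyz⟩ : q ⟨z, hzH⟩ ∈ N.map q := htop ▸ mem_top _
    obtain ⟨hyH, hy1⟩ := Φ.mem_Lsub.1 ((closure_le _).2 hS hy)
    have hker : y⁻¹ * ⟨z, hzH⟩ ∈ Φ.ψ.ker := by
      rw [MonoidHom.mem_ker, map_mul, map_inv, inv_mul_eq_one]
      exact Prod.ext (hy1.trans hz1.symm) hyz
    have hmem : ((y⁻¹ * ⟨z, hzH⟩ : Φ.H) : G) ∈ closure S := subset_closure ⟨(y⁻¹ * ⟨z, hzH⟩ : Φ.H).2, by
      rw [orderOf_coe]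
      exact Φ.kerOdd.of_dvd_nat (Φ.ψ.ker.orderOf_dvd_natCard hker)⟩
    have : (y : G) * ((y⁻¹ * ⟨z, hzH⟩ : Φ.H) : G) ∈ closure S := (closure S).mul_mem hy hmem
    rwa [show (y : G) * ((y⁻¹ * ⟨z, hzH⟩ : Φ.H) : G) = z from mul_inv_cancel_left (y : G) z] at this
  rw [← hcl] at hx ⊢
  have hmap : (closure S).map (MulAut.conj g).toMonoidHom ≤ closure S := by
    rw [MonoidHom.map_closure, closure_le]
    rintro _ ⟨y, hy, rfl⟩
    exact subset_closure (hSn y hy)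
  exact hmap (mem_map_of_mem _ hx)

/-- A Sylow subgroup of the centraliser over a Sylow subgroup of `L`. -/
theorem exists_sylow (P : Sylow 2 L) :
    ∃ R : Subgroup G, R ≤ Φ.H ∧ IsPGroup 2 R ∧ Odd (R.relIndex (centralizer ({t} : Set G))) ∧ t ∈ R ∧
      (∀ x, (hx : x ∈ Φ.H) → x ∈ R → (Φ.ψ ⟨x, hx⟩).2 ∈ (P : Subgroup L)) ∧
      (∀ v : Multiplicative (ZMod 2) × L, v.2 ∈ (P : Subgroup L) → ∃ x : Φ.H, (x : G) ∈ R ∧ Φ.ψ x = v) ∧
      ∀ c : Φ.H, (∀ p ∈ (P : Subgroup L), (Φ.ψ c).2 * p * (Φ.ψ c).2⁻¹ ∈ (P : Subgroup L)) →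
        ∃ c' : Φ.H, Φ.ψ c' = Φ.ψ c ∧ (c' : G) ∈ normalizer (R : Set G) := by
  classical
  haveI : Fact (Nat.Prime 2) := ⟨Nat.prime_two⟩
  set PP : Subgroup (Multiplicative (ZMod 2) × L) := (⊤ : Subgroup (Multiplicative (ZMod 2))).prod (P : Subgroup L)
  set U := PP.comap Φ.ψ
  obtain ⟨R0⟩ : Nonempty (Sylow 2 U) := inferInstance
  have hPP : IsPGroup 2 PP := by
    intro x
    obtain ⟨k, hk⟩ := P.isPGroup' (⟨(x : Multiplicative (ZMod 2) × L).2, x.2.2⟩ : (P : Subgroup L))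
    refine ⟨k + 1, Subtype.ext (Prod.ext ?_ ?_)⟩
    · show (x : Multiplicative (ZMod 2) × L).1 ^ 2 ^ (k + 1) = 1
      rw [pow_succ', pow_mul, zmod_two_sq, one_pow]
    · show (x : Multiplicative (ZMod 2) × L).2 ^ 2 ^ (k + 1) = 1
      rw [pow_succ, pow_mul, show (x : Multiplicative (ZMod 2) × L).2 ^ 2 ^ k = 1 from congrArg Subtype.val hk, one_pow]
  let f : U →* PP := (Φ.ψ.comp U.subtype).codRestrict PP fun x => x.2
  have hf : Function.Surjective f := fun v => by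
    obtain ⟨x, hx⟩ := Φ.surj v
    exact ⟨⟨x, show Φ.ψ x ∈ PP from hx ▸ v.2⟩, Subtype.ext hx⟩
  have htop : (R0.mapSurjective hf : Subgroup PP) = ⊤ :=
    ((R0.mapSurjective hf).is_maximal' (Q := ⊤) (hPP.of_equiv topEquiv.symm) le_top).symm
  set RH := (R0 : Subgroup U).map U.subtype
  set R := RH.map Φ.H.subtype
  have hRH : ∀ x : Φ.H, (x : G) ∈ R ↔ x ∈ RH := fun x =>
    ⟨fun ⟨y, hy, e⟩ => Subtype.ext e ▸ hy, fun h => mem_map_of_mem _ h⟩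
  have hR2 : IsPGroup 2 R := (R0.isPGroup'.map _).map _
  have hon : ∀ v : Multiplicative (ZMod 2) × L, v.2 ∈ (P : Subgroup L) → ∃ x : Φ.H, (x : G) ∈ R ∧ Φ.ψ x = v := by
    intro v hv
    obtain ⟨y, hy, hyv⟩ : (⟨v, mem_top _, hv⟩ : PP) ∈ (R0.mapSurjective hf : Subgroup PP) := htop ▸ mem_top _
    exact ⟨y, (hRH _).2 (mem_map_of_mem _ hy), congrArg Subtype.val hyv⟩
  refine ⟨R, map_subtype_le _, hR2, ?_, ?_, fun x hx hxR => ?_, hon, fun c hc => ?_⟩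
  · have h1 : Odd RH.index := by
      rw [show RH.index = (R0 : Subgroup U).index * U.index from index_map_subtype _]
      refine Odd.mul (by rw [← Nat.not_even_iff_odd, even_iff_two_dvd]; exact R0.not_dvd_index) ?_
      rw [index_comap_of_surjective _ Φ.surj, index_prod, index_top, one_mul, ← Nat.not_even_iff_odd, even_iff_two_dvd]
      exact P.not_dvd_index
    have h2 : Odd (Φ.H.relIndex (centralizer ({t} : Set G))) := by
      obtain ⟨T⟩ : Nonempty (Sylow 2 (centralizer ({t} : Set G))) := inferInstance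
      have hle : (T : Subgroup _) ≤ Φ.H.subgroupOf (centralizer ({t} : Set G)) := fun x hx =>
        Φ.two x x.2 (by
          obtain ⟨k, hk⟩ := (IsPGroup.iff_orderOf.1 T.isPGroup') ⟨x, hx⟩
          exact ⟨k, by rw [← orderOf_coe, ← orderOf_coe] at hk; exact hk⟩)
      refine Odd.of_dvd_nat ?_ (index_dvd_of_le hle)
      rw [← Nat.not_even_iff_odd, even_iff_two_dvd]
      exact T.not_dvd_index
    rw [← relIndex_mul_relIndex R Φ.H _ (map_subtype_le _) Φ.hHC,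
      show R.relIndex Φ.H = RH.index by
        show (R.subgroupOf Φ.H).index = _
        rw [show R.subgroupOf Φ.H = RH from comap_map_eq_self_of_injective Φ.H.subtype_injective RH]]
    exact h1.mul h2
  · obtain ⟨x, hxR, hx⟩ := hon (Φ.ψ ⟨t, Φ.t_mem⟩) (by rw [(Φ.ψ_t hL).2]; exact one_mem _)
    -- `x` and `t` are 2-elements with equal images
    have hxt : Commute (x : G) t := mem_centralizer_singleton_iff.1 (Φ.hHC x.2)
    obtain ⟨k, hk⟩ := hR2 ⟨x, hxR⟩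
    have hk' : (x : G) ^ 2 ^ k = 1 := congrArg Subtype.val hk
    have ht2 : t ^ 2 = 1 := Φ.ht ▸ pow_orderOf_eq_one t
    have h := Φ.eq_one_of_two (x⁻¹ * ⟨t, Φ.t_mem⟩) (by
      obtain ⟨j, -, hj⟩ := (Nat.dvd_prime_pow Nat.prime_two).1 (show orderOf ((x : G)⁻¹ * t) ∣ 2 ^ (k + 1) from
        orderOf_dvd_of_pow_eq_one (by
          rw [hxt.inv_left.mul_pow, inv_pow, pow_succ, pow_mul, hk', one_pow, inv_one, one_mul, ← pow_succ,
            pow_succ', pow_mul, ht2, one_pow]))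
      exact ⟨j, hj⟩) (by rw [map_mul, map_inv, hx, inv_mul_cancel])
    rw [inv_mul_eq_one] at h
    rw [h] at hxR
    exact hxR
  · obtain ⟨y, hy, e⟩ := (hRH ⟨x, hx⟩).1 hxR
    rw [← e]
    exact y.2.2
  · have hcU : ∀ u ∈ U, c * u * c⁻¹ ∈ U := fun u hu => by
      refine ⟨mem_top _, ?_⟩
      rw [map_mul, map_mul, map_inv]
      exact hc _ hu.2
    set Rc : Subgroup U := (RH.map (MulAut.conj c).toMonoidHom).subgroupOf U
    obtain ⟨T, hT⟩ := (((R0.isPGroup'.map U.subtype).map (MulAut.conj c).toMonoidHom).comap_subtype (K := U)).exists_le_sylow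
    obtain ⟨u, hu⟩ := MulAction.exists_smul_eq U T R0
    obtain ⟨s, hsR, hs⟩ := hon (Φ.ψ (u : Φ.H)) u.2.2
    refine ⟨s⁻¹ * ((u : Φ.H) * c), by rw [map_mul, map_inv, map_mul, hs, inv_mul_cancel_left], ?_⟩
    refine mem_normalizer_of_forward fun x hx => ?_
    obtain ⟨y, hy, rfl⟩ := hx
    have hyU : y ∈ U := by obtain ⟨z, -, rfl⟩ := hy; exact z.2
    have hm : (⟨c * y * c⁻¹, hcU y hyU⟩ : U) ∈ (T : Subgroup U) := hT ⟨y, hy, rfl⟩
    have hm' : u * ⟨c * y * c⁻¹, hcU y hyU⟩ * u⁻¹ ∈ (R0 : Subgroup U) := by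
      rw [← hu]; exact mem_map_of_mem _ hm
    have hm'' : (u : Φ.H) * (c * y * c⁻¹) * (u : Φ.H)⁻¹ ∈ RH := ⟨_, hm', rfl⟩
    have hsRH : s ∈ RH := (hRH s).1 hsR
    have hfin := RH.mul_mem (RH.mul_mem (RH.inv_mem hsRH) hm'') hsRH
    rw [show s⁻¹ * ((u : Φ.H) * (c * y * c⁻¹) * (u : Φ.H)⁻¹) * s =
      (s⁻¹ * ((u : Φ.H) * c)) * y * (s⁻¹ * ((u : Φ.H) * c))⁻¹ by group] at hfin
    exact (hRH _).2 hfin

theorem split {x : G} (hx : x ∈ Φ.H) : x ∈ Φ.Lsub ∨ t * x ∈ Φ.Lsub := by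
  by_cases h : (Φ.ψ ⟨x, hx⟩).1 = 1
  · exact Or.inl (Φ.mem_Lsub.2 ⟨hx, h⟩)
  · refine Or.inr (Φ.mem_Lsub.2 ⟨Φ.H.mul_mem Φ.t_mem hx, ?_⟩)
    rw [show (⟨t * x, Φ.H.mul_mem Φ.t_mem hx⟩ : Φ.H) = ⟨t, Φ.t_mem⟩ * ⟨x, hx⟩ from rfl, map_mul, Prod.fst_mul,
      zmod_two_eq _ _ h (Φ.ψ_t hL).1]
    exact zmod_two_mul_self _

theorem conj_sylow_eq {R : Subgroup G} (hR : R ≤ Φ.H) (hR2 : IsPGroup 2 R) {x y : Φ.H} (hx : (x : G) ∈ R)
    (hy : (y : G) ∈ R) (h : Φ.ψ x = Φ.ψ y) : x = y := by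
  have := Φ.eq_one_of_two (x⁻¹ * y) (by
    obtain ⟨k, hk⟩ := (IsPGroup.iff_orderOf.1 hR2) ⟨_, R.mul_mem (R.inv_mem hx) hy⟩
    exact ⟨k, by rw [← orderOf_coe] at hk; exact hk⟩) (by rw [map_mul, map_inv, h, inv_mul_cancel])
  exact inv_mul_eq_one.1 this

theorem D_equiv {R : Subgroup G} (hR : R ≤ Φ.H) (hR2 : IsPGroup 2 R) (P : Sylow 2 L)
    (hin : ∀ x, (hx : x ∈ Φ.H) → x ∈ R → (Φ.ψ ⟨x, hx⟩).2 ∈ (P : Subgroup L))
    (hon : ∀ v : Multiplicative (ZMod 2) × L, v.2 ∈ (P : Subgroup L) → ∃ x : Φ.H, (x : G) ∈ R ∧ Φ.ψ x = v) :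
    Nonempty (↥(R ⊓ Φ.Lsub) ≃* (P : Subgroup L)) := by
  let f : ↥(R ⊓ Φ.Lsub) →* (P : Subgroup L) := MonoidHom.mk'
    (fun x => ⟨(Φ.ψ ⟨x, hR x.2.1⟩).2, hin _ _ x.2.1⟩) fun x y => Subtype.ext (by
      show (Φ.ψ (⟨x, hR x.2.1⟩ * ⟨y, hR y.2.1⟩)).2 = (Φ.ψ ⟨x, hR x.2.1⟩).2 * (Φ.ψ ⟨y, hR y.2.1⟩).2
      rw [map_mul]; rfl)
  refine ⟨MulEquiv.ofBijective f ⟨fun x y e => ?_, fun p => ?_⟩⟩
  · obtain ⟨hx', hx1⟩ := Φ.mem_Lsub.1 x.2.2
    obtain ⟨hy', hy1⟩ := Φ.mem_Lsub.1 y.2.2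
    exact Subtype.ext (congrArg (fun z : Φ.H => (z : G)) (Φ.conj_sylow_eq hL hR hR2 (x := ⟨x, hR x.2.1⟩) (y := ⟨y, hR y.2.1⟩)
      x.2.1 y.2.1 (Prod.ext (hx1.trans hy1.symm) (congrArg Subtype.val e))))
  · obtain ⟨x, hxR, hx⟩ := hon (1, p) p.2
    exact ⟨⟨x, hxR, Φ.mem_Lsub.2 ⟨x.2, congrArg Prod.fst hx⟩⟩, Subtype.ext (congrArg Prod.snd hx)⟩

/-- The elementary configuration. -/
theorem elemData {P : Sylow 2 L} {r : L} {n : ℕ} (E : ElemL P r n) :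
    ∃ (R D : Subgroup G) (ρ : G), ElemData t R D ρ n := by
  obtain ⟨R, hR, hR2, hRodd, htR, hin, hon, hlift⟩ := Φ.exists_sylow hL P
  obtain ⟨eD⟩ := Φ.D_equiv hL hR hR2 P hin hon
  obtain ⟨c0, hc0⟩ := Φ.surj (1, r)
  obtain ⟨c1, hc1, hc1N⟩ := hlift c0 fun p hp => by
    rw [hc0]; exact (mem_normalizer_iff.1 E.rN p).1 hp
  rw [hc0] at hc1
  obtain ⟨e, he, hef⟩ := exists_odd_pow c1
  set ρ := c1 ^ e
  have hρψ : Φ.ψ ρ = (1, r) := by
    rw [map_pow, hef Φ.ψ (by rw [hc1, Prod.orderOf_mk, orderOf_one, Nat.lcm_one_left]; exact E.rodd), hc1]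
  have hρN : (ρ : G) ∈ normalizer (R : Set G) := by rw [SubmonoidClass.coe_pow]; exact pow_mem hc1N e
  have hρL : (ρ : G) ∈ Φ.Lsub := Φ.mem_Lsub.2 ⟨ρ.2, by
    show (Φ.ψ ρ).1 = 1
    rw [hρψ]⟩
  have hpow : ∀ (i : ℕ) (x : Φ.H), (Φ.ψ (ρ ^ i * x * (ρ ^ i)⁻¹)).2 = r ^ i * (Φ.ψ x).2 * (r ^ i)⁻¹ := fun i x => by
    rw [map_mul, map_mul, map_inv, map_pow, hρψ]; rfl
  have hDn : ∀ g ∈ centralizer ({t} : Set G), g ∈ normalizer (R : Set G) → ∀ d ∈ R ⊓ Φ.Lsub,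
      g * d * g⁻¹ ∈ R ⊓ Φ.Lsub := fun g hg hgR d hd =>
    ⟨(mem_normalizer_iff.1 hgR d).1 hd.1, Φ.conj_Lsub hL hg hd.2⟩
  refine ⟨R, R ⊓ Φ.Lsub, (ρ : G),
    { ht := Φ.ht
      hR := hR.trans Φ.hHC
      hR2 := hR2
      hRodd := hRodd
      exp := fun x hx => ?_
      htR := htR
      hDR := inf_le_left
      htD := fun h => Φ.t_not_Lsub hL h.2
      split := fun x hx => (Φ.split hL (hR hx)).imp (fun h => ⟨hx, h⟩) fun h => ⟨R.mul_mem htR hx, h⟩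
      hn := E.hn
      hcard := by rw [Nat.card_congr eD.toEquiv, E.card]
      hDn := hDn
      hρC := Φ.hHC ρ.2
      hρR := hρN
      hρodd := by rw [orderOf_coe]; exact he
      hρtrans := fun a ha b hb ha1 hb1 => ?_
      hρnorm := fun g hg hgR => ?_ }⟩
  · have h1 : Φ.ψ (⟨x, hR hx⟩ * ⟨x, hR hx⟩) = Φ.ψ 1 := by
      rw [map_mul, map_one]
      refine Prod.ext ?_ (E.exp _ (hin x _ hx))
      exact zmod_two_mul_self _
    exact congrArg Subtype.val (Φ.conj_sylow_eq hL hR hR2 (x := ⟨x, hR hx⟩ * ⟨x, hR hx⟩) (y := 1)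
      (R.mul_mem hx hx) R.one_mem h1)
  · have key : ∀ d, (hd : d ∈ R ⊓ Φ.Lsub) → d ≠ 1 → (Φ.ψ ⟨d, hR hd.1⟩).2 ≠ 1 := fun d hd h1 h2 => by
      obtain ⟨hd', hd1⟩ := Φ.mem_Lsub.1 hd.2
      exact h1 (congrArg Subtype.val (Φ.conj_sylow_eq hL hR hR2 (x := ⟨d, hR hd.1⟩) (y := 1) hd.1 R.one_mem
        ((Prod.ext hd1 h2).trans (map_one Φ.ψ).symm)))
    obtain ⟨i, hi⟩ := E.rtrans _ (hin a (hR ha.1) ha.1) _ (hin b (hR hb.1) hb.1) (key a ha ha1) (key b hb hb1)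
    refine ⟨i, ?_⟩
    have hmem := hDn _ (pow_mem (Φ.hHC ρ.2) i) (pow_mem hρN i) a ha
    obtain ⟨hA', hA1⟩ := Φ.mem_Lsub.1 hmem.2
    obtain ⟨hb', hb1'⟩ := Φ.mem_Lsub.1 hb.2
    exact congrArg Subtype.val (Φ.conj_sylow_eq hL hR hR2 (x := ρ ^ i * ⟨a, hR ha.1⟩ * (ρ ^ i)⁻¹)
      (y := ⟨b, hR hb.1⟩) hmem.1 hb.1 (Prod.ext (hA1.trans hb1'.symm) ((hpow i _).trans hi)))
  · have hxL := Φ.conj_Lsub hL hg hρL
    have hxN : g * (ρ : G) * g⁻¹ ∈ normalizer (R : Set G) := mul_mem (mul_mem hgR hρN) (inv_mem hgR)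
    set x : Φ.H := ⟨g * (ρ : G) * g⁻¹, Φ.Lsub_le hxL⟩
    have hxC : g * (ρ : G) * g⁻¹ ∈ centralizer ({t} : Set G) := Φ.hHC x.2
    obtain ⟨i, hi⟩ := E.rnorm (Φ.ψ x).2 (mem_normalizer_of_forward fun p hp => by
      obtain ⟨y, hy, hyp⟩ := hon (1, p) hp
      have h1 := hin _ (x * y * x⁻¹).2 ((mem_normalizer_iff.1 hxN _).1 hy)
      rw [map_mul, map_mul, map_inv, hyp] at h1
      exact h1)
    refine ⟨i, fun d hd => ?_⟩
    have h1 := hDn _ hxC hxN d hd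
    have h2 := hDn _ (pow_mem (Φ.hHC ρ.2) i) (pow_mem hρN i) d hd
    obtain ⟨h1', h11⟩ := Φ.mem_Lsub.1 h1.2
    obtain ⟨h2', h21⟩ := Φ.mem_Lsub.1 h2.2
    refine congrArg Subtype.val (Φ.conj_sylow_eq hL hR hR2 (x := x * ⟨d, hR hd.1⟩ * x⁻¹)
      (y := ρ ^ i * ⟨d, hR hd.1⟩ * (ρ ^ i)⁻¹) h1.1 h2.1 (Prod.ext (h11.trans h21.symm) ?_))
    rw [hpow, map_mul, map_mul, map_inv]
    exact hi _ (hin d _ hd.1)

/-- The dihedral configuration. -/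
theorem dihData {P : Sylow 2 L} {m : ℕ} (hm : 4 ≤ m) (hP : Nonempty ((P : Subgroup L) ≃* DihedralGroup m))
    (hone : ∀ a b : L, a * a = 1 → a ≠ 1 → b * b = 1 → b ≠ 1 → IsConj a b) :
    ∃ (L' R P' : Subgroup G), DihData t L' R P' m := by
  obtain ⟨R, hR, hR2, hRodd, htR, hin, hon, -⟩ := Φ.exists_sylow hL P
  obtain ⟨eD⟩ := Φ.D_equiv hL hR hR2 P hin hon
  obtain ⟨eP⟩ := hP
  refine ⟨Φ.Lsub, R, R ⊓ Φ.Lsub,
    { ht := Φ.ht
      hL := Φ.Lsub_le.trans Φ.hHC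
      hLn := fun g hg => mem_normalizer_of_forward fun x hx => Φ.conj_Lsub hL hg hx
      htL := Φ.t_not_Lsub hL
      hR := hR.trans Φ.hHC
      hR2 := hR2
      hRodd := hRodd
      hP := rfl
      hRP := le_antisymm (fun x hx => ?_) (sup_le (zpowers_le.2 htR) inf_le_left)
      hm := hm
      hiso := ⟨eD.trans eP⟩
      oneClass := fun a ha b hb ha2 hb2 => ?_ }⟩
  · rcases Φ.split hL (hR hx) with h | h
    · exact mem_sup_right ⟨hx, h⟩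
    · have := mul_mem (mem_sup_left (mem_zpowers t) : t ∈ zpowers t ⊔ (R ⊓ Φ.Lsub))
        (mem_sup_right (S := zpowers t) (show t * x ∈ R ⊓ Φ.Lsub from ⟨R.mul_mem htR hx, h⟩))
      rwa [← mul_assoc, ← pow_two, ← Φ.ht, pow_orderOf_eq_one, one_mul] at this
  · obtain ⟨haH, ha1⟩ := Φ.mem_Lsub.1 ha
    obtain ⟨hbH, hb1⟩ := Φ.mem_Lsub.1 hb
    have sq : ∀ z, orderOf z = 2 → (hz : z ∈ Φ.H) → (Φ.ψ ⟨z, hz⟩).1 = 1 →
        (Φ.ψ ⟨z, hz⟩).2 * (Φ.ψ ⟨z, hz⟩).2 = 1 ∧ (Φ.ψ ⟨z, hz⟩).2 ≠ 1 := fun z hz2 hz hz1 => by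
      refine ⟨?_, fun h => ?_⟩
      · rw [← Prod.snd_mul, ← map_mul, show (⟨z, hz⟩ * ⟨z, hz⟩ : Φ.H) = 1 from
          Subtype.ext (by show z * z = 1; rw [← pow_two, ← hz2, pow_orderOf_eq_one]), map_one]
        rfl
      · have h1 := Φ.eq_one_of_two ⟨z, hz⟩ ⟨1, by rw [hz2, pow_one]⟩ (Prod.ext hz1 h)
        rw [show z = 1 from congrArg Subtype.val h1, orderOf_one] at hz2
        omega
    obtain ⟨c, hc⟩ := isConj_iff.1 (hone _ _ (sq a ha2 haH ha1).1 (sq a ha2 haH ha1).2 (sq b hb2 hbH hb1).1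
      (sq b hb2 hbH hb1).2)
    obtain ⟨l, hl⟩ := Φ.surj (1, c)
    set o : Φ.H := l * ⟨a, haH⟩ * l⁻¹ * ⟨b, hbH⟩
    have ho : Φ.ψ o = 1 := by
      rw [map_mul, map_mul, map_mul, map_inv, hl]
      refine Prod.ext ?_ ?_
      · show 1 * (Φ.ψ ⟨a, haH⟩).1 * 1⁻¹ * (Φ.ψ ⟨b, hbH⟩).1 = 1
        rw [ha1, hb1]; rfl
      · show c * (Φ.ψ ⟨a, haH⟩).2 * c⁻¹ * (Φ.ψ ⟨b, hbH⟩).2 = 1
        rw [hc]; exact (sq b hb2 hbH hb1).1
    have hoo : Odd (orderOf (o : G)) := by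
      rw [orderOf_coe]
      exact Φ.kerOdd.of_dvd_nat (Φ.ψ.ker.orderOf_dvd_natCard ho)
    obtain ⟨k, hk⟩ := hoo
    set a' := (l : G) * a * (l : G)⁻¹
    have ha'2 : a' * a' = 1 := by
      show (l : G) * a * (l : G)⁻¹ * ((l : G) * a * (l : G)⁻¹) = 1
      rw [show (l : G) * a * (l : G)⁻¹ * ((l : G) * a * (l : G)⁻¹) = (l : G) * (a * a) * (l : G)⁻¹ by group,
        ← pow_two, ← ha2, pow_orderOf_eq_one]
      group
    have hb22 : b * b = 1 := by rw [← pow_two, ← hb2, pow_orderOf_eq_one]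
    have hoe : (o : G) = a' * b := rfl
    set cc := (o : G) ^ (k + 1) with hcc
    refine ⟨cc⁻¹ * l, Φ.Lsub.mul_mem (Φ.Lsub.inv_mem (Φ.Lsub.pow_mem (Φ.mem_Lsub.2 ⟨o.2, by
        show (Φ.ψ o).1 = 1
        rw [ho]; rfl⟩) _))
      (Φ.mem_Lsub.2 ⟨l.2, by show (Φ.ψ l).1 = 1; rw [hl]⟩), ?_⟩
    calc cc⁻¹ * (l : G) * a * (cc⁻¹ * (l : G))⁻¹
        = cc⁻¹ * ((l : G) * a * (l : G)⁻¹) * cc := by group
      _ = b := conj_of_odd_mul ha'2 hb22 hk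

end Cover

/-- The cover from the shape of the centraliser modulo core. -/
theorem exists_cover [Finite G] {L : Type*} [Group L] {t : G} (ht : orderOf t = 2)
    (e : ↥(closure {x : (↥(centralizer ({t} : Set G)) ⧸ Cfsg.oddCore ↥(centralizer ({t} : Set G))) |
        ∃ k : ℕ, orderOf x = 2 ^ k}) ≃* Multiplicative (ZMod 2) × L) :
    Nonempty (Cover t L) := by
  set C := centralizer ({t} : Set G)
  haveI : Fact (Nat.Prime 2) := ⟨Nat.prime_two⟩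
  set π := QuotientGroup.mk' (Cfsg.oddCore C)
  set S := {x : (C ⧸ Cfsg.oddCore C) | ∃ k : ℕ, orderOf x = 2 ^ k}
  set K := closure S
  haveI hKn : K.Normal := ⟨fun n hn g => by
    have hmap : K.map (MulAut.conj g).toMonoidHom ≤ K := by
      rw [MonoidHom.map_closure, closure_le]
      rintro _ ⟨y, ⟨k, hk⟩, rfl⟩
      exact subset_closure ⟨k, by show orderOf (MulAut.conj g y) = _; rw [MulEquiv.orderOf_eq, hk]⟩
    exact hmap (mem_map_of_mem _ hn)⟩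
  set Kc := K.comap π
  set H := Kc.map C.subtype
  have hH : ∀ x : G, x ∈ H → ∃ hx : x ∈ C, π ⟨x, hx⟩ ∈ K := by
    rintro _ ⟨y, hy, rfl⟩; exact ⟨y.2, hy⟩
  let f0 : H →* K := MonoidHom.mk' (fun x => ⟨π ⟨x, (hH x x.2).1⟩, (hH x x.2).2⟩) fun x y => Subtype.ext (by
    show π (⟨x, (hH x x.2).1⟩ * ⟨y, (hH y y.2).1⟩) = _
    rw [map_mul]; rfl)
  refine ⟨{ H := H
            ψ := e.toMonoidHom.comp f0
            ht := ht
            hHC := map_subtype_le _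
            hHn := ?_
            two := ?_
            surj := ?_
            kerOdd := ?_ }⟩
  · rintro g hg _ ⟨y, hy, rfl⟩
    refine ⟨⟨g, hg⟩ * y * ⟨g, hg⟩⁻¹, ?_, rfl⟩
    show π _ ∈ K
    rw [map_mul, map_mul, map_inv]
    exact hKn.conj_mem _ hy _
  · rintro g hg ⟨k, hk⟩
    refine ⟨⟨g, hg⟩, subset_closure ?_, rfl⟩
    have h1 : orderOf (π ⟨g, hg⟩) ∣ 2 ^ k := by
      refine (orderOf_map_dvd π _).trans ?_
      rw [← orderOf_coe]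
      exact hk ▸ dvd_rfl
    obtain ⟨j, -, hj⟩ := (Nat.dvd_prime_pow Nat.prime_two).1 h1
    exact ⟨j, hj⟩
  · refine e.surjective.comp fun y => ?_
    obtain ⟨c, hc⟩ := QuotientGroup.mk'_surjective (Cfsg.oddCore C) (y : C ⧸ Cfsg.oddCore C)
    exact ⟨⟨c, c, show π c ∈ K from hc ▸ y.2, rfl⟩, Subtype.ext hc⟩
  · set ψ' := e.toMonoidHom.comp f0
    have hker : ∀ x : ψ'.ker, (⟨((x : H) : G), (hH _ (x : H).2).1⟩ : C) ∈ Cfsg.oddCore C := fun x => by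
      have h1 : f0 (x : H) = 1 := e.injective ((show e (f0 (x : H)) = 1 from x.2).trans (map_one e).symm)
      exact (QuotientGroup.eq_one_iff _).1 (congrArg Subtype.val h1)
    let ι : ψ'.ker →* Cfsg.oddCore C := MonoidHom.mk' (fun x => ⟨_, hker x⟩) fun x y => rfl
    exact CfsgLib.LocalB.odd_card_oddCore.of_dvd_nat (card_dvd_of_injective ι fun x y h =>
      Subtype.ext (Subtype.ext (congrArg (fun z : Cfsg.oddCore C => ((z : C) : G)) h)))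

end CfsgLib.TwoTimesPSL
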