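import Cfsg.Agent.TwoTimesPSL.ElemBase
import Cfsg.Agent.TwoTimesPSL.AffExc
import Cfsg.Agent.Recog.OddTransitive.Main
import Cfsg.Agent.Zassenhaus.Huppert

/-!
The elementary configuration: either `R` is a Sylow subgroup of order eight, or the conjugates of `t` in `R` are
the elements of the coset `tD`.
-/

set_option autoImplicit false
set_option linter.unusedSectionVars false
set_option linter.style.haveILetI false

namespace CfsgLib.TwoTimesPSL

open Subgroup

/-- Automorphisms of a finite field of order `2 ^ k` have order dividing `k`. -/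
theorem ringAut_iterate {F : Type} [Field F] [Fintype F] {k : ℕ} (hk : k ≠ 0) (hF : Fintype.card F = 2 ^ k)
    (σ : F ≃+* F) (x : F) : (⇑σ)^[k] x = x := by
  haveI : Fact (Nat.Prime 2) := ⟨Nat.prime_two⟩
  have := Fintype.ofFinite (GaloisField 2 k)
  let e : F ≃+* GaloisField 2 k := FiniteField.ringEquivOfCardEq
    (by rw [hF, ← Nat.card_eq_fintype_card, GaloisField.card 2 k hk])
  obtain ⟨j, hj⟩ := exists_frob hk ((e.symm.trans σ).trans e)
  have hσ : ∀ y, σ y = y ^ 2 ^ j := fun y => e.injective (by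
    rw [map_pow]
    simpa using hj (e y))
  have key : ∀ i, (⇑σ)^[i] x = x ^ 2 ^ (j * i) := fun i => by
    induction i with
    | zero => simp
    | succ i ih => rw [Function.iterate_succ_apply', ih, hσ, ← pow_mul, ← pow_add]; rfl
  rw [key, mul_comm, pow_mul, ← hF, FiniteField.pow_card_pow]

/-- An involutive automorphism fixing only the identity: the order is odd. -/
theorem dvd_pred_of_two {A : Type*} [Group A] [Finite A] (σ : MulAut A) (hσ : σ * σ = 1)
    (hfix : ∀ a, a ≠ 1 → σ a ≠ a) : 2 ∣ Nat.card A - 1 :=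
  haveI : Fact (Nat.Prime 2) := ⟨Nat.prime_two⟩
  dvd_pred_of_unique_fixed (r := 2) σ.toEquiv (Equiv.ext fun a => by
    rw [pow_two, Equiv.Perm.mul_apply]
    exact DFunLike.congr_fun hσ a) 1 (map_one σ) fun b hb => by_contra fun h1 => hfix b h1 hb

variable {G : Type*} [Group G] [Finite G]

/-- An involution commuting only with itself among its conjugates. -/
theorem false_of_isolated_invol [IsSimpleGroup G] (hG : ¬ IsMulCommutative G) {t : G}
    (hi : Cfsg.IsIsolatedInvolution t) : False := by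
  obtain ⟨N, hN, hodd, hcomm⟩ := CfsgLib.ZStar.zstar hi
  rcases IsSimpleGroup.eq_bot_or_eq_top_of_normal N hN with rfl | rfl
  · have hc : t ∈ center G := mem_center_iff.2 fun g => by
      have := hcomm g
      rw [mem_bot, mul_inv_eq_one, mul_inv_eq_iff_eq_mul] at this
      exact this.symm
    rcases IsSimpleGroup.eq_bot_or_eq_top_of_normal (center G) inferInstance with hz | hz
    · rw [hz, mem_bot] at hc
      have := hi.1
      rw [hc, orderOf_one] at this
      omega
    · exact hG ⟨⟨fun a b => (mem_center_iff.1 (hz ▸ mem_top b)) a⟩⟩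
  · rw [card_top] at hodd
    exact (Nat.not_even_iff_odd.2 hodd) (even_iff_two_dvd.2 (hi.1 ▸ orderOf_dvd_natCard t))

namespace ElemData

variable {t : G} {R D : Subgroup G} {ρ : G} {n : ℕ} (h : ElemData t R D ρ n)
include h

/-- All involutions of `R` conjugate to `t`. -/
theorem all_conj_case (hall : ∀ u ∈ R, u ≠ 1 → ∃ g : G, g * t * g⁻¹ = u) (S : Sylow 2 G) :
    Nat.card (S : Subgroup G) = 8 ∧ ∀ x ∈ (S : Subgroup G), x ^ 2 = 1 := by
  classical
  haveI : Fact (Nat.Prime 2) := ⟨Nat.prime_two⟩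
  set N := normalizer (R : Set G)
  set f := R.normalizerMonoidHom with hf
  set X := f.range
  have hfa : ∀ (g : N) (a : R), ((f g) a : G) = g * a * (g : G)⁻¹ := fun g a => rfl
  have hfix : ∀ (g : N), (g : G) ∈ centralizer ({t} : Set G) ↔ f g ⟨t, h.htR⟩ = ⟨t, h.htR⟩ := fun g => by
    rw [Subtype.ext_iff, hfa, mem_centralizer_singleton_iff, mul_inv_eq_iff_eq_mul]
  have htr : ∀ a b : R, a ≠ 1 → b ≠ 1 → ∃ g : N, f g a = b := fun a b ha hb => by
    obtain ⟨g₁, hg₁⟩ := hall a a.2 fun e => ha (Subtype.ext e)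
    obtain ⟨g₂, hg₂⟩ := hall b b.2 fun e => hb (Subtype.ext e)
    obtain ⟨x, hx, hx'⟩ := h.fusion a.2 hg₁
    obtain ⟨y, hy, hy'⟩ := h.fusion b.2 hg₂
    refine ⟨⟨y, hy⟩ * ⟨x, hx⟩⁻¹, Subtype.ext ?_⟩
    rw [hfa]
    show y * x⁻¹ * (a : G) * (y * x⁻¹)⁻¹ = b
    rw [← hx', ← hy']; group
  have hXodd : Odd (Nat.card X) := by
    rw [← Nat.not_even_iff_odd, even_iff_two_dvd]
    intro h2
    obtain ⟨⟨x, g, rfl⟩, hx⟩ := exists_prime_orderOf_dvd_card' (G := X) 2 h2
    rw [← orderOf_coe] at hx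
    replace hx : orderOf (f g) = 2 := hx
    have hx2 : f g * f g = 1 := by
      have := pow_orderOf_eq_one (f g)
      rwa [hx, pow_two] at this
    have hx1 : f g ≠ 1 := fun e => by rw [e, orderOf_one] at hx; norm_num at hx
    obtain ⟨a, ha1, hfa1⟩ : ∃ a : R, a ≠ 1 ∧ f g a = a := by
      by_contra hcon
      push Not at hcon
      have hd := dvd_pred_of_two (f g) hx2 hcon
      have hR := h.card_R
      rw [hR] at hd
      have : 0 < 2 ^ n := by positivity
      omega
    obtain ⟨g₀, hg₀⟩ := htr ⟨t, h.htR⟩ a (fun e => h.t_ne (congrArg Subtype.val e)) ha1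
    set g' := g₀⁻¹ * g * g₀
    have hfix' : f g' ⟨t, h.htR⟩ = ⟨t, h.htR⟩ := by
      rw [map_mul, map_mul, map_inv, MulAut.mul_apply, MulAut.mul_apply, hg₀, hfa1, ← hg₀]
      exact (f g₀).symm_apply_apply _
    have hC := (hfix g').2 hfix'
    obtain ⟨k, m, hm, hkm⟩ := Nat.exists_eq_two_pow_mul_odd (orderOf_pos (g' : G)).ne'
    have hR' : ((g' : G) ^ m) ∈ R := h.mem_R_of_two_power ((centralizer ({t} : Set G)).pow_mem hC m)
      (N.pow_mem g'.2 m) (a := k) (by
        rw [orderOf_pow' _ (Nat.pos_iff_ne_zero.1 hm.pos), hkm, Nat.gcd_mul_left_left,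
          Nat.mul_div_cancel _ hm.pos])
    have hone : f g' ^ m = 1 := by
      rw [← map_pow]
      refine MulEquiv.ext fun b => Subtype.ext ?_
      rw [hfa]
      show ((g' ^ m : N) : G) * b * ((g' ^ m : N) : G)⁻¹ = b
      rw [SubmonoidClass.coe_pow, h.comm hR' b.2, mul_inv_cancel_right]
    have hne : f g' ≠ 1 := fun e => hx1 (by
      rw [map_mul, map_mul, map_inv, mul_eq_one_iff_eq_inv, inv_mul_eq_iff_eq_mul, mul_inv_cancel] at e
      exact e)
    have h2' : orderOf (f g') = 2 := orderOf_eq_prime (by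
      rw [map_mul, map_mul, map_inv, pow_two,
        show (f g₀)⁻¹ * f g * f g₀ * ((f g₀)⁻¹ * f g * f g₀) = (f g₀)⁻¹ * (f g * f g) * f g₀ by group, hx2]
      group) hne
    have := orderOf_dvd_of_pow_eq_one hone
    rw [h2'] at this
    exact (Nat.not_even_iff_odd.2 hm) (even_iff_two_dvd.2 this)
  -- `R` is a Sylow subgroup
  obtain ⟨S', hS'⟩ := h.hR2.exists_le_sylow
  have hSR : (S' : Subgroup G) = R := by
    refine le_antisymm ?_ hS'
    haveI := S'.isPGroup'.isNilpotent
    by_contra hnle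
    have hlt : R.subgroupOf (S' : Subgroup G) < ⊤ := lt_top_iff_ne_top.2 fun e => hnle (subgroupOf_eq_top.1 e)
    obtain ⟨x, hx, hxn⟩ := SetLike.exists_of_lt (Group.normalizerCondition_of_isNilpotent _ hlt)
    have hxN : (x : G) ∈ N := mem_normalizer_iff.2 fun g => by
      have key := mem_normalizer_iff.1 hx
      refine ⟨fun hg => (key ⟨g, hS' hg⟩).1 hg, fun hg => ?_⟩
      have hgS : g ∈ (S' : Subgroup G) := by
        simpa [mul_assoc] using
          (S' : Subgroup G).mul_mem ((S' : Subgroup G).mul_mem ((S' : Subgroup G).inv_mem x.2) (hS' hg)) x.2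
      exact (key ⟨g, hgS⟩).2 hg
    obtain ⟨k, hk⟩ := (IsPGroup.iff_orderOf.1 S'.isPGroup') x
    rw [← orderOf_coe] at hk
    have hf1 : f ⟨x, hxN⟩ = 1 := by
      have h1 : orderOf (f ⟨x, hxN⟩) ∣ 2 ^ k := by
        rw [← hk, ← Subgroup.orderOf_mk (x : G) hxN]
        exact orderOf_map_dvd f _
      obtain ⟨j, -, hj⟩ := (Nat.dvd_prime_pow Nat.prime_two).1 h1
      rcases j with _ | j
      · rwa [pow_zero, orderOf_eq_one_iff] at hj
      · have hodd : Odd (orderOf (f ⟨x, hxN⟩)) := by
          have h3 := hXodd.of_dvd_nat (_root_.orderOf_dvd_natCard (⟨f ⟨x, hxN⟩, _, rfl⟩ : X))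
          rwa [← orderOf_coe] at h3
        rw [hj] at hodd
        exact absurd hodd (Nat.not_odd_iff_even.2 (by rw [pow_succ]; exact even_two.mul_left _))
    have hxC := (hfix ⟨x, hxN⟩).2 (by rw [hf1]; rfl)
    exact hxn (h.mem_R_of_two_power hxC hxN hk)
  -- the semilinear bound
  letI : AddCommGroup (Additive R) :=
    { (inferInstance : AddGroup (Additive R)) with
      add_comm := fun a b => Additive.toMul.injective (Subtype.ext (h.comm a.toMul.2 b.toMul.2)) }
  have h2E : ∀ a : Additive R, 2 • a = 0 := fun a => by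
    rw [two_nsmul]; exact Additive.toMul.injective (Subtype.ext (h.exp _ a.toMul.2))
  letI : DistribMulAction X (Additive R) :=
    { smul := fun x a => Additive.ofMul ((x : MulAut R) a.toMul)
      one_smul := fun a => rfl
      mul_smul := fun x y a => rfl
      smul_zero := fun x => congrArg Additive.ofMul (map_one (x : MulAut R))
      smul_add := fun x a b => congrArg Additive.ofMul (map_mul (x : MulAut R) a.toMul b.toMul) }
  haveI : FaithfulSMul X (Additive R) := ⟨fun {x y} hxy => Subtype.ext (MulEquiv.ext fun a =>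
    Additive.ofMul.injective (hxy (Additive.ofMul a)))⟩
  haveI : Nontrivial (Additive R) :=
    ⟨⟨Additive.ofMul ⟨t, h.htR⟩, 0, fun e => h.t_ne (congrArg Subtype.val (congrArg Additive.toMul e))⟩⟩
  have htrX : ∀ a b : Additive R, a ≠ 0 → b ≠ 0 → ∃ x : X, x • a = b := fun a b ha hb => by
    obtain ⟨g, hg⟩ := htr a.toMul b.toMul (fun e => ha e) (fun e => hb e)
    exact ⟨⟨f g, g, rfl⟩, congrArg Additive.ofMul hg⟩
  obtain ⟨hcyc, -, hder⟩ := CfsgLib.OddTransitive.fitting_structure hXodd h2E htrX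
  have hsol : Group.IsSolvable X := by
    haveI := hcyc
    haveI := IsCyclic.isMulCommutative (α := Cfsg.fittingSubgroup X)
    refine ⟨2, eq_bot_iff.2 ?_⟩
    rw [derivedSeries_succ, derivedSeries_one]
    refine (commutator_mono hder hder).trans ?_
    rw [commutator_le]
    intro a ha b hb
    rw [mem_bot, commutatorElement_eq_one_iff_mul_comm]
    exact congrArg Subtype.val (mul_comm' (⟨a, ha⟩ : Cfsg.fittingSubgroup X) ⟨b, hb⟩)
  letI : Module (ZMod 2) (Additive R) := AddCommGroup.zmodModule h2E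
  let π : X →* (Additive R ≃ₗ[ZMod 2] Additive R) :=
    { toFun := fun x =>
        { toFun := fun a => x • a
          map_add' := smul_add x
          map_smul' := fun c a => ZMod.map_smul (DistribSMul.toAddMonoidHom (Additive R) x) c a
          invFun := fun a => x⁻¹ • a
          left_inv := inv_smul_smul x
          right_inv := smul_inv_smul x }
      map_one' := LinearEquiv.ext fun a => one_smul X a
      map_mul' := fun x y => LinearEquiv.ext fun a => mul_smul x y a }
  have hcardE : Nat.card (Additive R) = 2 ^ (n + 1) := by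
    rw [Nat.card_congr Additive.toMul, h.card_R, pow_succ, mul_comm]
  rcases CfsgLib.Huppert.main hsol π
      (fun x y e => FaithfulSMul.eq_of_smul_eq_smul fun a => LinearEquiv.congr_fun e a) htrX with
    ⟨F, hFf, hFt, e, he⟩ | hex
  swap
  · exfalso
    rw [hcardE] at hex
    have h4 : (4 : ℕ) ∣ 2 ^ (n + 1) := dvd_trans (by norm_num) (pow_dvd_pow 2 (show 2 ≤ n + 1 by have := h.hn; omega))
    simp only [Set.mem_insert_iff, Set.mem_singleton_iff] at hex
    rcases hex with e | e | e | e | e | e <;> omega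
  have hFc : Fintype.card F = 2 ^ (n + 1) := by
    rw [← Nat.card_eq_fintype_card, ← Nat.card_congr e.toEquiv, hcardE]
  set t' : Additive R := Additive.ofMul ⟨t, h.htR⟩
  have ht' : e t' ≠ 0 := fun e0 => h.t_ne
    (congrArg Subtype.val (congrArg Additive.toMul (e.map_eq_zero_iff.1 e0)))
  let r : X := ⟨f ⟨ρ, h.hρR⟩, _, rfl⟩
  have hrt : r • t' = t' := congrArg Additive.ofMul ((hfix ⟨ρ, h.hρR⟩).1 h.hρC)
  obtain ⟨a, σ, hσ⟩ := he r
  have hσ' : ∀ v, e (r • v) / e t' = σ (e v / e t') := fun v => by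
    have e1 := hσ t'
    change e (r • t') = a * σ (e t') at e1
    rw [hrt] at e1
    have e2 : e (r • v) = a * σ (e v) := hσ v
    rw [e2]
    conv_lhs => arg 2; rw [e1]
    rw [map_div₀, mul_div_mul_left]
    intro ha0
    rw [ha0, zero_mul] at e1
    exact ht' e1
  have hiter : ∀ (i : ℕ) (v : Additive R), e ((r ^ i) • v) / e t' = (⇑σ)^[i] (e v / e t') := fun i => by
    induction i with
    | zero => intro v; rw [pow_zero, one_smul]; rfl
    | succ i ih => intro v; rw [pow_succ', mul_smul, hσ', ih, Function.iterate_succ_apply']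
  have hper : ∀ v : Additive R, (r ^ (n + 1)) • v = v := fun v => e.injective (by
    have := hiter (n + 1) v
    rwa [ringAut_iterate (Nat.succ_ne_zero n) hFc, div_left_inj' ht'] at this)
  have hbound : 2 ^ n - 1 ≤ n + 1 := by
    obtain ⟨d, hd, hd1⟩ := h.exists_ne_one
    have hsub : ∀ b : D, b ≠ 1 → ∃ i : Fin (n + 1), (b : G) = ρ ^ (i : ℕ) * d * (ρ ^ (i : ℕ))⁻¹ := by
      intro b hb
      obtain ⟨i, hi⟩ := h.hρtrans d hd b b.2 hd1 fun e => hb (Subtype.ext e)
      refine ⟨⟨i % (n + 1), Nat.mod_lt _ (Nat.succ_pos n)⟩, ?_⟩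
      have hact : ∀ j : ℕ, ((((r ^ j) • Additive.ofMul (⟨d, h.hDR hd⟩ : R)).toMul : R) : G) =
          ρ ^ j * d * (ρ ^ j)⁻¹ := fun j => by
        induction j with
        | zero =>
          rw [pow_zero, one_smul, pow_zero, one_mul, inv_one, mul_one]
          rfl
        | succ j ih =>
          rw [pow_succ', mul_smul, pow_succ']
          show ρ * ((((r ^ j) • Additive.ofMul (⟨d, h.hDR hd⟩ : R)).toMul : R) : G) * ρ⁻¹ = _
          rw [ih]; group
      have hmod : (r ^ i) • Additive.ofMul (⟨d, h.hDR hd⟩ : R) =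
          (r ^ (i % (n + 1))) • Additive.ofMul (⟨d, h.hDR hd⟩ : R) := by
        conv_lhs => rw [← Nat.mod_add_div i (n + 1), pow_add, mul_smul]
        congr 1
        generalize i / (n + 1) = k
        induction k with
        | zero => rw [mul_zero, pow_zero, one_smul]
        | succ k ih => rw [Nat.mul_succ, pow_add, mul_smul, hper, ih]
      have e := congrArg (fun v : Additive R => ((v.toMul : R) : G)) hmod
      simp only [hact] at e
      exact hi.symm.trans e
    choose g hg using hsub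
    have hinj : Function.Injective fun b : {b : D // b ≠ 1} => g b.1 b.2 := fun b b' e =>
      Subtype.ext (Subtype.ext ((hg b.1 b.2).trans ((congrArg (fun i : Fin (n + 1) =>
        ρ ^ (i : ℕ) * d * (ρ ^ (i : ℕ))⁻¹) e).trans (hg b'.1 b'.2).symm)))
    have hle := Nat.card_le_card_of_injective _ hinj
    rw [Nat.card_fin] at hle
    refine le_trans ?_ hle
    have hc : Nat.card {b : D // b ≠ 1} = Nat.card D - 1 := by
      rw [show {b : D // b ≠ 1} = ↥({b : D | b ≠ 1}) from rfl, Nat.card_coe_set_eq,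
        show ({b : D | b ≠ 1} : Set D) = Set.univ \ {1} by ext; simp, Set.ncard_sdiff (Set.subset_univ _),
        Set.ncard_univ, Set.ncard_singleton]
    rw [hc, h.hcard]
  have hn2 : n = 2 := by
    have h2n := h.hn
    by_contra hne
    have h3 : ∀ m : ℕ, 3 ≤ m → m + 3 ≤ 2 ^ m := fun m hm => by
      induction m, hm using Nat.le_induction with
      | base => norm_num
      | succ m hm ih => rw [pow_succ]; omega
    have := h3 n (by omega)
    omega
  obtain ⟨g, hg⟩ := MulAction.exists_smul_eq G S' S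
  have hcS : Nat.card (S : Subgroup G) = 8 := by
    rw [← hg]
    show Nat.card ((S' : Subgroup G).map (MulAut.conj g).toMonoidHom) = 8
    rw [← Nat.card_congr ((S' : Subgroup G).equivMapOfInjective _ (MulAut.conj g).injective).toEquiv, hSR,
      h.card_R, hn2]; rfl
  refine ⟨hcS, fun x hx => ?_⟩
  rw [← hg] at hx
  obtain ⟨y, hy, rfl⟩ := hx
  show (MulAut.conj g y) ^ 2 = 1
  rw [← map_pow, pow_two, h.exp y (hSR ▸ hy), map_one]

/-- The dichotomy for the conjugates of `t` in `R`. -/
theorem dichotomy [IsSimpleGroup G] (hG : ¬ IsMulCommutative G) (S : Sylow 2 G) :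
    (Nat.card (S : Subgroup G) = 8 ∧ ∀ x ∈ (S : Subgroup G), x ^ 2 = 1) ∨
      ∀ u ∈ R, (∃ g : G, g * t * g⁻¹ = u) ↔ t * u ∈ D := by
  classical
  obtain ⟨d, hd, hd1⟩ := h.exists_ne_one
  have hspread : ∀ a ∈ D, a ≠ 1 → (∃ g : G, g * t * g⁻¹ = a) → ∀ b ∈ D, b ≠ 1 → ∃ g : G, g * t * g⁻¹ = b := by
    intro a ha ha1 ⟨g, hg⟩ b hb hb1
    obtain ⟨i, hi⟩ := h.hρtrans a ha b hb ha1 hb1
    exact ⟨ρ ^ i * g, by rw [← hi, ← hg]; group⟩
  have hspread' : ∀ a ∈ D, a ≠ 1 → (∃ g : G, g * t * g⁻¹ = t * a) →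
      ∀ b ∈ D, b ≠ 1 → ∃ g : G, g * t * g⁻¹ = t * b := by
    intro a ha ha1 ⟨g, hg⟩ b hb hb1
    obtain ⟨i, hi⟩ := h.td_conj ha hb ha1 hb1
    exact ⟨ρ ^ i * g, by rw [← hi, ← hg]; group⟩
  by_cases hD : ∃ g : G, g * t * g⁻¹ = d
  · by_cases hT : ∃ g : G, g * t * g⁻¹ = t * d
    · refine Or.inl (h.all_conj_case (fun u hu hu1 => ?_) S)
      rcases h.split u hu with hu' | hu'
      · exact hspread d hd hd1 hD u hu' hu1
      · rcases eq_or_ne (t * u) 1 with e | e
        · exact ⟨1, by rw [mul_eq_one_iff_inv_eq, h.inv_R h.htR] at e; rw [← e]; group⟩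
        · obtain ⟨g, hg⟩ := hspread' d hd hd1 hT _ hu' e
          exact ⟨g, by rw [hg, ← mul_assoc, h.t_sq, one_mul]⟩
    · exfalso
      -- `N(R)` must fix `t`
      obtain ⟨g, hg⟩ := hD
      obtain ⟨x, hx, hxt⟩ := h.fusion (h.hDR hd) hg
      -- another element of `D`
      obtain ⟨b, hb, hb1, hbd⟩ : ∃ b ∈ D, b ≠ 1 ∧ b ≠ d := by
        by_contra hcon
        push Not at hcon
        have hle : Nat.card D ≤ 2 := by
          rw [← Nat.card_fin 2]
          refine Nat.card_le_card_of_injective (fun b : D => if (b : G) = 1 then (0 : Fin 2) else 1) fun a b hab => ?_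
          by_cases ha : (a : G) = 1 <;> by_cases hb' : (b : G) = 1 <;> simp [ha, hb'] at hab
          · exact Subtype.ext (ha.trans hb'.symm)
          · exact Subtype.ext ((hcon a a.2 ha).trans (hcon b b.2 hb').symm)
        have := h.hcard ▸ hle
        have h2 := Nat.pow_le_pow_right (show 0 < 2 by norm_num) h.hn
        omega
      obtain ⟨g', hg'⟩ := hspread d hd hd1 ⟨g, hg⟩ b hb hb1
      obtain ⟨g'', hg''⟩ := hspread d hd hd1 ⟨g, hg⟩ (d * b) (D.mul_mem hd hb) fun e => hbd (by
        rw [mul_eq_one_iff_inv_eq, h.inv_R (h.hDR hd)] at e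
        exact e.symm)
      set b' := x⁻¹ * b * x with hb'
      have hb'R : b' ∈ R := (mem_normalizer_iff''.1 hx b).1 (h.hDR hb)
      have hb'c : ∃ g : G, g * t * g⁻¹ = b' := ⟨x⁻¹ * g', by rw [hb', ← hg']; group⟩
      rcases h.split b' hb'R with hbD | hbD
      · have e : t * b' = x⁻¹ * (d * b) * x := by rw [hb', ← hxt]; group
        have hne : b' ≠ 1 := fun e => hb1 (by
          rw [hb', mul_assoc, inv_mul_eq_one, eq_comm, mul_eq_right] at e; exact e)
        exact hT (hspread' b' hbD hne ⟨x⁻¹ * g'', by rw [e, ← hg'']; group⟩ d hd hd1)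
      · rcases eq_or_ne (t * b') 1 with e | e
        · rw [mul_eq_one_iff_inv_eq, h.inv_R h.htR] at e
          exact hbd (by rw [← hxt, e, hb']; group)
        · obtain ⟨gb, hgb⟩ := hb'c
          exact hT (hspread' _ hbD e ⟨gb, by rw [hgb, ← mul_assoc, h.t_sq, one_mul]⟩ d hd hd1)
  · by_cases hT : ∃ g : G, g * t * g⁻¹ = t * d
    · refine Or.inr fun u hu => ⟨fun ⟨g, hg⟩ => ?_, fun hu' => ?_⟩
      · rcases h.split u hu with hu' | hu'
        · rcases eq_or_ne u 1 with e | e
          · exact absurd (by rw [e, conj_eq_one_iff] at hg; exact hg) h.t_ne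
          · exact absurd (hspread u hu' e ⟨g, hg⟩ d hd hd1) hD
        · exact hu'
      · rcases eq_or_ne (t * u) 1 with e | e
        · exact ⟨1, by rw [mul_eq_one_iff_inv_eq, h.inv_R h.htR] at e; rw [← e]; group⟩
        · obtain ⟨g, hg⟩ := hspread' d hd hd1 hT _ hu' e
          exact ⟨g, by rw [hg, ← mul_assoc, h.t_sq, one_mul]⟩
    · exfalso
      refine false_of_isolated_invol hG ⟨h.ht, fun g hg => ?_⟩
      set u := g * t * g⁻¹ with hu
      have hu2 : IsPGroup 2 (zpowers u) := IsPGroup.of_card (n := 1)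
        (by rw [Nat.card_zpowers, hu, CfsgLib.Invol.orderOf_conj_eq, h.ht, pow_one])
      obtain ⟨c, hc, hcR⟩ := h.exists_conj_le hu2 (zpowers_le.2 (mem_centralizer_singleton_iff.2 hg.eq.symm))
      have hR' := hcR u (mem_zpowers u)
      have hconj : ∃ g' : G, g' * t * g'⁻¹ = c * u * c⁻¹ := ⟨c * g, by rw [hu]; group⟩
      rcases h.split _ hR' with hv | hv
      · rcases eq_or_ne (c * u * c⁻¹) 1 with e | e
        · exact absurd (by rw [conj_eq_one_iff, hu, conj_eq_one_iff] at e; exact e) h.t_ne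
        · exact absurd (hspread _ hv e hconj d hd hd1) hD
      · rcases eq_or_ne (t * (c * u * c⁻¹)) 1 with e | e
        · rw [mul_eq_one_iff_inv_eq, h.inv_R h.htR] at e
          have := mem_centralizer_singleton_iff.1 hc
          calc u = c⁻¹ * (c * u * c⁻¹) * c := by group
            _ = c⁻¹ * t * c := by rw [← e]
            _ = t := by rw [mul_assoc, ← this, inv_mul_cancel_left]
        · obtain ⟨g', hg'⟩ := hconj
          exact absurd (hspread' _ hv e ⟨g', by rw [hg', ← mul_assoc t t, h.t_sq, one_mul]⟩ d hd hd1) hT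

end ElemData

end CfsgLib.TwoTimesPSL
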