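import Cfsg.Agent.AlphaRho.Main

/-!
A noncommutative 2-group with an involutory automorphism whose fixed points carry a transitive commuting torus has
squares fixed and order the cube of the number of fixed points; rigidity of odd automorphisms.
-/

set_option autoImplicit false
set_option linter.unusedSectionVars false
set_option linter.style.haveILetI false

namespace CfsgLib.TwoTimesPSL

open AlphaRho in
theorem noncomm_facts {Q : Type*} [Group Q] [Finite Q] (hQ : IsPGroup 2 Q) (hnc : ∃ x y : Q, x * y ≠ y * x)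
    (n : ℕ) (hn : 2 ≤ n) (α ρ : MulAut Q) (hα : ∀ x, α (α x) = x) (hc : ∀ x, α (ρ x) = ρ (α x))
    (C : Subgroup Q) (hC : ∀ x, x ∈ C ↔ α x = x) (hexp : ∀ x ∈ C, x * x = 1) (hcard : Nat.card C = 2 ^ n)
    (htr : ∀ x y, x ∈ C → y ∈ C → x ≠ 1 → y ≠ 1 → ∃ k : ℕ, (⇑ρ)^[k] x = y)
    (hper : ∀ x, (⇑ρ)^[2 ^ n - 1] x = x) :
    (∀ x, x * x ∈ C) ∧ (∀ c ∈ C, c ∈ Subgroup.center Q) ∧ Nat.card Q = (2 ^ n) ^ 3 := by
  classical
  have hρC : ∀ x ∈ C, ρ x ∈ C := fun x hx => by rw [hC, hc, (hC x).1 hx]
  letI : AddCommGroup (Additive C) :=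
    { (inferInstance : AddGroup (Additive C)) with
      add_comm := fun a b => by
        have e : ∀ z : C, z⁻¹ = z := fun z => inv_eq_of_mul_eq_one_right (Subtype.ext (hexp z z.2))
        show Additive.ofMul (a.toMul * b.toMul) = Additive.ofMul (b.toMul * a.toMul)
        rw [← e (a.toMul * b.toMul), mul_inv_rev, e, e] }
  let T : Additive C →+ Additive C := MonoidHom.toAdditive
    (MonoidHom.mk' (fun c => (⟨ρ c, hρC c c.2⟩ : C)) fun a b => Subtype.ext (map_mul ρ (a : Q) b))
  have hTit : ∀ (k : ℕ) (c : Additive C), (((T^[k] c).toMul : C) : Q) = (⇑ρ)^[k] (c.toMul : Q) := by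
    intro k
    induction k with
    | zero => intro c; rfl
    | succ k ih => intro c; rw [Function.iterate_succ_apply', Function.iterate_succ_apply', ← ih]; rfl
  obtain ⟨θ₀, ζ, hθρ, hgen⟩ := exists_field_coord (A := Additive C) (n := n) (by omega)
    ((Nat.card_congr Additive.toMul).trans hcard) T
    (fun a b h => Subtype.ext (ρ.injective (congrArg Subtype.val h)))
    fun x y hx hy => by
      obtain ⟨k, hk⟩ := htr (x.toMul : Q) (y.toMul : Q) x.toMul.2 y.toMul.2
        (fun h => hx (Subtype.ext h : x.toMul = 1)) (fun h => hy (Subtype.ext h : y.toMul = 1))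
      exact ⟨k, Additive.toMul.injective (Subtype.ext ((hTit k x).trans hk))⟩
  let θ : Q → GaloisField 2 n := fun x => if h : α x = x then θ₀ (Additive.ofMul ⟨x, (hC x).2 h⟩) else 0
  have hθ : ∀ x (h : α x = x), θ x = θ₀ (Additive.ofMul ⟨x, (hC x).2 h⟩) := fun x h => dif_pos h
  haveI : Fact (Nat.Prime 2) := ⟨Nat.prime_two⟩
  have hFcard : Nat.card (GaloisField 2 n) = 2 ^ n := GaloisField.card 2 n (by omega)
  let X : Ctx Q (GaloisField 2 n) :=
    { α := α
      ρ := ρ
      θ := θ
      ζ := ζ
      inv := hα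
      comm := hc
      sq_one := fun c h => hexp c ((hC c).2 h)
      θ_add := fun c c' h h' => by
        rw [hθ _ (by rw [map_mul, h, h']), hθ c h, hθ c' h', ← map_add]; rfl
      θ_ker := fun c h h0 => by
        rw [hθ c h] at h0
        exact congrArg (fun a : Additive C => ((a.toMul : C) : Q)) (θ₀.injective (h0.trans (map_zero θ₀).symm))
      θ_surj := fun t => by
        have hmem := (hC _).1 (θ₀.symm t).toMul.2
        exact ⟨_, hmem, by rw [hθ _ hmem]; exact θ₀.apply_symm_apply t⟩
      θ_ρ := fun c h => by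
        rw [hθ _ (by rw [hc, h]), hθ c h, ← hθρ]; rfl
      gen := hgen
      big := by rw [hFcard]; exact le_trans (by norm_num) (Nat.pow_le_pow_right two_pos hn)
      period := fun x => by rw [hFcard]; exact hper x }
  obtain ⟨u, w, η, hu, hw, hsurj, hker, hsq⟩ := X.exists_quad hQ hnc
  refine ⟨fun x => (hC _).2 (hsq x).1, fun c h => X.central hQ ((hC c).1 h), ?_⟩
  let π : Q →* Multiplicative (GaloisField 2 n × GaloisField 2 n) :=
    MonoidHom.mk' (fun x => Multiplicative.ofAdd (u x, w x)) fun x y => by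
      show Multiplicative.ofAdd (u (x * y), w (x * y)) = Multiplicative.ofAdd ((u x, w x) + (u y, w y))
      rw [hu, hw]; rfl
  have hπk : π.ker = C := by
    ext x
    rw [MonoidHom.mem_ker, hC, hker]
    exact ⟨fun h => ⟨congrArg Prod.fst h, congrArg Prod.snd h⟩,
      fun h => congrArg Multiplicative.ofAdd (Prod.ext h.1 h.2)⟩
  have hπs : Function.Surjective π := fun v => by
    obtain ⟨x, h1, h2⟩ := hsurj (Multiplicative.toAdd v).1 (Multiplicative.toAdd v).2
    exact ⟨x, congrArg Multiplicative.ofAdd (Prod.ext h1 h2)⟩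
  rw [← Subgroup.card_mul_index π.ker, hπk, hcard]
  rw [show C.index = (π.ker).index by rw [hπk], Subgroup.index_ker, MonoidHom.range_eq_top.2 hπs,
    Subgroup.card_top, Nat.card_congr Multiplicative.toAdd, Nat.card_prod, hFcard]
  ring

/-- An automorphism of odd order acting trivially on a subgroup into which it moves everything trivially. -/
theorem fixed_of_odd {H : Type*} [Group H] {β : MulAut H} (hodd : Odd (orderOf β)) {x d : H}
    (hd : d * d = 1) (hβd : β d = d) (hx : β x = x * d) : β x = x := by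
  have key : ∀ i : ℕ, (β ^ i) x = x * d ^ i := fun i => by
    induction i with
    | zero => simp
    | succ i ih => rw [pow_succ', MulAut.mul_apply, ih, map_mul, hx, map_pow, hβd, mul_assoc, ← pow_succ']
  have e := key (orderOf β)
  rw [pow_orderOf_eq_one, MulAut.one_apply, left_eq_mul] at e
  obtain ⟨k, hk⟩ := hodd
  rw [hk, pow_succ, pow_mul, pow_two, hd, one_pow, one_mul] at e
  rw [hx, e, mul_one]

end CfsgLib.TwoTimesPSL
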