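import Cfsg.Agent.TwoTimesPSL.ElemBase
import Cfsg.Agent.TwoTimesPSL.AffMain

/-!
A level: a homocyclic group `A` with `Ω₁(A) = D`, inverted by `t`; the normaliser of `A⟨t⟩` permutes the classes
`t a A²` as an affine group on `D`.
-/

set_option autoImplicit false
set_option linter.unusedSectionVars false
set_option linter.style.haveILetI false

namespace CfsgLib.TwoTimesPSL

open Subgroup

variable {G : Type*} [Group G]

/-- A level. -/
structure Level (t : G) (R D : Subgroup G) (ρ : G) (n k : ℕ) (A : Subgroup G) : Prop where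
  base : ElemData t R D ρ n
  hk : 1 ≤ k
  comm : ∀ a ∈ A, ∀ b ∈ A, a * b = b * a
  hDA : D ≤ A
  htA : t ∉ A
  card : Nat.card A = (2 ^ n) ^ k
  hexp : ∀ a ∈ A, a ^ 2 ^ k = 1
  omega : ∀ a ∈ A, a * a = 1 → a ∈ D
  inv : ∀ a ∈ A, t * a * t = a⁻¹
  torus : ∃ r ∈ centralizer ({t} : Set G), Odd (orderOf r) ∧ r ∈ normalizer (A : Set G) ∧
    ∀ d ∈ D, r * d * r⁻¹ = ρ * d * ρ⁻¹
  normA : normalizer ((A ⊔ zpowers t : Subgroup G) : Set G) ≤ normalizer (A : Set G)

namespace Level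

variable {t : G} {R D : Subgroup G} {ρ : G} {n k : ℕ} {A : Subgroup G} (L : Level t R D ρ n k A)
include L

theorem t_inv : t⁻¹ = t := inv_eq_of_mul_eq_one_right L.base.t_sq

theorem t_norm : t ∈ normalizer (A : Set G) := mem_normalizer_iff.2 fun a => by
  rw [L.t_inv]
  refine ⟨fun ha => by rw [L.inv a ha]; exact A.inv_mem ha, fun ha => ?_⟩
  have e : t * (t * a * t) * t = a := by
    calc t * (t * a * t) * t = (t * t) * a * (t * t) := by group
      _ = a := by rw [L.base.t_sq, one_mul, mul_one]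
  rw [← e, L.inv _ ha]
  exact A.inv_mem ha

theorem mem_M {x : G} : x ∈ A ⊔ zpowers t ↔ x ∈ A ∨ t * x ∈ A := by
  constructor
  · intro hx
    rw [sup_comm] at hx
    obtain ⟨z, hz, a, ha, rfl⟩ := (CfsgLib.Solvable.mem_sup_of_le_normalizer (zpowers_le.2 L.t_norm)).1 hx
    rcases mem_zpowers_invol L.base.t_sq hz with rfl | rfl
    · rw [one_mul]; exact Or.inl ha
    · exact Or.inr (by rwa [← mul_assoc, L.base.t_sq, one_mul])
  · rintro (hx | hx)
    · exact mem_sup_left hx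
    · have := (A ⊔ zpowers t).mul_mem (mem_sup_right (mem_zpowers t)) (mem_sup_left hx)
      rwa [← mul_assoc, L.base.t_sq, one_mul] at this

theorem t_mem : t ∈ A ⊔ zpowers t := mem_sup_right (mem_zpowers t)

theorem RM : R ≤ A ⊔ zpowers t := fun x hx => L.mem_M.2 ((L.base.split x hx).imp (fun h => L.hDA h) fun h => L.hDA h)

theorem ta_sq {a : G} (ha : a ∈ A) : (t * a) * (t * a) = 1 := by
  rw [← mul_assoc, show t * a * t = a⁻¹ from L.inv a ha, inv_mul_cancel]

theorem M_two [Finite G] : IsPGroup 2 (A ⊔ zpowers t : Subgroup G) := by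
  haveI : Fact (Nat.Prime 2) := ⟨Nat.prime_two⟩
  have hA : IsPGroup 2 A := fun a => ⟨k, Subtype.ext (L.hexp a a.2)⟩
  have ht : IsPGroup 2 (zpowers t) := IsPGroup.of_card (n := 1) (by rw [Nat.card_zpowers, L.base.ht, pow_one])
  rw [sup_comm]
  exact ht.to_sup_of_normal_right' hA (zpowers_le.2 L.t_norm)

theorem card_M [Finite G] : Nat.card (A ⊔ zpowers t : Subgroup G) = 2 * Nat.card A := by
  have hle : A ≤ A ⊔ zpowers t := le_sup_left
  rw [← card_mul_index (A.subgroupOf (A ⊔ zpowers t)), Nat.card_congr (subgroupOfEquivOfLe hle).toEquiv, mul_comm]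
  congr 1
  refine index_eq_two_iff.2 ⟨⟨t, L.t_mem⟩, fun x => ?_⟩
  rcases L.mem_M.1 x.2 with hx | hx
  · refine Or.inr ⟨hx, fun hm => L.htA ?_⟩
    have hm' : (x : G) * t ∈ A := hm
    simpa using A.mul_mem (A.inv_mem hx) hm'
  · have e : (x : G) * t = t * (t * (x : G)) * t := by
      rw [← mul_assoc, L.base.t_sq, one_mul]
    refine Or.inl ⟨mem_subgroupOf.2 ?_, fun hm => L.htA ?_⟩
    · show (x : G) * t ∈ A
      rw [e, L.inv _ hx]
      exact A.inv_mem hx
    · have hm' : (x : G) ∈ A := hm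
      simpa [mul_assoc] using A.mul_mem hx (A.inv_mem hm')

omit L in
/-- The element moved out. -/
def al (t g : G) : G := t * (g * t * g⁻¹)

theorem conj_t (g : G) : g * t * g⁻¹ = t * al t g := by
  unfold al; rw [← mul_assoc, L.base.t_sq, one_mul]

omit L in
/-- The value in `D`. -/
def del (t : G) (k : ℕ) (g : G) : G := al t g ^ 2 ^ (k - 1)

theorem al_mem {g : G} (hg : g ∈ normalizer ((A ⊔ zpowers t : Subgroup G) : Set G)) : al t g ∈ A := by
  have hM := (mem_normalizer_iff.1 hg t).1 L.t_mem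
  rcases L.mem_M.1 hM with h1 | h1
  · exact absurd ((mem_normalizer_iff.1 (L.normA hg) t).2 h1) L.htA
  · exact h1

theorem al_mul (g h : G) : al t (g * h) = al t g * (g * al t h * g⁻¹) := by
  have e : t * t = 1 := L.base.t_sq
  unfold al
  calc t * (g * h * t * (g * h)⁻¹) = t * g * (t * t) * (h * t * h⁻¹) * g⁻¹ := by rw [e]; group
    _ = t * (g * t * g⁻¹) * (g * (t * (h * t * h⁻¹)) * g⁻¹) := by group

theorem pow_hom {a b : G} (ha : a ∈ A) (hb : b ∈ A) (j : ℕ) : (a * b) ^ j = a ^ j * b ^ j :=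
  (show Commute a b from L.comm a ha b hb).mul_pow j

theorem two_pow_pred : 2 ^ (k - 1) * 2 = 2 ^ k := by
  rw [← pow_succ, Nat.sub_add_cancel L.hk]

theorem pow_mem_D {a : G} (ha : a ∈ A) : a ^ 2 ^ (k - 1) ∈ D :=
  L.omega _ (A.pow_mem ha _) (by rw [← pow_two, ← pow_mul, L.two_pow_pred, L.hexp a ha])

theorem D_sq {d : G} (hd : d ∈ D) : d * d = 1 := L.base.exp d (L.base.hDR hd)

theorem card_torsion [Finite G] (j : ℕ) :
    Nat.card {a : A // (a : G) ^ 2 ^ j = 1} ≤ (2 ^ n) ^ j := by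
  induction j with
  | zero =>
    rw [pow_zero, pow_zero]
    haveI : Subsingleton {a : A // (a : G) ^ 1 = 1} := ⟨fun a b => Subtype.ext (Subtype.ext (by
      have ha := a.2
      have hb := b.2
      rw [pow_one] at ha hb
      rw [ha, hb]))⟩
    exact Finite.card_le_one_iff_subsingleton.2 inferInstance
  | succ j ih =>
    have hA : Finite A := inferInstance
    let f : {a : A // (a : G) ^ 2 ^ (j + 1) = 1} → {a : A // (a : G) ^ 2 ^ j = 1} := fun a =>
      ⟨a.1 ^ 2, by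
        show ((a.1 : G) ^ 2) ^ 2 ^ j = 1
        rw [← pow_mul, mul_comm, ← pow_succ, a.2]⟩
    classical
    haveI : Nonempty {a : A // (a : G) ^ 2 ^ (j + 1) = 1} := ⟨⟨1, by simp⟩⟩
    let g : {a : A // (a : G) ^ 2 ^ (j + 1) = 1} → {a : A // (a : G) ^ 2 ^ j = 1} × D := fun a =>
      (f a, ⟨((Function.invFun f (f a)).1 : G)⁻¹ * a.1, by
        set b := Function.invFun f (f a)
        have e : f b = f a := Function.invFun_eq ⟨a, rfl⟩
        have e' : (b.1 : G) ^ 2 = (a.1 : G) ^ 2 :=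
          congrArg (fun z : {a : A // (a : G) ^ 2 ^ j = 1} => ((z.1 : A) : G)) e
        refine L.omega _ (A.mul_mem (A.inv_mem b.1.2) a.1.2) ?_
        rw [← pow_two, L.pow_hom (A.inv_mem b.1.2) a.1.2, inv_pow, e', inv_mul_cancel]⟩)
    have hg : Function.Injective g := fun a b e => by
      have e1 : f a = f b := congrArg Prod.fst e
      have e2 : ((Function.invFun f (f a)).1 : G)⁻¹ * a.1 = ((Function.invFun f (f b)).1 : G)⁻¹ * b.1 :=
        congrArg (fun z : _ × D => (z.2 : G)) e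
      rw [e1] at e2
      exact Subtype.ext (Subtype.ext (mul_left_cancel e2))
    refine (Nat.card_le_card_of_injective g hg).trans ?_
    rw [Nat.card_prod, L.base.hcard, pow_succ (2 ^ n) j]
    exact Nat.mul_le_mul_right _ ih

/-- The power map onto `D`, and its kernel. -/
theorem pow_onto [Finite G] : (∀ d ∈ D, ∃ a ∈ A, a ^ 2 ^ (k - 1) = d) ∧
    ∀ a ∈ A, a ^ 2 ^ (k - 1) = 1 → ∃ b ∈ A, b * b = a := by
  let φ : A →* D := MonoidHom.mk' (fun a => ⟨(a : G) ^ 2 ^ (k - 1), L.pow_mem_D a.2⟩)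
    fun a b => Subtype.ext (L.pow_hom a.2 b.2 _)
  let σ : A →* A := MonoidHom.mk' (fun a => a * a) fun a b => Subtype.ext (by
    show (a : G) * b * ((a : G) * b) = (a : G) * a * ((b : G) * b)
    rw [mul_assoc (a : G), ← mul_assoc (b : G), L.comm b b.2 a a.2]; group)
  have hk1 : Nat.card φ.ker ≤ (2 ^ n) ^ (k - 1) := by
    refine le_trans ?_ (L.card_torsion (k - 1))
    exact Nat.card_le_card_of_injective (fun a => ⟨a.1, congrArg Subtype.val a.2⟩)
      fun a b e => Subtype.ext (congrArg (fun z => z.1) e)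
  have hσk : Nat.card σ.ker ≤ 2 ^ n := by
    rw [← L.base.hcard]
    exact Nat.card_le_card_of_injective (fun a => ⟨a.1.1, L.omega _ a.1.2 (congrArg Subtype.val a.2)⟩)
      fun a b e => Subtype.ext (Subtype.ext (congrArg (fun z : D => (z : G)) e))
  have hpos : 0 < 2 ^ n := Nat.two_pow_pos n
  have hsplit : (2 ^ n) ^ k = (2 ^ n) ^ (k - 1) * 2 ^ n := by rw [← pow_succ, Nat.sub_add_cancel L.hk]
  have hφr : φ.range = ⊤ := by
    refine eq_top_of_card_eq _ (le_antisymm (card_le_card_group _) ?_)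
    have e : Nat.card φ.ker * Nat.card φ.range = (2 ^ n) ^ k := by
      rw [← index_ker, card_mul_index, L.card]
    rw [L.base.hcard]
    refine Nat.le_of_mul_le_mul_left ?_ (pow_pos hpos (k - 1))
    rw [← hsplit, ← e]
    exact Nat.mul_le_mul_right _ hk1
  refine ⟨fun d hd => ?_, fun a ha h1 => ?_⟩
  · obtain ⟨a, ha⟩ := MonoidHom.range_eq_top.1 hφr ⟨d, hd⟩
    exact ⟨a, a.2, congrArg Subtype.val ha⟩
  · have hle : σ.range ≤ φ.ker := by
      rintro _ ⟨b, rfl⟩
      refine Subtype.ext ?_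
      show ((b : G) * b) ^ 2 ^ (k - 1) = 1
      rw [← pow_two, ← pow_mul, mul_comm, L.two_pow_pred, L.hexp b b.2]
    have heq : σ.range = φ.ker := by
      refine eq_of_le_of_card_ge hle ?_
      have e : Nat.card σ.ker * Nat.card σ.range = (2 ^ n) ^ k := by rw [← index_ker, card_mul_index, L.card]
      refine Nat.le_of_mul_le_mul_left ?_ hpos
      calc 2 ^ n * Nat.card φ.ker ≤ 2 ^ n * (2 ^ n) ^ (k - 1) := Nat.mul_le_mul_left _ hk1
        _ = Nat.card σ.ker * Nat.card σ.range := by rw [e, hsplit, mul_comm]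
        _ ≤ 2 ^ n * Nat.card σ.range := Nat.mul_le_mul_right _ hσk
    have hm : (⟨a, ha⟩ : A) ∈ φ.ker := Subtype.ext h1
    rw [← heq] at hm
    obtain ⟨b, hb⟩ := hm
    exact ⟨b, b.2, congrArg Subtype.val hb⟩

theorem D_conj {g : G} (hg : g ∈ normalizer (A : Set G)) {d : G} (hd : d ∈ D) : g * d * g⁻¹ ∈ D :=
  L.omega _ ((mem_normalizer_iff.1 hg d).1 (L.hDA hd)) (by
    rw [show g * d * g⁻¹ * (g * d * g⁻¹) = g * (d * d) * g⁻¹ by group, L.D_sq hd]; group)

theorem del_mem {g : G} (hg : g ∈ normalizer ((A ⊔ zpowers t : Subgroup G) : Set G)) : del t k g ∈ D :=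
  L.pow_mem_D (L.al_mem hg)

theorem del_mul {g h : G} (hg : g ∈ normalizer ((A ⊔ zpowers t : Subgroup G) : Set G))
    (hh : h ∈ normalizer ((A ⊔ zpowers t : Subgroup G) : Set G)) :
    del t k (g * h) = del t k g * (g * del t k h * g⁻¹) := by
  show al t (g * h) ^ 2 ^ (k - 1) = al t g ^ 2 ^ (k - 1) * (g * al t h ^ 2 ^ (k - 1) * g⁻¹)
  rw [L.al_mul, L.pow_hom (L.al_mem hg) ((mem_normalizer_iff.1 (L.normA hg) _).1 (L.al_mem hh)), conj_pow]

theorem del_one : del t k 1 = 1 := by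
  show (t * (1 * t * 1⁻¹)) ^ _ = 1
  rw [one_mul, inv_one, mul_one, L.base.t_sq, one_pow]

theorem A_comm_D {a d : G} (ha : a ∈ A) (hd : d ∈ D) : a * d * a⁻¹ = d := by
  rw [L.comm a ha d (L.hDA hd), mul_inv_cancel_right]

theorem t_comm_D {d : G} (hd : d ∈ D) : t * d * t⁻¹ = d := by
  rw [← L.base.comm_t (L.base.hDR hd), mul_inv_cancel_right]

theorem M_comm_D {m d : G} (hm : m ∈ A ⊔ zpowers t) (hd : d ∈ D) : m * d * m⁻¹ = d := by
  rcases L.mem_M.1 hm with h1 | h1
  · exact L.A_comm_D h1 hd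
  · have e : m = t * (t * m) := by rw [← mul_assoc, L.base.t_sq, one_mul]
    calc m * d * m⁻¹ = t * (t * m * d * (t * m)⁻¹) * t⁻¹ := by conv_lhs => rw [e]
                                                               group
      _ = d := by rw [L.A_comm_D h1 hd, L.t_comm_D hd]

theorem mem_N_of_M {m : G} (hm : m ∈ A ⊔ zpowers t) : m ∈ normalizer ((A ⊔ zpowers t : Subgroup G) : Set G) :=
  le_normalizer hm

theorem del_of_M {m : G} (hm : m ∈ A ⊔ zpowers t) : del t k m = 1 := by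
  have key : ∀ a ∈ A, al t a = a⁻¹ * a⁻¹ := fun a ha => by
    show t * (a * t * a⁻¹) = _
    rw [← mul_assoc, ← mul_assoc, L.inv a ha]
  rcases L.mem_M.1 hm with h1 | h1
  · show al t m ^ 2 ^ (k - 1) = 1
    rw [key m h1, ← pow_two, ← pow_mul, mul_comm, L.two_pow_pred, L.hexp _ (A.inv_mem h1)]
  · have e : m = t * (t * m) := by rw [← mul_assoc, L.base.t_sq, one_mul]
    have ht1 : del t k t = 1 := by
      show (t * (t * t * t⁻¹)) ^ _ = 1
      rw [L.base.t_sq, one_mul, mul_inv_cancel, one_pow]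
    rw [e, L.del_mul (L.mem_N_of_M L.t_mem) (L.mem_N_of_M (mem_sup_left h1)), ht1, one_mul]
    have h2 : del t k (t * m) = 1 := by
      show al t (t * m) ^ 2 ^ (k - 1) = 1
      rw [key _ h1, ← pow_two, ← pow_mul, mul_comm, L.two_pow_pred, L.hexp _ (A.inv_mem h1)]
    rw [h2]; group

/-- An element fixing the class of `t` is `A` times an element centralising `t` and normalising `R`. -/
theorem stab_lift [Finite G] {g : G} (hg : g ∈ normalizer ((A ⊔ zpowers t : Subgroup G) : Set G))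
    (h1 : del t k g = 1) :
    ∃ b ∈ A, b * g ∈ centralizer ({t} : Set G) ∧ b * g ∈ normalizer (R : Set G) ∧
      ∀ d ∈ D, b * g * d * (b * g)⁻¹ = g * d * g⁻¹ := by
  obtain ⟨b, hb, hbb⟩ := L.pow_onto.2 _ (L.al_mem hg) h1
  have hconj : ∀ d ∈ D, b * g * d * (b * g)⁻¹ = g * d * g⁻¹ := fun d hd => by
    calc b * g * d * (b * g)⁻¹ = b * (g * d * g⁻¹) * b⁻¹ := by group
      _ = _ := L.A_comm_D hb (L.D_conj (L.normA hg) hd)
  have hC : b * g * t = t * (b * g) := by
    have e1 : g * t = t * (b * b) * g := by rw [hbb, ← L.conj_t]; group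
    have e2 : b * t = t * b⁻¹ := by rw [← L.inv b hb, ← mul_assoc, ← mul_assoc, L.base.t_sq, one_mul]
    calc b * g * t = b * (g * t) := by group
      _ = (b * t) * (b * b) * g := by rw [e1]; group
      _ = t * (b * g) := by rw [e2]; group
  have hN : b * g ∈ normalizer ((A ⊔ zpowers t : Subgroup G) : Set G) :=
    mul_mem (L.mem_N_of_M (mem_sup_left hb)) hg
  refine ⟨b, hb, mem_centralizer_singleton_iff.2 hC, ?_, hconj⟩
  refine mem_normalizer_iff.2 fun x => ?_
  have hfw : ∀ y ∈ normalizer ((A ⊔ zpowers t : Subgroup G) : Set G), y * t = t * y → ∀ x ∈ R,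
      y * x * y⁻¹ ∈ R := by
    intro y hy hyt x hx
    rcases L.base.split x hx with hd | hd
    · exact L.base.hDR (L.D_conj (L.normA hy) hd)
    · have e : y * x * y⁻¹ = t * (y * (t * x) * y⁻¹) := by
        calc y * x * y⁻¹ = y * (t * t) * x * y⁻¹ := by rw [L.base.t_sq, mul_one]
          _ = (y * t) * (t * x) * y⁻¹ := by group
          _ = _ := by rw [hyt]; group
      rw [e]
      exact R.mul_mem L.base.htR (L.base.hDR (L.D_conj (L.normA hy) hd))
  refine ⟨fun hx => hfw _ hN hC x hx, fun hx => ?_⟩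
  have h2 := hfw _ (inv_mem hN) ((Commute.inv_left (hC : Commute (b * g) t)).eq) _ hx
  simpa [mul_assoc] using h2

/-- In a 2-group over `M` the stabiliser of the class of `t` is `M`. -/
theorem mem_M_of_stab [Finite G] {W : Subgroup G} (hW : IsPGroup 2 W) (hMW : A ⊔ zpowers t ≤ W) {x : G}
    (hxW : x ∈ W) (hx : x ∈ normalizer ((A ⊔ zpowers t : Subgroup G) : Set G)) (h1 : del t k x = 1) :
    x ∈ A ⊔ zpowers t := by
  obtain ⟨b, hb, hbC, hbR, -⟩ := L.stab_lift hx h1
  have hbW : b * x ∈ W := W.mul_mem (hMW (mem_sup_left hb)) hxW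
  obtain ⟨a, ha⟩ := (IsPGroup.iff_orderOf.1 hW) ⟨b * x, hbW⟩
  rw [← orderOf_coe] at ha
  have hR := L.RM (L.base.mem_R_of_two_power hbC hbR ha)
  simpa using (A ⊔ zpowers t).mul_mem (mem_sup_left (A.inv_mem hb)) hR

/-- A conjugate of `t` normalised: every `t a` is conjugate when all classes are reached. -/
theorem ta_conj [Finite G] {W : Subgroup G} (hAW : A ≤ W)
    (hW : W ≤ normalizer ((A ⊔ zpowers t : Subgroup G) : Set G))
    (hon : ∀ d ∈ D, ∃ m ∈ W, del t k m = d) {a : G} (ha : a ∈ A) : ∃ w ∈ W, w * t * w⁻¹ = t * a := by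
  obtain ⟨m, hm, hmd⟩ := hon _ (L.pow_mem_D ha)
  have hc : ((al t m)⁻¹ * a) ^ 2 ^ (k - 1) = 1 := by
    rw [L.pow_hom (A.inv_mem (L.al_mem (hW hm))) ha, inv_pow, ← hmd]
    exact inv_mul_cancel _
  obtain ⟨b, hb, hbb⟩ := L.pow_onto.2 _ (A.mul_mem (A.inv_mem (L.al_mem (hW hm))) ha) hc
  refine ⟨b⁻¹ * m, W.mul_mem (hAW (A.inv_mem hb)) hm, ?_⟩
  have e2 : b⁻¹ * t = t * b := by
    rw [← L.inv b hb]
    rw [show t * b * t * t = t * b * (t * t) by group, L.base.t_sq, mul_one]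
  calc b⁻¹ * m * t * (b⁻¹ * m)⁻¹ = b⁻¹ * (m * t * m⁻¹) * b := by group
    _ = (b⁻¹ * t) * al t m * b := by rw [L.conj_t]; group
    _ = t * (b * al t m * b) := by rw [e2]; group
    _ = t * a := by
      congr 1
      rw [L.comm b hb (al t m) (L.al_mem (hW hm)), mul_assoc, hbb, mul_inv_cancel_left]

/-- All classes fixed: no such level above the first. -/
theorem false_fixed [Finite G] [IsSimpleGroup G] (hG : ¬ IsMulCommutative G)
    (hfus : ∀ u ∈ R, (∃ g : G, g * t * g⁻¹ = u) ↔ t * u ∈ D)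
    (hfix : ∀ g ∈ normalizer ((A ⊔ zpowers t : Subgroup G) : Set G), del t k g = 1) : False := by
  refine false_of_transfer hG L.M_two (T := A) ?_ (fun x hx hx2 => ?_) L.base.ht fun g hg => ?_
  · have h := card_mul_index (A.subgroupOf (A ⊔ zpowers t))
    rw [Nat.card_congr (subgroupOfEquivOfLe (le_sup_left : A ≤ A ⊔ zpowers t)).toEquiv, L.card_M,
      mul_comm 2] at h
    exact Nat.eq_of_mul_eq_mul_left Nat.card_pos h
  · exact L.mem_M_of_stab hx2 le_sup_left (mem_sup_right (mem_zpowers x)) hx (hfix x hx)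
  · have hd : g * t * g⁻¹ ∈ D := L.omega _ hg (by
      rw [show g * t * g⁻¹ * (g * t * g⁻¹) = g * (t * t) * g⁻¹ by group, L.base.t_sq]; group)
    exact L.base.td_notMem hd ((hfus _ (L.base.hDR hd)).1 ⟨g, rfl⟩)

end Level

end CfsgLib.TwoTimesPSL
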