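import Cfsg.Agent.TwoTimesPSL.Level

/-!
The affine action of `N(A⟨t⟩)` on `D` and the alternatives it offers.
-/

set_option autoImplicit false
set_option linter.unusedSectionVars false
set_option linter.style.haveILetI false

namespace CfsgLib.TwoTimesPSL

open Subgroup
open Equiv (Perm)

variable {G : Type*} [Group G]

namespace Level

variable {t : G} {R D : Subgroup G} {ρ : G} {n k : ℕ} {A : Subgroup G} (L : Level t R D ρ n k A)
include L

/-- `D` as a commutative group. -/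
@[implicit_reducible]
def commD : CommGroup D :=
  { (inferInstance : Group D) with
    mul_comm := fun a b => Subtype.ext (L.base.comm (L.base.hDR a.2) (L.base.hDR b.2)) }

/-- The affine action. -/
@[implicit_reducible]
def affAction : MulAction (normalizer ((A ⊔ zpowers t : Subgroup G) : Set G)) D where
  smul g d := ⟨del t k (g : G) * ((g : G) * (d : G) * (g : G)⁻¹),
    D.mul_mem (L.del_mem g.2) (L.D_conj (L.normA g.2) d.2)⟩
  one_smul d := Subtype.ext (by
    show del t k (1 : G) * (1 * (d : G) * 1⁻¹) = d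
    rw [L.del_one, one_mul, one_mul, inv_one, mul_one])
  mul_smul g h d := Subtype.ext (by
    show del t k ((g : G) * h) * ((g : G) * h * d * ((g : G) * h)⁻¹) =
      del t k (g : G) * ((g : G) * (del t k (h : G) * ((h : G) * d * (h : G)⁻¹)) * (g : G)⁻¹)
    rw [L.del_mul g.2 h.2]
    group)

/-- The affine representation. -/
def act : normalizer ((A ⊔ zpowers t : Subgroup G) : Set G) →* Perm D :=
  letI := L.affAction
  MulAction.toPermHom _ _

theorem act_apply (g : normalizer ((A ⊔ zpowers t : Subgroup G) : Set G)) (d : D) :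
    ((L.act g d : D) : G) = del t k (g : G) * ((g : G) * (d : G) * (g : G)⁻¹) := rfl

theorem act_one (g : normalizer ((A ⊔ zpowers t : Subgroup G) : Set G)) :
    ((L.act g 1 : D) : G) = del t k (g : G) := by
  rw [L.act_apply]
  show del t k (g : G) * ((g : G) * 1 * (g : G)⁻¹) = _
  rw [mul_one, mul_inv_cancel, mul_one]

theorem lin_act (g : normalizer ((A ⊔ zpowers t : Subgroup G) : Set G)) (d : D) :
    letI := L.commD
    ((lin (L.act g) d : D) : G) = (g : G) * (d : G) * (g : G)⁻¹ := by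
  letI := L.commD
  show ((L.act g d : D) : G) * ((L.act g 1 : D) : G) = _
  rw [L.act_apply, L.act_one, L.base.comm (L.base.hDR (L.del_mem g.2)) (L.base.hDR (L.D_conj (L.normA g.2) d.2)),
    mul_assoc, L.D_sq (L.del_mem g.2), mul_one]

theorem act_eq_one_iff (g : normalizer ((A ⊔ zpowers t : Subgroup G) : Set G)) :
    L.act g = 1 ↔ del t k (g : G) = 1 ∧ ∀ d ∈ D, (g : G) * d * (g : G)⁻¹ = d := by
  refine ⟨fun e => ?_, fun ⟨e1, e2⟩ => Equiv.ext fun d => Subtype.ext ?_⟩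
  · have e1 : del t k (g : G) = 1 := by rw [← L.act_one, e]; rfl
    refine ⟨e1, fun d hd => ?_⟩
    have := L.act_apply g ⟨d, hd⟩
    rw [e, e1, one_mul] at this
    exact this.symm
  · rw [L.act_apply, e1, one_mul]
    exact e2 d d.2

theorem act_of_M {g : normalizer ((A ⊔ zpowers t : Subgroup G) : Set G)} (hg : (g : G) ∈ A ⊔ zpowers t) :
    L.act g = 1 := (L.act_eq_one_iff g).2 ⟨L.del_of_M hg, fun _ hd => L.M_comm_D hg hd⟩

theorem mem_N_of_centralizes {g : G} (hgA : g ∈ normalizer (A : Set G)) (hgt : g ∈ centralizer ({t} : Set G)) :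
    g ∈ normalizer ((A ⊔ zpowers t : Subgroup G) : Set G) := by
  have hfw : ∀ g : G, g ∈ normalizer (A : Set G) → g * t = t * g → ∀ x ∈ A ⊔ zpowers t,
      g * x * g⁻¹ ∈ A ⊔ zpowers t := by
    intro g hgA hgt x hx
    rcases L.mem_M.1 hx with h1 | h1
    · exact mem_sup_left ((mem_normalizer_iff.1 hgA x).1 h1)
    · refine L.mem_M.2 (Or.inr ?_)
      rw [show t * (g * x * g⁻¹) = (t * g) * x * g⁻¹ by group, ← hgt,
        show g * t * x * g⁻¹ = g * (t * x) * g⁻¹ by group]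
      exact (mem_normalizer_iff.1 hgA _).1 h1
  have hgt' := mem_centralizer_singleton_iff.1 hgt
  refine mem_normalizer_iff.2 fun x => ⟨hfw g hgA hgt' x, fun hx => ?_⟩
  have := hfw g⁻¹ (inv_mem hgA) (Commute.inv_left (hgt' : Commute g t)).eq _ hx
  simpa [mul_assoc] using this

theorem del_of_centralizes {g : G} (hgt : g ∈ centralizer ({t} : Set G)) : del t k g = 1 := by
  show (t * (g * t * g⁻¹)) ^ _ = 1
  rw [mem_centralizer_singleton_iff.1 hgt, mul_inv_cancel_right, L.base.t_sq, one_pow]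

theorem pow_conj {r : G} (hr : ∀ d ∈ D, r * d * r⁻¹ = ρ * d * ρ⁻¹) :
    ∀ (i : ℕ), ∀ d ∈ D, r ^ i * d * (r ^ i)⁻¹ = ρ ^ i * d * (ρ ^ i)⁻¹ := by
  intro i
  induction i with
  | zero => intro d _; rw [pow_zero, pow_zero]
  | succ i ih =>
    intro d hd
    have hm : ρ ^ i * d * (ρ ^ i)⁻¹ ∈ D :=
      L.base.hDn _ ((centralizer ({t} : Set G)).pow_mem L.base.hρC i) (pow_mem L.base.hρR i) d hd
    calc r ^ (i + 1) * d * (r ^ (i + 1))⁻¹ = r * (r ^ i * d * (r ^ i)⁻¹) * r⁻¹ := by rw [pow_succ']; group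
      _ = ρ ^ (i + 1) * d * (ρ ^ (i + 1))⁻¹ := by rw [ih d hd, hr _ hm, pow_succ']; group

/-- An element of odd order modulo the kernel: the stabiliser. -/
theorem act_stab_odd [Finite G] (g : normalizer ((A ⊔ zpowers t : Subgroup G) : Set G))
    (h1 : del t k (g : G) = 1) : Odd (orderOf (L.act g)) := by
  obtain ⟨b, hb, hbC, hbR, -⟩ := L.stab_lift g.2 h1
  let g' : normalizer ((A ⊔ zpowers t : Subgroup G) : Set G) :=
    ⟨b, L.mem_N_of_M (mem_sup_left hb)⟩ * g
  have e : L.act g' = L.act g := by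
    rw [map_mul, L.act_of_M (g := ⟨b, L.mem_N_of_M (mem_sup_left hb)⟩) (mem_sup_left hb), one_mul]
  obtain ⟨a, m, hm, ham⟩ := Nat.exists_eq_two_pow_mul_odd (orderOf_pos (g' : G)).ne'
  have hR : (g' : G) ^ m ∈ R := L.base.mem_R_of_two_power ((centralizer ({t} : Set G)).pow_mem hbC m)
    (pow_mem hbR m) (a := a) (by
      rw [orderOf_pow' _ (Nat.pos_iff_ne_zero.1 hm.pos), ham, Nat.gcd_mul_left_left, Nat.mul_div_cancel _ hm.pos])
  rw [← e]
  refine hm.of_dvd_nat (orderOf_dvd_of_pow_eq_one ?_)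
  rw [← map_pow]
  exact L.act_of_M (by rw [SubmonoidClass.coe_pow]; exact L.RM hR)

/-- The action is affine with a torus. -/
theorem exists_affHyp [Finite G] (hne : ∃ g ∈ normalizer ((A ⊔ zpowers t : Subgroup G) : Set G), del t k g ≠ 1) :
    letI := L.commD
    ∃ c : Perm D, AffHyp L.act.range c ∧ ∀ d : D, ((c d : D) : G) = ρ * d * ρ⁻¹ := by
  letI := L.commD
  obtain ⟨r, hrC, -, hrA, hrρ⟩ := L.torus
  set rN : normalizer ((A ⊔ zpowers t : Subgroup G) : Set G) := ⟨r, L.mem_N_of_centralizes hrA hrC⟩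
  have hdel : ∀ i : ℕ, del t k (((rN ^ i : normalizer ((A ⊔ zpowers t : Subgroup G) : Set G))) : G) = 1 :=
    fun i => L.del_of_centralizes (by rw [SubmonoidClass.coe_pow]; exact pow_mem hrC i)
  have hci : ∀ (i : ℕ) (d : D), (((L.act rN ^ i) d : D) : G) = ρ ^ i * d * (ρ ^ i)⁻¹ := fun i d => by
    rw [← map_pow, L.act_apply, hdel, one_mul, SubmonoidClass.coe_pow, L.pow_conj hrρ i d d.2]
  refine ⟨L.act rN, ⟨fun v => Subtype.ext (L.D_sq v.2), ?_, ?_, ?_, ⟨rN, rfl⟩, ?_, ?_, ?_, ?_⟩, fun d => by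
    simpa using hci 1 d⟩
  · rintro _ ⟨g, rfl⟩ a b
    refine Subtype.ext ?_
    show ((L.act g (a * b) : D) : G) = (L.act g a : G) * (L.act g b : G) * (L.act g 1 : G)
    rw [L.act_apply, L.act_apply, L.act_apply, L.act_one]
    set δ := del t k (g : G)
    have hA := L.base.hDR (L.D_conj (L.normA g.2) a.2)
    have hB := L.base.hDR (L.D_conj (L.normA g.2) b.2)
    have hδ := L.base.hDR (L.del_mem g.2)
    calc δ * ((g : G) * ((a : G) * b) * (g : G)⁻¹)
        = δ * ((g : G) * a * (g : G)⁻¹) * (((g : G) * b * (g : G)⁻¹) * (δ * δ)) := by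
          rw [L.D_sq (L.del_mem g.2)]; group
      _ = δ * ((g : G) * a * (g : G)⁻¹) * (δ * ((g : G) * b * (g : G)⁻¹) * δ) := by
          rw [← mul_assoc ((g : G) * b * (g : G)⁻¹), L.base.comm hB hδ]
      _ = _ := by group
  · intro v
    obtain ⟨g, hg, hg1⟩ := hne
    rcases eq_or_ne v 1 with rfl | hv
    · exact ⟨1, one_mem _, rfl⟩
    obtain ⟨i, hi⟩ := L.base.hρtrans _ (L.del_mem hg) v v.2 hg1 fun e => hv (Subtype.ext e)
    refine ⟨L.act (rN ^ i * ⟨g, hg⟩), ⟨_, rfl⟩, Subtype.ext ?_⟩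
    rw [L.act_one]
    show del t k (((rN ^ i : normalizer ((A ⊔ zpowers t : Subgroup G) : Set G)) : G) * g) = v
    rw [L.del_mul (rN ^ i).2 hg, hdel, one_mul, SubmonoidClass.coe_pow]
    exact (L.pow_conj hrρ i _ (L.del_mem hg)).trans hi
  · rintro _ ⟨g, rfl⟩ h1
    refine L.act_stab_odd g ?_
    rw [← L.act_one, h1]; rfl
  · refine Subtype.ext ?_
    rw [L.act_one]
    exact L.del_of_centralizes hrC
  · intro a b ha hb
    obtain ⟨i, hi⟩ := L.base.hρtrans a a.2 b b.2 (fun e => ha (Subtype.ext e)) fun e => hb (Subtype.ext e)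
    exact ⟨i, Subtype.ext ((hci i a).trans hi)⟩
  · rintro _ ⟨g, rfl⟩ h1
    have hg1 : del t k (g : G) = 1 := by rw [← L.act_one, h1]; rfl
    obtain ⟨b, hb, hbC, hbR, hbconj⟩ := L.stab_lift g.2 hg1
    obtain ⟨i, hi⟩ := L.base.hρnorm _ hbC hbR
    refine ⟨i, Equiv.ext fun d => Subtype.ext ?_⟩
    rw [hci, ← hi d d.2, ← map_inv, ← map_mul, ← map_mul, L.act_apply]
    have hd' : del t k (((g * rN * g⁻¹ : normalizer ((A ⊔ zpowers t : Subgroup G) : Set G))) : G) = 1 := by
      have h2 : L.act (g * rN * g⁻¹) 1 = 1 := by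
        rw [map_mul, map_mul, map_inv, Equiv.Perm.mul_apply, Equiv.Perm.mul_apply,
          show (L.act g)⁻¹ 1 = 1 from (Equiv.Perm.inv_eq_iff_eq).2 h1.symm,
          show L.act rN 1 = 1 from Subtype.ext (by rw [L.act_one]; exact L.del_of_centralizes hrC), h1]
      rw [← L.act_one, h2]; rfl
    rw [hd', one_mul]
    show (g : G) * r * (g : G)⁻¹ * d * ((g : G) * r * (g : G)⁻¹)⁻¹ = _
    have hd1 : (g : G)⁻¹ * d * (g : G) ∈ D := by
      have := L.D_conj (inv_mem (L.normA g.2)) d.2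
      rwa [inv_inv] at this
    have hfix : ∀ x ∈ D, ρ * x * ρ⁻¹ ∈ D := fun x hx => L.base.hDn _ L.base.hρC L.base.hρR x hx
    have e1 : (b * (g : G))⁻¹ * d * (b * (g : G)) = (g : G)⁻¹ * d * (g : G) := by
      have h3 : b⁻¹ * (d : G) * b = d := by
        have := L.A_comm_D (A.inv_mem hb) d.2
        rwa [inv_inv] at this
      calc (b * (g : G))⁻¹ * d * (b * (g : G)) = (g : G)⁻¹ * (b⁻¹ * d * b) * (g : G) := by group
        _ = _ := by rw [h3]
    calc (g : G) * r * (g : G)⁻¹ * d * ((g : G) * r * (g : G)⁻¹)⁻¹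
        = (g : G) * (r * ((g : G)⁻¹ * d * (g : G)) * r⁻¹) * (g : G)⁻¹ := by group
      _ = (g : G) * (ρ * ((g : G)⁻¹ * d * (g : G)) * ρ⁻¹) * (g : G)⁻¹ := by rw [hrρ _ hd1]
      _ = b * (g : G) * (ρ * ((b * (g : G))⁻¹ * d * (b * (g : G))) * ρ⁻¹) * (b * (g : G))⁻¹ := by
          rw [e1, hbconj _ (hfix _ hd1)]
      _ = _ := by group
  · have h2 := Nat.pow_le_pow_right (show 0 < 2 by norm_num) L.base.hn
    rw [L.base.hcard]
    omega

end Level

end CfsgLib.TwoTimesPSL
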