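import Mathlib.GroupTheory.Sylow
import Mathlib.GroupTheory.SpecificGroups.Dihedral

/-!
Local data at an involution `t` whose centraliser modulo core has `Z₂ × PSL₂(q)` as the subgroup generated by its
2-elements: either a Sylow 2-subgroup of the centraliser is elementary, or it is `⟨t⟩ ×` dihedral of order `≥ 8`.
-/

set_option autoImplicit false

namespace CfsgLib.TwoTimesPSL

open Subgroup

variable {G : Type*} [Group G]

/-- The dihedral configuration: `L` is the preimage in `C(t)` of the simple part. -/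
structure DihData (t : G) (L R P : Subgroup G) (m : ℕ) : Prop where
  ht : orderOf t = 2
  hL : L ≤ centralizer ({t} : Set G)
  hLn : centralizer ({t} : Set G) ≤ normalizer (L : Set G)
  htL : t ∉ L
  hR : R ≤ centralizer ({t} : Set G)
  hR2 : IsPGroup 2 R
  hRodd : Odd (R.relIndex (centralizer ({t} : Set G)))
  hP : P = R ⊓ L
  hRP : R = zpowers t ⊔ P
  hm : 4 ≤ m
  hiso : Nonempty (P ≃* DihedralGroup m)
  oneClass : ∀ a ∈ L, ∀ b ∈ L, orderOf a = 2 → orderOf b = 2 → ∃ g ∈ L, g * a * g⁻¹ = b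

/-- The elementary configuration: `D` is the Sylow subgroup of the simple part, `ρ` its torus. -/
structure ElemData (t : G) (R D : Subgroup G) (ρ : G) (n : ℕ) : Prop where
  ht : orderOf t = 2
  hR : R ≤ centralizer ({t} : Set G)
  hR2 : IsPGroup 2 R
  hRodd : Odd (R.relIndex (centralizer ({t} : Set G)))
  exp : ∀ x ∈ R, x * x = 1
  htR : t ∈ R
  hDR : D ≤ R
  htD : t ∉ D
  split : ∀ x ∈ R, x ∈ D ∨ t * x ∈ D
  hn : 2 ≤ n
  hcard : Nat.card D = 2 ^ n
  hDn : ∀ g ∈ centralizer ({t} : Set G), g ∈ normalizer (R : Set G) → ∀ d ∈ D, g * d * g⁻¹ ∈ D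
  hρC : ρ ∈ centralizer ({t} : Set G)
  hρR : ρ ∈ normalizer (R : Set G)
  hρodd : Odd (orderOf ρ)
  hρtrans : ∀ a ∈ D, ∀ b ∈ D, a ≠ 1 → b ≠ 1 → ∃ i : ℕ, ρ ^ i * a * (ρ ^ i)⁻¹ = b
  hρnorm : ∀ g ∈ centralizer ({t} : Set G), g ∈ normalizer (R : Set G) →
    ∃ i : ℕ, ∀ d ∈ D, g * ρ * g⁻¹ * d * (g * ρ * g⁻¹)⁻¹ = ρ ^ i * d * (ρ ^ i)⁻¹

end CfsgLib.TwoTimesPSL
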