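import Cfsg.Agent.TwoTimesPSL.LevelAct
import Cfsg.Agent.TwoTimesPSL.Layer

/-!
With all translations present: the next layer, invariant under a torus commuting with `t`.
-/

set_option autoImplicit false
set_option linter.unusedSectionVars false
set_option linter.style.haveILetI false

namespace CfsgLib.TwoTimesPSL

open Subgroup
open Equiv (Perm)

variable {G : Type*} [Group G]

/-- The next layer over a level. -/
structure NextLayer (t : G) (R D : Subgroup G) (ρ : G) (n k : ℕ) (A M1 Q1 : Subgroup G) (r : G) : Prop where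
  M1_two : IsPGroup 2 M1
  MM1 : A ⊔ zpowers t ≤ M1
  M1N : M1 ≤ normalizer ((A ⊔ zpowers t : Subgroup G) : Set G)
  M1D : ∀ m ∈ M1, ∀ d ∈ D, m * d * m⁻¹ = d
  AQ1 : A ≤ Q1
  Q1M1 : Q1 ≤ M1
  index : Q1.relIndex M1 = 2
  htQ : t ∉ Q1
  card : Nat.card Q1 = Nat.card A * 2 ^ n
  onto : ∀ d ∈ D, ∃ x ∈ Q1, Level.del t k x = d
  ker : ∀ x ∈ Q1, Level.del t k x = 1 → x ∈ A
  comm : ∀ x ∈ M1, ∀ y ∈ M1, x * y * x⁻¹ * y⁻¹ ∈ A
  sq : ∀ x ∈ M1, x * x ∈ A
  rC : r ∈ centralizer ({t} : Set G)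
  rodd : Odd (orderOf r)
  rA : r ∈ normalizer (A : Set G)
  rQ : r ∈ normalizer (Q1 : Set G)
  tQ : t ∈ normalizer (Q1 : Set G)
  rρ : ∀ d ∈ D, r * d * r⁻¹ = ρ * d * ρ⁻¹

namespace Level

variable {t : G} {R D : Subgroup G} {ρ : G} {n k : ℕ} {A : Subgroup G} (L : Level t R D ρ n k A)
include L

theorem rho_fpf [Finite G] {d : G} (hd : d ∈ D) (h1 : ρ * d * ρ⁻¹ = d) : d = 1 := by
  by_contra hne
  have hall : ∀ i : ℕ, ρ ^ i * d * (ρ ^ i)⁻¹ = d := fun i => by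
    induction i with
    | zero => simp
    | succ i ih =>
      calc ρ ^ (i + 1) * d * (ρ ^ (i + 1))⁻¹ = ρ * (ρ ^ i * d * (ρ ^ i)⁻¹) * ρ⁻¹ := by rw [pow_succ']; group
        _ = d := by rw [ih, h1]
  have hle : Nat.card D ≤ 2 := by
    classical
    rw [← Nat.card_fin 2]
    refine Nat.card_le_card_of_injective (fun b : D => if (b : G) = 1 then (0 : Fin 2) else 1) fun a b hab => ?_
    by_cases ha : (a : G) = 1 <;> by_cases hb : (b : G) = 1 <;> simp [ha, hb] at hab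
    · exact Subtype.ext (ha.trans hb.symm)
    · obtain ⟨i, hi⟩ := L.base.hρtrans d hd a a.2 hne ha
      obtain ⟨j, hj⟩ := L.base.hρtrans d hd b b.2 hne hb
      rw [hall] at hi hj
      exact Subtype.ext (hi.symm.trans hj)
  rw [L.base.hcard] at hle
  have := Nat.pow_le_pow_right (show 0 < 2 by norm_num) L.base.hn
  omega

theorem exists_nextLayer [Finite G]
    (htr : letI := L.commD; ∀ v : D, tr v ∈ L.act.range) :
    ∃ M1 Q1 r, NextLayer t R D ρ n k A M1 Q1 r := by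
  classical
  letI := L.commD
  haveI : Fact (Nat.Prime 2) := ⟨Nat.prime_two⟩
  set M := A ⊔ zpowers t with hM
  set N := normalizer (M : Set G) with hN
  obtain ⟨d0, hd0, hd01⟩ := L.base.exists_ne_one
  have hne : ∃ g ∈ N, del t k g ≠ 1 := by
    obtain ⟨g, hg⟩ := htr ⟨d0, hd0⟩
    refine ⟨g, g.2, fun e => hd01 ?_⟩
    have e1 := L.act_one g
    rw [hg, e, tr_apply, mul_one] at e1
    exact e1
  obtain ⟨c, hc, hcρ⟩ := L.exists_affHyp hne
  obtain ⟨r0, hr0C, -, hr0A, hr0ρ⟩ := L.torus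
  have hr0N := L.mem_N_of_centralizes hr0A hr0C
  set N1 := N ⊓ centralizer (D : Set G) with hN1
  have hN1D : ∀ g ∈ N1, ∀ d ∈ D, g * d * g⁻¹ = d := fun g hg d hd => by
    rw [← mem_centralizer_iff.1 hg.2 d hd, mul_inv_cancel_right]
  have hMN1 : M ≤ N1 := fun m hm => ⟨L.mem_N_of_M hm, mem_centralizer_iff.2 fun d hd =>
    (mul_inv_eq_iff_eq_mul.1 (L.M_comm_D hm hd)).symm⟩
  let δ : N1 →* D := MonoidHom.mk' (fun g => ⟨del t k (g : G), L.del_mem g.2.1⟩) fun g h => Subtype.ext (by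
    show del t k ((g : G) * h) = del t k (g : G) * del t k (h : G)
    rw [L.del_mul g.2.1 h.2.1, hN1D g g.2 _ (L.del_mem h.2.1)])
  have hδs : Function.Surjective δ := fun v => by
    obtain ⟨g, hg⟩ := htr v
    have e1 : del t k (g : G) = v := by rw [← L.act_one, hg, tr_apply, mul_one]
    refine ⟨⟨g, g.2, mem_centralizer_iff.2 fun d hd => ?_⟩, Subtype.ext e1⟩
    have e2 := L.act_apply g ⟨d, hd⟩
    rw [hg, e1, tr_apply] at e2
    exact (mul_inv_eq_iff_eq_mul.1 (mul_left_cancel e2).symm).symm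
  obtain ⟨P, hP⟩ := (L.M_two.comap_subtype (K := N1)).exists_le_sylow
  set M1 := (P : Subgroup N1).map N1.subtype with hM1
  have hMM1 : M ≤ M1 := fun m hm => ⟨⟨m, hMN1 hm⟩, hP (show (⟨m, hMN1 hm⟩ : N1) ∈ M.comap N1.subtype from hm), rfl⟩
  have hM1N1 : M1 ≤ N1 := map_subtype_le _
  have hM12 : IsPGroup 2 M1 := P.isPGroup'.map _
  have hon : ∀ d ∈ D, ∃ m ∈ M1, del t k m = d := by
    intro d hd
    have htop : (P.mapSurjective hδs : Subgroup D) = ⊤ := by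
      refine ((P.mapSurjective hδs).is_maximal' (Q := ⊤) ?_ le_top).symm
      exact IsPGroup.of_card (n := n) (by rw [card_top, L.base.hcard])
    have hd' : (⟨d, hd⟩ : D) ∈ (P.mapSurjective hδs : Subgroup D) := htop ▸ mem_top _
    obtain ⟨g, hg, e⟩ := hd'
    exact ⟨g, mem_map_of_mem _ hg, congrArg Subtype.val e⟩
  have hdel1 : ∀ g ∈ N1, ∀ h ∈ N1, del t k (g * h) = del t k g * del t k h := fun g hg h hh =>
    show ((δ (⟨g, hg⟩ * ⟨h, hh⟩) : D) : G) = ((δ ⟨g, hg⟩ * δ ⟨h, hh⟩ : D) : G) by rw [map_mul]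
  have hdelinv : ∀ g ∈ N1, del t k g⁻¹ = del t k g := fun g hg => by
    have := congrArg Subtype.val (map_inv δ (⟨g, hg⟩ : N1))
    exact this.trans (L.base.inv_R (L.base.hDR (L.del_mem hg.1)))
  have hker : ∀ m ∈ M1, del t k m = 1 → m ∈ M := fun m hm e => L.mem_M_of_stab hM12 hMM1 hm (hM1N1 hm).1 e
  -- the torus normalising `M1`
  have hr0N1 : ∀ g ∈ N1, r0 * g * r0⁻¹ ∈ N1 := fun g hg => by
    refine ⟨N.mul_mem (N.mul_mem hr0N hg.1) (N.inv_mem hr0N), mem_centralizer_iff.2 fun d hd => ?_⟩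
    have hd' : r0⁻¹ * d * r0 ∈ D := by
      have := L.D_conj (inv_mem hr0A) hd
      rwa [inv_inv] at this
    have e := hN1D g hg _ hd'
    symm
    refine mul_inv_eq_iff_eq_mul.1 ?_
    calc r0 * g * r0⁻¹ * d * (r0 * g * r0⁻¹)⁻¹ = r0 * (g * (r0⁻¹ * d * r0) * g⁻¹) * r0⁻¹ := by group
      _ = d := by rw [e]; group
  obtain ⟨n1, hn1, hn1M⟩ : ∃ n1 ∈ N1, ∀ m ∈ M1, (n1 * r0) * m * (n1 * r0)⁻¹ ∈ M1 := by
    set Qc : Subgroup N1 := (M1.map (MulAut.conj r0).toMonoidHom).subgroupOf N1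
    have hQ2 : IsPGroup 2 Qc := (hM12.map _).comap_subtype
    obtain ⟨P', hP'⟩ := hQ2.exists_le_sylow
    obtain ⟨g, hg⟩ := MulAction.exists_smul_eq N1 P' P
    refine ⟨g, g.2, fun m hm => ?_⟩
    have hm' : (⟨r0 * m * r0⁻¹, hr0N1 m (hM1N1 hm)⟩ : N1) ∈ (P' : Subgroup N1) :=
      hP' (show r0 * m * r0⁻¹ ∈ M1.map (MulAut.conj r0).toMonoidHom from ⟨m, hm, rfl⟩)
    refine ⟨g * ⟨r0 * m * r0⁻¹, hr0N1 m (hM1N1 hm)⟩ * g⁻¹, ?_, ?_⟩
    · rw [← hg]
      exact mem_map_of_mem _ hm'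
    · show (g : G) * (r0 * m * r0⁻¹) * (g : G)⁻¹ = _
      group
  set r1 := n1 * r0
  have hr1N : r1 ∈ N := mul_mem hn1.1 hr0N
  have hr1ρ : ∀ d ∈ D, r1 * d * r1⁻¹ = ρ * d * ρ⁻¹ := fun d hd => by
    calc r1 * d * r1⁻¹ = n1 * (r0 * d * r0⁻¹) * n1⁻¹ := by simp only [r1]; group
      _ = ρ * d * ρ⁻¹ := by rw [hr0ρ d hd, hN1D n1 hn1 _ (L.base.hDn _ L.base.hρC L.base.hρR d hd)]
  obtain ⟨m1, hm1, hm1d⟩ := hon _ (L.del_mem hr1N)
  have h21 : del t k (m1⁻¹ * r1) = 1 := by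
    rw [L.del_mul (inv_mem (hM1N1 hm1).1) hr1N, ← hm1d, ← L.del_mul (inv_mem (hM1N1 hm1).1) (hM1N1 hm1).1,
      inv_mul_cancel, L.del_one]
  obtain ⟨b, hb, hbC, hbR, hbconj⟩ := L.stab_lift (mul_mem (inv_mem (hM1N1 hm1).1) hr1N) h21
  set r3 := b * (m1⁻¹ * r1)
  have hr3M : ∀ m ∈ M1, r3 * m * r3⁻¹ ∈ M1 := fun m hm => by
    have e : r3 * m * r3⁻¹ = (b * m1⁻¹) * (r1 * m * r1⁻¹) * (b * m1⁻¹)⁻¹ := by simp only [r3]; group
    rw [e]
    have hbm : b * m1⁻¹ ∈ M1 := M1.mul_mem (hMM1 (mem_sup_left hb)) (M1.inv_mem hm1)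
    exact M1.mul_mem (M1.mul_mem hbm (hn1M m hm)) (M1.inv_mem hbm)
  have hr3ρ : ∀ d ∈ D, r3 * d * r3⁻¹ = ρ * d * ρ⁻¹ := fun d hd => by
    rw [hbconj d hd, ← hr1ρ d hd]
    calc m1⁻¹ * r1 * d * (m1⁻¹ * r1)⁻¹ = m1⁻¹ * (r1 * d * r1⁻¹) * m1 := by group
      _ = r1 * d * r1⁻¹ := by
          have := hN1D _ (inv_mem (hM1N1 hm1)) _ (L.D_conj (L.normA hr1N) hd)
          rwa [inv_inv] at this
  have hr3N : r3 ∈ N := mul_mem (L.mem_N_of_M (mem_sup_left hb)) (mul_mem (inv_mem (hM1N1 hm1).1) hr1N)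
  obtain ⟨a, m, hm, ham⟩ := Nat.exists_eq_two_pow_mul_odd (orderOf_pos r3).ne'
  obtain ⟨e, he0, he1⟩ := Nat.chineseRemainder ((Nat.coprime_two_left.2 hm).pow_left a) 0 1
  set r := r3 ^ e
  have hrodd : Odd (orderOf r) := by
    refine hm.of_dvd_nat (orderOf_dvd_of_pow_eq_one ?_)
    obtain ⟨j, hj⟩ := Nat.modEq_zero_iff_dvd.1 he0
    rw [show r = r3 ^ e from rfl, ← pow_mul, hj, mul_right_comm, ← ham, pow_mul, pow_orderOf_eq_one, one_pow]
  have hrρ : ∀ d ∈ D, r * d * r⁻¹ = ρ * d * ρ⁻¹ := by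
    intro d hd
    rw [show r = r3 ^ e from rfl, L.pow_conj hr3ρ e d hd]
    have hcpow : ∀ (i : ℕ) (v : D), (((c ^ i) v : D) : G) = ρ ^ i * v * (ρ ^ i)⁻¹ := fun i => by
      induction i with
      | zero => intro v; simp
      | succ i ih => intro v; rw [pow_succ', Equiv.Perm.mul_apply, hcρ, ih, pow_succ']; group
    have h3 : c ^ orderOf r3 = 1 := Equiv.ext fun v => Subtype.ext (by
      rw [hcpow, ← L.pow_conj hr3ρ _ v v.2, pow_orderOf_eq_one, one_mul, inv_one, mul_one]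
      rfl)
    have h4 : c ^ orderOf ρ = 1 := Equiv.ext fun v => Subtype.ext (by
      rw [hcpow, pow_orderOf_eq_one, one_mul, inv_one, mul_one]
      rfl)
    have hcm : orderOf c ∣ m := by
      have h5 := orderOf_dvd_of_pow_eq_one h3
      rw [ham] at h5
      refine (Nat.Coprime.dvd_of_dvd_mul_left ?_ h5)
      exact ((Nat.coprime_two_right.2 (L.base.hρodd.of_dvd_nat (orderOf_dvd_of_pow_eq_one h4))).pow_right a)
    have h6 : c ^ e = c ^ 1 := pow_eq_pow_iff_modEq.2 (he1.of_dvd hcm)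
    have h7 := congrArg (fun σ : Perm D => ((σ ⟨d, hd⟩ : D) : G)) h6
    simp only [hcpow, pow_one] at h7
    exact h7.trans (hcρ _)
  have hrC : r ∈ centralizer ({t} : Set G) := pow_mem hbC e
  have hrM1 : ∀ m ∈ M1, r * m * r⁻¹ ∈ M1 := by
    suffices ∀ j : ℕ, ∀ m ∈ M1, r3 ^ j * m * (r3 ^ j)⁻¹ ∈ M1 from this e
    intro j
    induction j with
    | zero => intro m hm; simpa using hm
    | succ j ih =>
      intro m hm
      have := hr3M _ (ih m hm)
      rw [pow_succ', mul_inv_rev]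
      simpa [mul_assoc] using this
  have hrN : r ∈ N := pow_mem hr3N e
  have hrA : r ∈ normalizer (A : Set G) := L.normA hrN
  -- `M1` modulo `A`
  have hNA : ∀ g ∈ M1, ∀ a ∈ A, g * a * g⁻¹ ∈ A := fun g hg a ha =>
    (mem_normalizer_iff.1 (L.normA (hM1N1 hg).1) a).1 ha
  have hsq : ∀ x ∈ M1, x * x ∈ A := by
    intro x hx
    have hd : del t k (x * x) = 1 := by
      rw [hdel1 x (hM1N1 hx) x (hM1N1 hx)]
      exact L.D_sq (L.del_mem (hM1N1 hx).1)
    rcases L.mem_M.1 (hker _ (M1.mul_mem hx hx) hd) with h1 | h1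
    · exact h1
    exfalso
    set a := t * (x * x) with ha
    have e : x * (t * a) * x⁻¹ = t * a := by rw [ha, ← mul_assoc t, L.base.t_sq, one_mul]; group
    have e2 : x * (t * a) * x⁻¹ = t * (al t x * (x * a * x⁻¹)) := by
      rw [← mul_assoc t (al t x), ← L.conj_t]; group
    rw [e] at e2
    have e3 : a ^ 2 ^ (k - 1) = (al t x * (x * a * x⁻¹)) ^ 2 ^ (k - 1) :=
      congrArg (· ^ 2 ^ (k - 1)) (mul_left_cancel e2)
    rw [L.pow_hom (L.al_mem (hM1N1 hx).1) (hNA x hx a h1), conj_pow,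
      hN1D x (hM1N1 hx) _ (L.pow_mem_D h1)] at e3
    have hxd : del t k x = 1 := by
      show al t x ^ 2 ^ (k - 1) = 1
      exact mul_eq_right.1 e3.symm
    have hxM := hker x hx hxd
    rcases L.mem_M.1 hxM with h2 | h2
    · refine L.htA ?_
      have := A.mul_mem h1 (A.inv_mem (A.mul_mem h2 h2))
      rw [ha, mul_inv_cancel_right] at this
      exact this
    · have h3 : x * x = 1 := by
        rw [show x = t * (t * x) by rw [← mul_assoc, L.base.t_sq, one_mul]]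
        exact L.ta_sq h2
      rw [ha, h3, mul_one] at h1
      exact L.htA h1
  have hcomm : ∀ x ∈ M1, ∀ y ∈ M1, x * y * x⁻¹ * y⁻¹ ∈ A := fun x hx y hy => by
    have e : x * y * x⁻¹ * y⁻¹ = (x * y * (x * y)) * (y⁻¹ * (x⁻¹ * x⁻¹) * y⁻¹⁻¹) * (y⁻¹ * y⁻¹) := by group
    rw [e]
    exact A.mul_mem (A.mul_mem (hsq _ (M1.mul_mem hx hy))
      (hNA _ (M1.inv_mem hy) _ (hsq _ (M1.inv_mem hx)))) (hsq _ (M1.inv_mem hy))
  let ψ : G → G := fun x => r * x * r⁻¹ * x⁻¹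
  have hψM1 : ∀ x ∈ M1, ψ x ∈ M1 := fun x hx => M1.mul_mem (hrM1 x hx) (M1.inv_mem hx)
  let S : Submonoid G :=
    { carrier := {x | x ∈ M1 ∧ ∃ m ∈ M1, (ψ m)⁻¹ * x ∈ A}
      mul_mem' := by
        rintro x y ⟨hx, m, hm, hma⟩ ⟨hy, m', hm', hma'⟩
        refine ⟨M1.mul_mem hx hy, m * m', M1.mul_mem hm hm', ?_⟩
        have h1 : (ψ m * ψ m')⁻¹ * (x * y) ∈ A := by
          have e : (ψ m * ψ m')⁻¹ * (x * y) = ((ψ m')⁻¹ * ((ψ m)⁻¹ * x) * (ψ m')⁻¹⁻¹) * ((ψ m')⁻¹ * y) := by group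
          rw [e]
          exact A.mul_mem (hNA _ (M1.inv_mem (hψM1 m' hm')) _ hma) hma'
        have h2 : (ψ (m * m'))⁻¹ * (ψ m * ψ m') ∈ A := by
          have e : (ψ (m * m'))⁻¹ * (ψ m * ψ m') = m * (ψ m')⁻¹ * m⁻¹ * (ψ m')⁻¹⁻¹ := by
            simp only [ψ]; group
          rw [e]
          exact hcomm m hm _ (M1.inv_mem (hψM1 m' hm'))
        have h3 := A.mul_mem h2 h1
        rw [mul_assoc, mul_inv_cancel_left] at h3
        exact h3
      one_mem' := ⟨M1.one_mem, 1, M1.one_mem, by simp [ψ]⟩ }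
  let Q1 : Subgroup G :=
    { S with
      inv_mem' := fun {x} hx => by
        have hpow : x ^ (orderOf x - 1) ∈ S := S.pow_mem hx _
        have e : x⁻¹ = x ^ (orderOf x - 1) := by
          rw [inv_eq_iff_mul_eq_one, ← pow_succ', Nat.sub_add_cancel (orderOf_pos x), pow_orderOf_eq_one]
        rw [e]; exact hpow }
  have hQmem : ∀ x, x ∈ Q1 ↔ x ∈ M1 ∧ ∃ m ∈ M1, (ψ m)⁻¹ * x ∈ A := fun x => Iff.rfl
  have hdψ : ∀ m ∈ M1, del t k (ψ m) = ρ * del t k m * ρ⁻¹ * del t k m := fun m hm => by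
    show del t k (r * m * r⁻¹ * m⁻¹) = _
    rw [hdel1 _ (hM1N1 (hrM1 m hm)) _ (inv_mem (hM1N1 hm)), hdelinv m (hM1N1 hm),
      L.del_mul (mul_mem hrN (hM1N1 hm).1) (inv_mem hrN), L.del_of_centralizes (inv_mem hrC),
      mul_one, mul_inv_cancel, mul_one, L.del_mul hrN (hM1N1 hm).1, L.del_of_centralizes hrC, one_mul,
      hrρ _ (L.del_mem (hM1N1 hm).1)]
  have hQker : ∀ x ∈ Q1, del t k x = 1 → x ∈ A := by
    intro x hx hd
    obtain ⟨hx1, m, hm, hma⟩ := (hQmem x).1 hx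
    have hM1a := hMM1 (mem_sup_left hma)
    have e : del t k (ψ m) = 1 := by
      have := hdel1 _ (hM1N1 (hψM1 m hm)) _ (hM1N1 hM1a)
      rw [mul_inv_cancel_left, hd, L.del_of_M (mem_sup_left hma), mul_one] at this
      exact this.symm
    rw [hdψ m hm, mul_eq_one_iff_eq_inv, L.base.inv_R (L.base.hDR (L.del_mem (hM1N1 hm).1))] at e
    have hmM := hker m hm (L.rho_fpf (L.del_mem (hM1N1 hm).1) e)
    have hψA : ψ m ∈ A := by
      rcases L.mem_M.1 hmM with h1 | h1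
      · exact A.mul_mem ((mem_normalizer_iff.1 hrA m).1 h1) (A.inv_mem h1)
      · have hrt : r * t = t * r := mem_centralizer_singleton_iff.1 hrC
        have e2 : ψ m = t * (ψ (t * m)) * t⁻¹ := by
          simp only [ψ]
          calc r * m * r⁻¹ * m⁻¹ = r * ((t * t) * m) * r⁻¹ * ((t * t) * m)⁻¹ := by rw [L.base.t_sq, one_mul]
            _ = (r * t) * (t * m) * r⁻¹ * (t * m)⁻¹ * t⁻¹ := by group
            _ = _ := by rw [hrt]; group
        rw [e2]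
        exact (mem_normalizer_iff.1 L.t_norm _).1 (A.mul_mem ((mem_normalizer_iff.1 hrA _).1 h1) (A.inv_mem h1))
    have := A.mul_mem hψA hma
    rwa [mul_inv_cancel_left] at this
  have hAQ : A ≤ Q1 := fun a ha => (hQmem a).2 ⟨hMM1 (mem_sup_left ha), 1, M1.one_mem, by simpa [ψ] using ha⟩
  have hQM : Q1 ≤ M1 := fun x hx => ((hQmem x).1 hx).1
  have honto : ∀ d ∈ D, ∃ x ∈ Q1, del t k x = d := by
    intro d hd
    have hfD : ∀ v : D, ρ * (v : G) * ρ⁻¹ * v ∈ D := fun v =>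
      D.mul_mem (L.base.hDn _ L.base.hρC L.base.hρR v v.2) v.2
    let f : D → D := fun v => ⟨ρ * (v : G) * ρ⁻¹ * v, hfD v⟩
    have hf : Function.Injective f := fun v w e => by
      have e' : ρ * (v : G) * ρ⁻¹ * v = ρ * (w : G) * ρ⁻¹ * w := congrArg Subtype.val e
      refine Subtype.ext ?_
      have hv := L.base.hDR v.2
      have hw := L.base.hDR w.2
      have h1 : ρ * ((v : G) * w) * ρ⁻¹ = (v : G) * w := by
        have hv' := L.base.hDR (L.base.hDn _ L.base.hρC L.base.hρR v v.2)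
        have hw' := L.base.hDR (L.base.hDn _ L.base.hρC L.base.hρR w w.2)
        have e'' : (ρ * (v : G) * ρ⁻¹) = ρ * (w : G) * ρ⁻¹ * w * (v : G)⁻¹ := eq_mul_inv_of_mul_eq e'
        rw [L.base.inv_R hv] at e''
        calc ρ * ((v : G) * w) * ρ⁻¹ = (ρ * v * ρ⁻¹) * (ρ * w * ρ⁻¹) := by group
          _ = ρ * (w : G) * ρ⁻¹ * (w * v) * (ρ * w * ρ⁻¹) := by rw [e'']; group
          _ = (w * v) * (ρ * w * ρ⁻¹ * (ρ * w * ρ⁻¹)) := by
              rw [L.base.comm hw' (R.mul_mem hw hv)]; group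
          _ = (v : G) * w := by rw [L.base.exp _ hw', mul_one, L.base.comm hw hv]
      have := L.rho_fpf (D.mul_mem v.2 w.2) h1
      rw [mul_eq_one_iff_eq_inv, L.base.inv_R hw] at this
      exact this
    obtain ⟨v, hv⟩ := (Finite.injective_iff_surjective.1 hf) ⟨d, hd⟩
    obtain ⟨m, hm, hmv⟩ := hon v v.2
    refine ⟨ψ m, (hQmem _).2 ⟨hψM1 m hm, m, hm, by rw [inv_mul_cancel]; exact A.one_mem⟩, ?_⟩
    rw [hdψ m hm, hmv]
    exact congrArg Subtype.val hv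
  have hcardQ : Nat.card Q1 = Nat.card A * 2 ^ n := by
    let f : Q1 →* D := δ.comp (inclusion (hQM.trans hM1N1))
    have hfr : Function.Surjective f := fun v => by
      obtain ⟨x, hx, hxd⟩ := honto v v.2
      exact ⟨⟨x, hx⟩, Subtype.ext hxd⟩
    have hfk : f.ker = A.subgroupOf Q1 := by
      ext x
      exact ⟨fun hx => hQker x x.2 (congrArg Subtype.val hx),
        fun hx => Subtype.ext (L.del_of_M (mem_sup_left (mem_subgroupOf.1 hx)))⟩
    rw [← card_mul_index f.ker, index_ker, MonoidHom.range_eq_top.2 hfr, card_top, L.base.hcard, hfk,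
      Nat.card_congr (subgroupOfEquivOfLe hAQ).toEquiv]
  have hcardM1 : Nat.card M1 = 2 * Nat.card A * 2 ^ n := by
    let f : M1 →* D := δ.comp (inclusion hM1N1)
    have hfr : Function.Surjective f := fun v => by
      obtain ⟨x, hx, hxd⟩ := hon v v.2
      exact ⟨⟨x, hx⟩, Subtype.ext hxd⟩
    have hfk : f.ker = M.subgroupOf M1 := by
      ext x
      exact ⟨fun hx => hker x x.2 (congrArg Subtype.val hx),
        fun hx => Subtype.ext (L.del_of_M (mem_subgroupOf.1 hx))⟩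
    rw [← card_mul_index f.ker, index_ker, MonoidHom.range_eq_top.2 hfr, card_top, L.base.hcard, hfk,
      Nat.card_congr (subgroupOfEquivOfLe hMM1).toEquiv, hM, L.card_M]
  refine ⟨M1, Q1, r,
    { M1_two := hM12
      MM1 := hMM1
      M1N := fun x hx => (hM1N1 hx).1
      M1D := fun m hm d hd => hN1D m (hM1N1 hm) d hd
      AQ1 := hAQ
      Q1M1 := hQM
      index := ?_
      htQ := fun h => L.htA (hQker t h (L.del_of_M L.t_mem))
      card := hcardQ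
      onto := honto
      ker := hQker
      comm := hcomm
      sq := hsq
      rC := hrC
      rodd := hrodd
      rA := hrA
      rQ := ?_
      tQ := ?_
      rρ := hrρ }⟩
  · have h := card_mul_index (Q1.subgroupOf M1)
    rw [Nat.card_congr (subgroupOfEquivOfLe hQM).toEquiv, hcardM1, hcardQ] at h
    refine Nat.eq_of_mul_eq_mul_left (show 0 < Nat.card A * 2 ^ n from Nat.mul_pos Nat.card_pos (by positivity)) ?_
    rw [show Q1.relIndex M1 = (Q1.subgroupOf M1).index from rfl, h]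
    ring
  · refine CfsgLib.TwoTimesPSL.mem_normalizer_of_forward fun x hx => ?_
    obtain ⟨hx1, m, hm, hma⟩ := (hQmem x).1 hx
    refine (hQmem _).2 ⟨hrM1 x hx1, r * m * r⁻¹, hrM1 m hm, ?_⟩
    have e : (ψ (r * m * r⁻¹))⁻¹ * (r * x * r⁻¹) = r * ((ψ m)⁻¹ * x) * r⁻¹ := by simp only [ψ]; group
    rw [e]
    exact (mem_normalizer_iff.1 hrA _).1 hma
  · refine CfsgLib.TwoTimesPSL.mem_normalizer_of_forward fun x hx => ?_
    obtain ⟨hx1, m, hm, hma⟩ := (hQmem x).1 hx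
    have ht1 : t ∈ M1 := hMM1 L.t_mem
    refine (hQmem _).2 ⟨M1.mul_mem (M1.mul_mem ht1 hx1) (M1.inv_mem ht1), t * m * t⁻¹,
      M1.mul_mem (M1.mul_mem ht1 hm) (M1.inv_mem ht1), ?_⟩
    have hrt : r * t = t * r := mem_centralizer_singleton_iff.1 hrC
    have hrt' : t⁻¹ * r⁻¹ = r⁻¹ * t⁻¹ := by rw [← mul_inv_rev, hrt, mul_inv_rev]
    have e : ψ (t * m * t⁻¹) = t * ψ m * t⁻¹ := by
      simp only [ψ]
      calc r * (t * m * t⁻¹) * r⁻¹ * (t * m * t⁻¹)⁻¹ = (r * t) * m * (t⁻¹ * r⁻¹) * t * m⁻¹ * t⁻¹ := by group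
        _ = _ := by rw [hrt, hrt']; group
    rw [e, show (t * ψ m * t⁻¹)⁻¹ * (t * x * t⁻¹) = t * ((ψ m)⁻¹ * x) * t⁻¹ by group]
    exact (mem_normalizer_iff.1 L.t_norm _).1 hma

end Level

end CfsgLib.TwoTimesPSL
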